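import Cfsg.Agent.Lib.Transvect.Basic
import Cfsg.Agent.Lib.Frobenius.Complement

/-!
# Maximality of subfield subgroups: the common machinery

Vectors and functionals rational over `F₀`, generic vectors (killed by no rational functional),
the subfield group with `P = 1`, intermediate fields, and the contradiction: a group whose
two-point stabilisers are scalar has no non-cyclic elementary abelian point stabiliser.
-/

set_option autoImplicit false
set_option linter.unusedSectionVars false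

namespace Cfsg.Agent.C5

open Matrix Cfsg.Agent.Transvect

variable {ι : Type} [Fintype ι] [DecidableEq ι] {F : Type*} [Field F] (F₀ : Subfield F)

/-- A vector with coordinates in the subfield. -/
def Rat (v : ι → F) : Prop := ∀ i, v i ∈ F₀

/-- A functional with coefficients in the subfield. -/
def RatF (φ : (ι → F) →ₗ[F] F) : Prop := ∀ v, Rat F₀ v → φ v ∈ F₀

/-- A vector killed by no rational functional. -/
def Generic (w : ι → F) : Prop := ∀ φ : (ι → F) →ₗ[F] F, RatF F₀ φ → φ w = 0 → φ = 0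

/-- A multiple of a rational vector. -/
def RatLine (w : ι → F) : Prop := ∃ (c : F) (v : ι → F), Rat F₀ v ∧ w = c • v

variable {F₀}

lemma Rat.zero : Rat F₀ (0 : ι → F) := fun _ => F₀.zero_mem

lemma Rat.add {u v : ι → F} (hu : Rat F₀ u) (hv : Rat F₀ v) : Rat F₀ (u + v) :=
  fun i => F₀.add_mem (hu i) (hv i)

lemma Rat.sub {u v : ι → F} (hu : Rat F₀ u) (hv : Rat F₀ v) : Rat F₀ (u - v) :=
  fun i => F₀.sub_mem (hu i) (hv i)

lemma Rat.smul {c : F} (hc : c ∈ F₀) {v : ι → F} (hv : Rat F₀ v) : Rat F₀ (c • v) :=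
  fun i => F₀.mul_mem hc (hv i)

lemma rat_single (i : ι) : Rat F₀ (Pi.single i 1 : ι → F) := fun j => by
  by_cases h : j = i
  · subst h; simp [F₀.one_mem]
  · simp [h, F₀.zero_mem]

lemma RatF.add {φ ψ : (ι → F) →ₗ[F] F} (hφ : RatF F₀ φ) (hψ : RatF F₀ ψ) : RatF F₀ (φ + ψ) :=
  fun v hv => F₀.add_mem (hφ v hv) (hψ v hv)

lemma RatF.sub {φ ψ : (ι → F) →ₗ[F] F} (hφ : RatF F₀ φ) (hψ : RatF F₀ ψ) : RatF F₀ (φ - ψ) :=
  fun v hv => F₀.sub_mem (hφ v hv) (hψ v hv)

lemma RatF.smul {c : F} (hc : c ∈ F₀) {φ : (ι → F) →ₗ[F] F} (hφ : RatF F₀ φ) : RatF F₀ (c • φ) :=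
  fun v hv => F₀.mul_mem hc (hφ v hv)

lemma ratF_proj (i : ι) : RatF F₀ (LinearMap.proj i : (ι → F) →ₗ[F] F) := fun _ hv => hv i

lemma ratF_of_single {φ : (ι → F) →ₗ[F] F} (h : ∀ i, φ (Pi.single i 1) ∈ F₀) : RatF F₀ φ := by
  intro v hv
  rw [pi_eq_sum_univ' v, map_sum]
  exact F₀.sum_mem fun i _ => by rw [map_smul, smul_eq_mul]; exact F₀.mul_mem (hv i) (h i)

lemma exists_rat_ne_zero {φ : (ι → F) →ₗ[F] F} (hφ : φ ≠ 0) : ∃ v, Rat F₀ v ∧ φ v ≠ 0 := by
  by_contra! h
  refine hφ (LinearMap.ext fun x => ?_)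
  rw [pi_eq_sum_univ' x, map_sum, LinearMap.zero_apply]
  exact Finset.sum_eq_zero fun i _ => by rw [map_smul, h _ (rat_single i), smul_zero]

lemma exists_ratF_eq_one {v : ι → F} (hv : Rat F₀ v) (hv0 : v ≠ 0) :
    ∃ φ : (ι → F) →ₗ[F] F, RatF F₀ φ ∧ φ v = 1 := by
  obtain ⟨i, hi⟩ := Function.ne_iff.1 hv0
  exact ⟨(v i)⁻¹ • LinearMap.proj i, (ratF_proj i).smul (F₀.inv_mem (hv i)),
    by simp [inv_mul_cancel₀ (show v i ≠ 0 from hi)]⟩

lemma mem_of_smul_rat {c : F} {v : ι → F} (hv : Rat F₀ v) (hv0 : v ≠ 0)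
    (h : Rat F₀ (c • v)) : c ∈ F₀ := by
  obtain ⟨φ, hφ, h1⟩ := exists_ratF_eq_one hv hv0
  have := hφ _ h
  rwa [map_smul, h1, smul_eq_mul, mul_one] at this

/-- A non-zero rational functional killing `k` given rational vectors, for `k < n`. -/
lemma exists_ratF_kill {k : ℕ} (hk : k < Fintype.card ι) {v : Fin k → ι → F}
    (hv : ∀ j, Rat F₀ (v j)) : ∃ φ : (ι → F) →ₗ[F] F, RatF F₀ φ ∧ φ ≠ 0 ∧ ∀ j, φ (v j) = 0 := by
  classical
  let L : (ι → F₀) →ₗ[F₀] (Fin k → F₀) :=
    Matrix.mulVecLin (Matrix.of fun j i => (⟨v j i, hv j i⟩ : F₀))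
  have hker : LinearMap.ker L ≠ ⊥ := fun h => by
    have := LinearMap.finrank_le_finrank_of_injective (LinearMap.ker_eq_bot.1 h)
    simp at this
    omega
  obtain ⟨a, ha, ha0⟩ := Submodule.exists_mem_ne_zero_of_ne_bot hker
  refine ⟨∑ i, (a i : F) • LinearMap.proj i, fun u hu => ?_, fun h => ha0 ?_, fun j => ?_⟩
  · simp only [LinearMap.sum_apply, LinearMap.smul_apply, LinearMap.proj_apply, smul_eq_mul]
    exact F₀.sum_mem fun i _ => F₀.mul_mem (a i).2 (hu i)
  · funext i
    have := LinearMap.congr_fun h (Pi.single i 1)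
    simpa [Finset.sum_apply, Pi.single_apply] using this
  · have := congrArg Subtype.val (congrFun (show L a = 0 from ha) j)
    simp only [L, Matrix.mulVecLin_apply, Matrix.mulVec, dotProduct, Matrix.of_apply,
      Pi.zero_apply] at this
    simp only [LinearMap.sum_apply, LinearMap.smul_apply, LinearMap.proj_apply, smul_eq_mul]
    push_cast at this
    rw [← this]
    exact Finset.sum_congr rfl fun i _ => mul_comm _ _

lemma RatLine.smul {w : ι → F} (h : RatLine F₀ w) (a : F) : RatLine F₀ (a • w) := by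
  obtain ⟨c, v, hv, rfl⟩ := h
  exact ⟨a * c, v, hv, smul_smul _ _ _⟩

lemma RatLine.of_smul {w : ι → F} {a : F} (ha : a ≠ 0) (h : RatLine F₀ (a • w)) : RatLine F₀ w := by
  have := h.smul a⁻¹
  rwa [inv_smul_smul₀ ha] at this

lemma Generic.not_ratLine (h2 : 1 < Fintype.card ι) {w : ι → F} (hw : Generic F₀ w) :
    ¬ RatLine F₀ w := by
  rintro ⟨c, v, hv, rfl⟩
  obtain ⟨φ, hφ, hφ0, hk⟩ := exists_ratF_kill h2 (v := ![v]) (fun j => by fin_cases j; exact hv)
  exact hφ0 (hw φ hφ (by rw [map_smul, show φ v = 0 from hk 0, smul_zero]))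

lemma Generic.not_mem_span_pair (h3 : 2 < Fintype.card ι) {w : ι → F} (hw : Generic F₀ w)
    {u v : ι → F} (hu : Rat F₀ u) (hv : Rat F₀ v) : w ∉ Submodule.span F {u, v} := by
  intro h
  obtain ⟨a, b, rfl⟩ := Submodule.mem_span_pair.1 h
  obtain ⟨φ, hφ, hφ0, hk⟩ := exists_ratF_kill h3 (v := ![u, v])
    (fun j => by fin_cases j <;> assumption)
  exact hφ0 (hw φ hφ (by
    rw [map_add, map_smul, map_smul, show φ u = 0 from hk 0, show φ v = 0 from hk 1]; simp))

/-! ### The subfield group with `P = 1` -/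

lemma ratLine_mem_iff {g : GL ι F} : g ∈ Cfsg.Geo.subfieldSubgroup F₀ 1 ↔
    ∃ l : F, l ≠ 0 ∧ ∀ u, Rat F₀ u → Rat F₀ (l⁻¹ • app g u) := by
  constructor
  · intro hg
    obtain ⟨y, hy, rfl⟩ := hg
    simp only [MulEquiv.coe_toMonoidHom, MulAut.conj_apply, one_mul, inv_one, mul_one]
    rw [Subgroup.sup_eq_closure] at hy
    induction hy using Subgroup.closure_induction with
    | mem a ha =>
      rcases ha with ⟨A, rfl⟩ | ⟨c, rfl⟩
      · refine ⟨1, one_ne_zero, fun u hu i => ?_⟩
        rw [inv_one, one_smul]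
        show ((A : Matrix ι ι F₀).map F₀.subtype *ᵥ u) i ∈ F₀
        exact F₀.sum_mem fun j _ => F₀.mul_mem (A i j).2 (hu j)
      · refine ⟨c, c.ne_zero, fun u hu i => ?_⟩
        show (c : F)⁻¹ * (Matrix.scalar ι (c : F) *ᵥ u) i ∈ F₀
        simp [Matrix.mulVec_diagonal, hu i]
    | one => exact ⟨1, one_ne_zero, fun u hu => by simpa using hu⟩
    | mul a b _ _ iha ihb =>
      obtain ⟨la, hla, ha⟩ := iha
      obtain ⟨lb, hlb, hb⟩ := ihb
      refine ⟨la * lb, mul_ne_zero hla hlb, fun u hu => ?_⟩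
      have := ha _ (hb u hu)
      rw [map_smul, smul_smul] at this
      rwa [map_mul, LinearEquiv.mul_apply, mul_inv]
    | inv a _ iha =>
      obtain ⟨la, hla, ha⟩ := iha
      refine ⟨la⁻¹, inv_ne_zero hla, fun u hu => ?_⟩
      let L : (ι → F₀) →ₗ[F₀] (ι → F₀) :=
        { toFun := fun x i => ⟨_, ha (fun j => (x j : F)) (fun j => (x j).2) i⟩
          map_add' := fun x y => funext fun i => Subtype.ext (by
            show (la⁻¹ • app a ((fun j => (x j : F)) + fun j => (y j : F))) i = _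
            rw [map_add, smul_add]; rfl)
          map_smul' := fun c x => funext fun i => Subtype.ext (by
            show (la⁻¹ • app a ((c : F) • fun j => (x j : F))) i = _
            rw [map_smul, smul_comm]; rfl) }
      have hinj : Function.Injective L := fun x y h => by
        have h' : la⁻¹ • app a (fun j => (x j : F)) = la⁻¹ • app a (fun j => (y j : F)) :=
          funext fun i => congrArg Subtype.val (congrFun h i)
        have := (app a).injective (smul_right_injective _ (inv_ne_zero hla) h')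
        exact funext fun j => Subtype.ext (congrFun this j)
      obtain ⟨x, hx⟩ := (LinearMap.injective_iff_surjective.1 hinj) fun j => ⟨u j, hu j⟩
      have hx' : la⁻¹ • app a (fun j => (x j : F)) = u :=
        funext fun i => congrArg Subtype.val (congrFun hx i)
      rw [inv_inv, ← hx', map_smul, app_inv_app, smul_smul, mul_inv_cancel₀ hla, one_smul]
      exact fun j => (x j).2
  · rintro ⟨l, hl, h⟩
    let A : Matrix ι ι F₀ := Matrix.of fun i j => ⟨_, h _ (rat_single j) i⟩
    let s : GL ι F := Units.map (Matrix.scalar ι : F →+* Matrix ι ι F).toMonoidHom (Units.mk0 l hl)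
    have hs : ∀ w : ι → F, app s w = l • w := fun w => by
      ext i
      show (Matrix.scalar ι l *ᵥ w) i = _
      simp [Matrix.mulVec_diagonal]
    have hA : A.map F₀.subtype = ((s⁻¹ * g : GL ι F) : Matrix ι ι F) := by
      refine Matrix.ext_of_mulVec_single fun j => ?_
      rw [← app_apply (s⁻¹ * g)]
      apply (app s).injective
      rw [map_mul, LinearEquiv.mul_apply, app_app_inv, hs, Matrix.mulVec_single_one]
      funext i
      simp [A, mul_inv_cancel_left₀ hl]
    have hdet : IsUnit A.det := by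
      rw [isUnit_iff_ne_zero]
      intro h0
      have h1 : (A.map F₀.subtype).det = F₀.subtype A.det := (RingHom.map_det _ A).symm
      rw [hA, h0, map_zero] at h1
      exact ((s⁻¹ * g).isUnit.map Matrix.detMonoidHom).ne_zero h1
    refine ⟨g, ?_, by simp⟩
    rw [show g = s * (s⁻¹ * g) by rw [mul_inv_cancel_left]]
    exact mul_mem (Subgroup.mem_sup_right ⟨_, rfl⟩)
      (Subgroup.mem_sup_left ⟨Matrix.GeneralLinearGroup.mk'' A hdet, Units.ext hA⟩)

/-- A rational endomorphism fixing a rational point and a generic point is scalar. -/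
theorem scalar_of_fix {g : GL ι F} (hg : g ∈ Cfsg.Geo.subfieldSubgroup F₀ 1) {e w : ι → F}
    (he : Rat F₀ e) (he0 : e ≠ 0) (hw : Generic F₀ w) {a b : F} (h1 : app g e = a • e)
    (h2 : app g w = b • w) : ∀ x, app g x = a • x := by
  classical
  obtain ⟨l, hl, hlr⟩ := ratLine_mem_iff.1 hg
  let L : (ι → F) →ₗ[F] (ι → F) := l⁻¹ • (app g).toLinearMap - (l⁻¹ * a) • LinearMap.id
  have hc : l⁻¹ * a ∈ F₀ :=
    mem_of_smul_rat he he0 (by rw [← smul_smul, ← h1]; exact hlr e he)
  have hL : ∀ u, Rat F₀ u → Rat F₀ (L u) := fun u hu => (hlr u hu).sub (hu.smul hc)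
  have hLe : L e = 0 := by simp [L, h1, smul_smul]
  have hLw : L w = (l⁻¹ * (b - a)) • w := by
    simp [L, h2, smul_smul, ← sub_smul, mul_sub]
  -- a rational functional killing the image
  let A : Matrix ι ι F₀ := Matrix.of fun i j => ⟨_, hL _ (rat_single j) i⟩
  have hA : ∀ x, A.map F₀.subtype *ᵥ x = L x := fun x => by
    conv_rhs => rw [pi_eq_sum_univ' x, map_sum]
    funext i
    simp [Matrix.mulVec, dotProduct, A, mul_comm]
  have hdet : A.det = 0 := by
    have h0 : (A.map F₀.subtype).det = 0 :=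
      Matrix.exists_mulVec_eq_zero_iff.1 ⟨e, he0, by rw [hA, hLe]⟩
    rw [show (A.map F₀.subtype).det = F₀.subtype A.det from (RingHom.map_det _ A).symm] at h0
    exact (map_eq_zero _).1 h0
  obtain ⟨c, hc0, hcA⟩ := Matrix.exists_vecMul_eq_zero_iff.2 hdet
  let θ : (ι → F) →ₗ[F] F := ∑ i, (c i : F) • LinearMap.proj i
  have hθap : ∀ x, θ x = ∑ i, (c i : F) * x i := fun x => by simp [θ, LinearMap.sum_apply]
  have hθ : RatF F₀ θ := fun u hu => by
    rw [hθap]; exact F₀.sum_mem fun i _ => F₀.mul_mem (c i).2 (hu i)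
  have hθ0 : θ ≠ 0 := fun h => hc0 (funext fun i => Subtype.ext (by
    have := LinearMap.congr_fun h (Pi.single i 1)
    simpa [hθap, Pi.single_apply] using this))
  have hθL : θ ∘ₗ L = 0 := by
    refine LinearMap.ext fun x => ?_
    have h3 : ∀ j, θ (L (Pi.single j 1)) = 0 := fun j => by
      have := congrArg Subtype.val (congrFun hcA j)
      simp only [Matrix.vecMul, dotProduct, Pi.zero_apply] at this
      push_cast at this
      rw [hθap, ← this]
      rfl
    rw [pi_eq_sum_univ' x, map_sum, LinearMap.zero_apply]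
    exact Finset.sum_eq_zero fun j _ => by rw [map_smul, LinearMap.comp_apply, h3, smul_zero]
  have hba : b = a := by
    have h4 : θ (L w) = 0 := LinearMap.congr_fun hθL w
    rw [hLw, map_smul, smul_eq_mul] at h4
    have h5 : θ w ≠ 0 := fun h => hθ0 (hw θ hθ h)
    exact sub_eq_zero.1 ((mul_eq_zero.1 ((mul_eq_zero.1 h4).resolve_right h5)).resolve_left
      (inv_ne_zero hl))
  intro x
  have h6 : L x = 0 := funext fun i =>
    LinearMap.congr_fun (hw (LinearMap.proj i ∘ₗ L) (fun u hu => hL u hu i)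
      (by simp [LinearMap.comp_apply, hLw, hba])) x
  have h7 : l⁻¹ • app g x = (l⁻¹ * a) • x := sub_eq_zero.1 h6
  rw [← smul_smul] at h7
  exact smul_right_injective _ (inv_ne_zero hl) h7

/-- Transvection-like maps with a scalar value are trivial. -/
lemma eq_one_of_scalar {g : GL ι F} {e : ι → F} (he0 : e ≠ 0) (he : app g e = e) {a : F}
    (h : ∀ x, app g x = a • x) : g = 1 := by
  have ha : a = 1 := smul_left_injective F he0 (show a • e = (1 : F) • e by rw [← h, he, one_smul])
  exact gl_ext fun x => by rw [h, ha, one_smul, map_one]; rfl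

/-! ### Fields between `F₀` and `F` -/

variable [Fintype F]

/-- There is no field strictly between `F₀` and `F`. -/
theorem subfield_eq_or_top {r : ℕ} (hr : r.Prime) (hcard : Fintype.card F = Nat.card F₀ ^ r)
    {K : Subfield F} (hK : F₀ ≤ K) : K = F₀ ∨ K = ⊤ := by
  classical
  letI : Algebra F₀ K := (Subfield.inclusion hK).toAlgebra
  have : IsScalarTower F₀ K F := IsScalarTower.of_algebraMap_eq fun x => rfl
  have h1 := Module.natCard_eq_pow_finrank (K := F₀) (V := F)
  have hrF : Module.finrank F₀ F = r := by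
    rw [Nat.card_eq_fintype_card, hcard] at h1
    exact (Nat.pow_right_injective Finite.one_lt_card h1).symm
  have h2 := Module.finrank_mul_finrank F₀ K F
  rw [hrF] at h2
  rcases Nat.prime_mul_iff.1 (h2 ▸ hr) with ⟨-, h3⟩ | ⟨-, h3⟩
  · right
    refine eq_top_iff.2 fun x _ => ?_
    obtain ⟨c, hc⟩ := (finrank_eq_one_iff_of_nonzero' (1 : F) one_ne_zero).1 h3 x
    rw [← hc]
    show (c : F) * 1 ∈ K
    rw [mul_one]; exact c.2
  · left
    refine le_antisymm (fun x hx => ?_) hK
    obtain ⟨c, hc⟩ := (finrank_eq_one_iff_of_nonzero' (1 : K) one_ne_zero).1 h3 ⟨x, hx⟩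
    have := congrArg Subtype.val hc
    simp only [Algebra.smul_def, mul_one] at this
    rw [← this]
    exact c.2

/-- A set closed under the field operations and containing `F₀` properly is everything. -/
theorem mem_of_closed {r : ℕ} (hr : r.Prime) (hcard : Fintype.card F = Nat.card F₀ ^ r)
    {S : Set F} (h0 : ∀ x ∈ F₀, x ∈ S) (hadd : ∀ x ∈ S, ∀ y ∈ S, x + y ∈ S)
    (hmul : ∀ x ∈ S, ∀ y ∈ S, x * y ∈ S) {x : F} (hx : x ∈ S) (hxn : x ∉ F₀) (y : F) : y ∈ S := by
  have hpow : ∀ z ∈ S, ∀ k : ℕ, z ^ (k + 1) ∈ S := fun z hz k => by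
    induction k with
    | zero => simpa using hz
    | succ k ih => rw [pow_succ]; exact hmul _ ih _ hz
  let K : Subfield F :=
    { carrier := S
      zero_mem' := h0 0 F₀.zero_mem
      one_mem' := h0 1 F₀.one_mem
      add_mem' := fun {a b} ha hb => hadd a ha b hb
      mul_mem' := fun {a b} ha hb => hmul a ha b hb
      neg_mem' := fun {a} ha => by
        rw [← neg_one_mul]; exact hmul _ (h0 _ (F₀.neg_mem F₀.one_mem)) _ ha
      inv_mem' := fun a ha => by
        by_cases ha0 : a = 0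
        · rw [ha0, _root_.inv_zero]; exact h0 0 F₀.zero_mem
        · have h1 : a ^ (Fintype.card F - 2) * a = 1 := by
            rw [← pow_succ, show Fintype.card F - 2 + 1 = Fintype.card F - 1 by
              have := Fintype.one_lt_card (α := F); omega, FiniteField.pow_card_sub_one_eq_one a ha0]
          rw [← eq_inv_of_mul_eq_one_left h1]
          rcases hk : Fintype.card F - 2 with _ | k
          · rw [pow_zero]; exact h0 1 F₀.one_mem
          · exact hpow a ha k }
  rcases subfield_eq_or_top (K := K) hr hcard h0 with h | h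
  · exact absurd (show x ∈ K from hx) (by rw [h]; exact hxn)
  · show y ∈ K
    rw [h]; trivial

/-- No non-trivial quadratic relation for an element outside `F₀` in odd prime degree. -/
theorem quad_zero {r : ℕ} (hr : r.Prime) (hr3 : 3 ≤ r) (hcard : Fintype.card F = Nat.card F₀ ^ r)
    {μ : F} (hμ : μ ∉ F₀) {a b c : F} (ha : a ∈ F₀) (hb : b ∈ F₀) (hc : c ∈ F₀)
    (h : a + b * μ + c * (μ * μ) = 0) : a = 0 ∧ b = 0 ∧ c = 0 := by
  have hb0 : c = 0 → a = 0 ∧ b = 0 := fun hc0 => by
    rw [hc0, zero_mul, add_zero] at h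
    by_cases hb0 : b = 0
    · exact ⟨by simpa [hb0] using h, hb0⟩
    · exfalso
      apply hμ
      rw [show μ = -a * b⁻¹ by field_simp; linear_combination h]
      exact F₀.mul_mem (F₀.neg_mem ha) (F₀.inv_mem hb)
  by_cases hc0 : c = 0
  · exact ⟨(hb0 hc0).1, (hb0 hc0).2, hc0⟩
  exfalso
  let S : Set F := {z | ∃ x ∈ F₀, ∃ y ∈ F₀, x + y * μ = z}
  have hsq : μ * μ = -a * c⁻¹ + (-b * c⁻¹) * μ := by field_simp; linear_combination h
  have hall := mem_of_closed (S := S) hr hcard (fun x hx => ⟨x, hx, 0, F₀.zero_mem, by ring⟩)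
    (fun x ⟨x1, h1, x2, h2, e⟩ y ⟨y1, h3, y2, h4, e'⟩ =>
      ⟨x1 + y1, F₀.add_mem h1 h3, x2 + y2, F₀.add_mem h2 h4, by rw [← e, ← e']; ring⟩)
    (fun x ⟨x1, h1, x2, h2, e⟩ y ⟨y1, h3, y2, h4, e'⟩ =>
      ⟨x1 * y1 + x2 * y2 * (-a * c⁻¹),
        F₀.add_mem (F₀.mul_mem h1 h3) (F₀.mul_mem (F₀.mul_mem h2 h4)
          (F₀.mul_mem (F₀.neg_mem ha) (F₀.inv_mem hc))),
        x1 * y2 + x2 * y1 + x2 * y2 * (-b * c⁻¹),
        F₀.add_mem (F₀.add_mem (F₀.mul_mem h1 h4) (F₀.mul_mem h2 h3)) (F₀.mul_mem (F₀.mul_mem h2 h4)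
          (F₀.mul_mem (F₀.neg_mem hb) (F₀.inv_mem hc))),
        by rw [← e, ← e']; linear_combination -(x2 * y2) * hsq⟩)
    (x := μ) ⟨0, F₀.zero_mem, 1, F₀.one_mem, by ring⟩ hμ
  have hle : Nat.card F ≤ Nat.card (F₀ × F₀) :=
    Nat.card_le_card_of_surjective (fun z : F₀ × F₀ => (z.1 : F) + (z.2 : F) * μ) fun y => by
      obtain ⟨x, hx, x', hx', e⟩ := hall y
      exact ⟨(⟨x, hx⟩, ⟨x', hx'⟩), e⟩
  rw [Nat.card_prod, Nat.card_eq_fintype_card (α := F), hcard, ← sq] at hle
  have := Nat.pow_lt_pow_right (Finite.one_lt_card (α := F₀)) (show 2 < r by omega)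
  omega

/-- A generic vector in dimension at least three forces degree at least three. -/
theorem three_le_degree {r : ℕ} (hcard : Fintype.card F = Nat.card F₀ ^ r) (h3 : 3 ≤ Fintype.card ι)
    {w : ι → F} (hw : Generic F₀ w) : 3 ≤ r := by
  have hinj : Function.Injective fun a : ι → F₀ => ∑ i, (a i : F) * w i := fun a b hab => by
    have h := hw (∑ i, ((a i : F) - b i) • LinearMap.proj i) (fun u hu => by
        simp only [LinearMap.sum_apply, LinearMap.smul_apply, LinearMap.proj_apply, smul_eq_mul]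
        exact F₀.sum_mem fun i _ => F₀.mul_mem (F₀.sub_mem (a i).2 (b i).2) (hu i))
      (by simpa [LinearMap.sum_apply, sub_mul] using sub_eq_zero.2 hab)
    funext j
    have := LinearMap.congr_fun h (Pi.single j 1)
    exact Subtype.ext (sub_eq_zero.1 (by simpa [LinearMap.sum_apply, Pi.single_apply] using this))
  have h1 := Nat.card_le_card_of_injective _ hinj
  rw [Nat.card_fun, Nat.card_eq_fintype_card (α := F), Nat.card_eq_fintype_card (α := ι), hcard] at h1
  have := (Nat.pow_le_pow_iff_right (Finite.one_lt_card (α := F₀))).1 h1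
  omega

/-! ### The group-theoretic contradiction -/

theorem false_of_semiregular {G : Type*} [Group G] [Finite G] {X : Type*} [MulAction G X] (e : X)
    (hmove : ∃ g : G, g • e ≠ e)
    (hfree : ∀ g k : G, g • e ≠ e → k • e = e → k • (g • e) = g • e → k = 1)
    {p : ℕ} (hp : p.Prime) {x y : G} (hx : x • e = e) (hy : y • e = e) (hxp : orderOf x = p)
    (hyp : orderOf y = p) (hc : Commute x y) (hxy : x ∉ Subgroup.zpowers y) : False := by
  obtain ⟨g₀, hg₀⟩ := hmove
  set H := MulAction.stabilizer G e with hH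
  have hF : Cfsg.IsFrobeniusComplement H := by
    refine ⟨fun h => ?_, fun h => hg₀ ?_, fun g hg => ?_⟩
    · have : x = 1 := Subgroup.mem_bot.1 (h ▸ (show x ∈ H from hx))
      rw [this, orderOf_one] at hxp
      exact hp.ne_one hxp.symm
    · exact (show g₀ ∈ H by rw [h]; trivial)
    · rw [Subgroup.eq_bot_iff_forall]
      rintro k ⟨hk1, hk2⟩
      refine hfree g k hg hk1 ?_
      have hj : g⁻¹ * k * g ∈ H := Frobenius.mem_conj_smul.1 hk2
      calc k • g • e = g • (g⁻¹ * k * g) • e := by rw [mul_smul, mul_smul, smul_inv_smul]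
        _ = g • e := by rw [show (g⁻¹ * k * g) • e = e from hj]
  have := (Frobenius.smallCyclic_complement hF).mem_zpowers_of_commute hp (x := ⟨x, hx⟩)
    (y := ⟨y, hy⟩) (by rw [← hxp, ← Subgroup.orderOf_coe]) (by rw [← hyp, ← Subgroup.orderOf_coe])
    (Subtype.ext hc.eq)
  obtain ⟨i, hi⟩ := Subgroup.mem_zpowers_iff.1 this
  exact hxy (Subgroup.mem_zpowers_iff.2 ⟨i, by simpa using congrArg Subtype.val hi⟩)

/-- The permutations of the subspaces induced by invertible matrices. -/
noncomputable def spaceAct : GL ι F →* Equiv.Perm (Submodule F (ι → F)) where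
  toFun g :=
    { toFun := fun U => U.map (app g).toLinearMap
      invFun := fun U => U.map (app g⁻¹).toLinearMap
      left_inv := fun U => by
        show (U.map (app g).toLinearMap).map (app g⁻¹).toLinearMap = U
        rw [← Submodule.map_comp]
        convert Submodule.map_id U
        exact LinearMap.ext fun x => app_inv_app g x
      right_inv := fun U => by
        show (U.map (app g⁻¹).toLinearMap).map (app g).toLinearMap = U
        rw [← Submodule.map_comp]
        convert Submodule.map_id U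
        exact LinearMap.ext fun x => app_app_inv g x }
  map_one' := Equiv.ext fun U => by
    show U.map (app (1 : GL ι F)).toLinearMap = U
    convert Submodule.map_id U
    exact LinearMap.ext fun x => by simp
  map_mul' a b := Equiv.ext fun U => by
    show U.map (app (a * b)).toLinearMap = (U.map (app b).toLinearMap).map (app a).toLinearMap
    rw [← Submodule.map_comp]
    congr 1
    exact LinearMap.ext fun x => by simp [Matrix.mulVec_mulVec]

lemma spaceAct_line (g : GL ι F) (v : ι → F) : spaceAct g (F ∙ v) = F ∙ app g v := by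
  show (F ∙ v).map (app g).toLinearMap = _
  rw [Submodule.map_span]; simp

lemma spaceAct_scalar {g : GL ι F} {a : F} (ha : a ≠ 0) (h : ∀ x, app g x = a • x) :
    spaceAct g = 1 := by
  refine Equiv.ext fun U => ?_
  show U.map (app g).toLinearMap = U
  ext x
  constructor
  · rintro ⟨u, hu, rfl⟩
    show app g u ∈ U
    rw [h]; exact U.smul_mem a hu
  · exact fun hx => ⟨a⁻¹ • x, U.smul_mem _ hx, by
      show app g (a⁻¹ • x) = x
      rw [h, smul_smul, mul_inv_cancel₀ ha, one_smul]⟩

/-- A group of matrices whose two-point stabilisers on an orbit are scalar has no elementary abelian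
subgroup of order `p²` fixing a point. -/
theorem false_of_two_point (S : Subgroup (GL ι F)) {e : ι → F} (he0 : e ≠ 0)
    (hmove : ∃ s ∈ S, app s e ∉ F ∙ e)
    (hfree : ∀ s ∈ S, ∀ k ∈ S, app s e ∉ F ∙ e → ∀ a b : F, app k e = a • e →
      app k (app s e) = b • app s e → ∀ x, app k x = a • x)
    {p : ℕ} (hp : p.Prime) {x y : GL ι F} (hxS : x ∈ S) (hyS : y ∈ S) (hxe : app x e = e)
    (hye : app y e = e) (hxp : x ^ p = 1) (hyp : y ^ p = 1) (hc : Commute x y) (hy1 : y ≠ 1)
    (hind : ∀ i : ℤ, x ≠ y ^ i) : False := by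
  classical
  let φ : S →* Equiv.Perm (Submodule F (ι → F)) := spaceAct.comp S.subtype
  let G := φ.range
  have hsmul : ∀ (g : S), (⟨φ g, g, rfl⟩ : G) • (F ∙ e) = F ∙ app (g : GL ι F) e := fun g =>
    spaceAct_line _ _
  have hfix : ∀ g : GL ι F, F ∙ app g e = F ∙ e → ∃ a : F, a ≠ 0 ∧ app g e = a • e := fun g hg => by
    obtain ⟨a, ha⟩ := Submodule.mem_span_singleton.1
      (show app g e ∈ F ∙ e from hg ▸ Submodule.mem_span_singleton_self _)
    exact ⟨a, fun h => he0 ((app g).map_eq_zero_iff.1 (by rw [← ha, h, zero_smul])), ha.symm⟩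
  have hker : ∀ z : S, app (z : GL ι F) e = e → φ z = 1 → (z : GL ι F) = 1 := by
    intro z hze hz
    obtain ⟨s, hs, hse⟩ := hmove
    have h1 : F ∙ app (z : GL ι F) (app s e) = F ∙ app s e := by
      rw [← spaceAct_line, show spaceAct (z : GL ι F) = 1 from hz]; rfl
    obtain ⟨b, hb⟩ := Submodule.mem_span_singleton.1
      (show app (z : GL ι F) (app s e) ∈ F ∙ app s e from h1 ▸ Submodule.mem_span_singleton_self _)
    exact eq_one_of_scalar he0 hze
      (hfree s hs z z.2 hse 1 b (by rw [hze, one_smul]) hb.symm)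
  have hnotmem : ∀ g : GL ι F, F ∙ app g e ≠ F ∙ e → app g e ∉ F ∙ e := fun g hg hmem => hg <| by
    obtain ⟨a, ha⟩ := Submodule.mem_span_singleton.1 hmem
    rw [← ha]
    exact Submodule.span_singleton_smul_eq
      (Ne.isUnit fun h => he0 ((app g).map_eq_zero_iff.1 (by rw [← ha, h, zero_smul]))) e
  have hord : ∀ z : S, app (z : GL ι F) e = e → (z : GL ι F) ^ p = 1 → (z : GL ι F) ≠ 1 →
      orderOf (⟨φ z, z, rfl⟩ : G) = p := by
    intro z hze hzp hz1
    have := Fact.mk hp
    refine orderOf_eq_prime (Subtype.ext ?_) fun h => hz1 (hker z hze (congrArg Subtype.val h))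
    show φ z ^ p = 1
    rw [← map_pow, show z ^ p = 1 from Subtype.ext hzp, map_one]
  have hx1 : x ≠ 1 := by simpa using hind 0
  refine false_of_semiregular (G := G) (F ∙ e) ?_ ?_ hp (x := ⟨_, ⟨x, hxS⟩, rfl⟩)
    (y := ⟨_, ⟨y, hyS⟩, rfl⟩) (by rw [hsmul, hxe]) (by rw [hsmul, hye])
    (hord ⟨x, hxS⟩ hxe hxp hx1) (hord ⟨y, hyS⟩ hye hyp hy1) (Subtype.ext ?_) ?_
  · obtain ⟨s, hs, hse⟩ := hmove
    refine ⟨⟨φ ⟨s, hs⟩, _, rfl⟩, fun h => hse ?_⟩
    rw [hsmul] at h
    exact h ▸ Submodule.mem_span_singleton_self _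
  · rintro ⟨_, g, rfl⟩ ⟨_, k, rfl⟩ hg hk hkg
    rw [hsmul] at hg hk
    rw [hsmul] at hkg
    obtain ⟨a, ha, hka⟩ := hfix k hk
    have hkg' : F ∙ app (k : GL ι F) (app (g : GL ι F) e) = F ∙ app (g : GL ι F) e := by
      rw [← spaceAct_line]; exact hkg
    obtain ⟨b, hb⟩ := Submodule.mem_span_singleton.1
      (hkg' ▸ Submodule.mem_span_singleton_self (app (k : GL ι F) (app (g : GL ι F) e)))
    exact Subtype.ext (spaceAct_scalar ha (hfree g g.2 k k.2 (hnotmem g hg) a b hka hb.symm))
  · show φ ⟨x, hxS⟩ * φ ⟨y, hyS⟩ = φ ⟨y, hyS⟩ * φ ⟨x, hxS⟩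
    rw [← map_mul, ← map_mul]
    exact congrArg φ (Subtype.ext hc.eq)
  · rintro h
    obtain ⟨i, hi⟩ := Subgroup.mem_zpowers_iff.1 h
    let z : S := ⟨x, hxS⟩ * (⟨y, hyS⟩ ^ i)⁻¹
    have hz : φ z = 1 := by
      rw [map_mul, map_inv, map_zpow, mul_inv_eq_one]
      exact (congrArg Subtype.val hi).symm
    have hze : app (z : GL ι F) e = e := by
      let T : Subgroup (GL ι F) :=
        { carrier := {g | app g e = e}
          one_mem' := by simp
          mul_mem' := fun {a b} ha hb => by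
            show app (a * b) e = e
            rw [map_mul, LinearEquiv.mul_apply, hb, ha]
          inv_mem' := fun {a} ha => by
            show app a⁻¹ e = e
            conv_lhs => rw [← (show app a e = e from ha)]
            rw [app_inv_app] }
      exact T.mul_mem (show x ∈ T from hxe) (T.inv_mem (T.zpow_mem (show y ∈ T from hye) i))
    exact hind i (mul_inv_eq_one.1 (hker z hze hz))

end Cfsg.Agent.C5
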