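import Cfsg.Agent.Lib.C5.Engine

/-!
# Subfield subgroups of `SL_n` are maximal
-/

set_option autoImplicit false
set_option linter.unusedSectionVars false

namespace Cfsg.Agent.C5

open Matrix Cfsg.Agent.Transvect

variable {ι : Type} [Fintype ι] [DecidableEq ι] {F : Type*} [Field F] {F₀ : Subfield F}

/-! ### Tools shared with the classical cases -/

/-- A non-zero rational vector killed by `k` rational functionals, for `k < n`. -/
lemma exists_rat_kill {k : ℕ} (hk : k < Fintype.card ι) {φ : Fin k → ((ι → F) →ₗ[F] F)}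
    (hφ : ∀ j, RatF F₀ (φ j)) : ∃ v, Rat F₀ v ∧ v ≠ 0 ∧ ∀ j, φ j v = 0 := by
  classical
  let L : (ι → F₀) →ₗ[F₀] (Fin k → F₀) :=
    Matrix.mulVecLin (Matrix.of fun j i => (⟨_, hφ j _ (rat_single i)⟩ : F₀))
  have hker : LinearMap.ker L ≠ ⊥ := fun h => by
    have := LinearMap.finrank_le_finrank_of_injective (LinearMap.ker_eq_bot.1 h)
    simp at this
    omega
  obtain ⟨a, ha, ha0⟩ := Submodule.exists_mem_ne_zero_of_ne_bot hker
  refine ⟨fun i => (a i : F), fun i => (a i).2, fun h => ha0 (funext fun i =>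
    Subtype.ext (by simpa using congrFun h i)), fun j => ?_⟩
  have := congrArg Subtype.val (congrFun (show L a = 0 from ha) j)
  simp only [L, Matrix.mulVecLin_apply, Matrix.mulVec, dotProduct, Matrix.of_apply,
    Pi.zero_apply] at this
  push_cast at this
  rw [pi_eq_sum_univ' (fun i => (a i : F)), map_sum, ← this]
  exact Finset.sum_congr rfl fun i _ => by rw [map_smul, smul_eq_mul, mul_comm]

/-- Two independent rational vectors are separated by a rational functional. -/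
lemma exists_ratF_sep {v v' : ι → F} (hv : Rat F₀ v) (hv' : Rat F₀ v') (hv'0 : v' ≠ 0)
    (hind : v ∉ F ∙ v') : ∃ α : (ι → F) →ₗ[F] F, RatF F₀ α ∧ α v' = 0 ∧ α v = 1 := by
  obtain ⟨i, hi⟩ := Function.ne_iff.1 hv'0
  have hi' : v' i ≠ 0 := hi
  set c := v i / v' i with hc
  have hcF : c ∈ F₀ := F₀.div_mem (hv i) (hv' i)
  have h1 : v - c • v' ≠ 0 := fun h =>
    hind (Submodule.mem_span_singleton.2 ⟨c, (sub_eq_zero.1 h).symm⟩)
  obtain ⟨θ, hθ, hθ1⟩ := exists_ratF_eq_one (hv.sub (hv'.smul hcF)) h1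
  refine ⟨θ - (θ v' / v' i) • LinearMap.proj i,
    hθ.sub ((ratF_proj i).smul (F₀.div_mem (hθ v' hv') (hv' i))), ?_, ?_⟩
  · simp [div_mul_cancel₀ _ hi']
  · rw [map_sub, map_smul, smul_eq_mul] at hθ1
    simp only [LinearMap.sub_apply, LinearMap.smul_apply, LinearMap.proj_apply, smul_eq_mul]
    rw [hc] at hθ1
    field_simp at hθ1 ⊢
    linear_combination hθ1

lemma tv_pow {v : ι → F} {φ : (ι → F) →ₗ[F] F} (h : φ v = 0) (k : ℕ) :
    tv v φ ^ k = tv v ((k : F) • φ) := by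
  induction k with
  | zero => simp
  | succ k ih =>
    rw [pow_succ, ih, ← tv_add (by simp [h]) h, Nat.cast_succ, add_smul, one_smul]

lemma tv_mem_subfield {v : ι → F} {φ : (ι → F) →ₗ[F] F} (hv : Rat F₀ v) (hφ : RatF F₀ φ)
    (h : φ v = 0) : tv v φ ∈ Cfsg.Geo.subfieldSubgroup F₀ 1 :=
  ratLine_mem_iff.2 ⟨1, one_ne_zero, fun u hu => by
    rw [inv_one, one_smul, tv_apply h]; exact hu.add (hv.smul (hφ u hu))⟩

/-- SL is generated by the elementary transvections. -/
theorem sl_le_of_elem (M : Subgroup (GL ι F)) (hel : ∀ i j : ι, i ≠ j → ∀ c : F, elem i j c ∈ M) :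
    Cfsg.Geo.specialLinear ι F ≤ M := by
  intro g hg
  rcases subsingleton_or_nontrivial ι with h1 | h1
  · have : g = 1 := by
      apply Units.ext
      ext i j
      have hd := mem_sl_iff.1 hg
      rw [Matrix.det_eq_elem_of_subsingleton _ i] at hd
      obtain rfl : j = i := Subsingleton.elim _ _
      simp [hd]
    rw [this]; exact one_mem _
  let g' : Matrix.SpecialLinearGroup ι F := ⟨_, mem_sl_iff.1 hg⟩
  suffices ∀ A : Matrix.SpecialLinearGroup ι F, Matrix.SpecialLinearGroup.toGL A ∈ M by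
    convert this g' using 1
    exact Units.ext rfl
  intro A
  refine Matrix.SpecialLinearGroup.diagonal_transvection_induction'
    (fun A => Matrix.SpecialLinearGroup.toGL A ∈ M) A ?_ ?_ ?_
  · intro i j hij c hc
    convert mul_mem (mul_mem (mul_mem (mul_mem (mul_mem (hel i j hij c) (hel j i hij.symm (-c⁻¹)))
      (hel i j hij c)) (hel i j hij (-1))) (hel j i hij.symm 1)) (hel i j hij (-1)) using 1
    refine gl_ext fun x => ?_
    rw [diag_eq_elem_prod hij hc]
    funext k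
    simp [Matrix.SpecialLinearGroup.diag2n_coe, Matrix.mulVec_diagonal]
  · intro i j hij a
    convert hel i j hij a using 1
    exact Units.ext (elem_val hij a).symm
  · intro A B hA hB
    rw [map_mul]; exact mul_mem hA hB

lemma comp_inv_app (φ : (ι → F) →ₗ[F] F) (g : GL ι F) (x : ι → F) :
    (φ ∘ₗ (app g⁻¹).toLinearMap) (app g x) = φ x :=
  congrArg φ (app_inv_app g x)

lemma tv_comm_mem {M : Subgroup (GL ι F)} {a b : ι → F} {α β : (ι → F) →ₗ[F] F} (ha : α a = 0)
    (hb : β b = 0) (hba : β a = 0) (h1 : tv a α ∈ M) (h2 : tv b β ∈ M) :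
    tv a (α b • β) ∈ M := by
  have h := mul_mem (mul_mem (mul_mem h1 h2) (inv_mem h1)) (inv_mem h2)
  rw [tv_conj hb, tv_inv hb] at h
  have e : β ∘ₗ (app (tv a α)⁻¹).toLinearMap = β := by
    refine LinearMap.ext fun x => ?_
    rw [tv_inv ha]
    simp only [LinearMap.comp_apply, LinearEquiv.coe_coe, tv_apply (show (-α) a = 0 by simp [ha]),
      map_add, map_smul, hba, smul_zero, add_zero]
  rw [e, tv_apply ha] at h
  convert h using 1
  refine gl_ext fun x => ?_
  rw [map_mul, LinearEquiv.mul_apply, tv_apply (by simp [hba]), tv_apply (by simp [hb, hba]),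
    tv_apply (by simp [hb])]
  simp only [LinearMap.smul_apply, LinearMap.neg_apply, map_add, map_smul, hb, smul_eq_mul]
  module

/-! ### The linear case -/

variable [Fintype F] {r : ℕ} (hr : r.Prime) (hcard : Fintype.card F = Nat.card F₀ ^ r)
  (hn : 3 ≤ Fintype.card ι) {M : Subgroup (GL ι F)}
  (hM : Cfsg.Geo.subfieldSubgroup F₀ 1 ⊓ Cfsg.Geo.specialLinear ι F ≤ M)
include hM hn

lemma rat_tv_mem {v : ι → F} {φ : (ι → F) →ₗ[F] F} (hv : Rat F₀ v) (hφ : RatF F₀ φ)
    (h : φ v = 0) : tv v φ ∈ M :=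
  hM ⟨tv_mem_subfield hv hφ h, tv_mem_sl v φ⟩

/-- `l` multiplies every rational root group into `M`. -/
def GoodScalar (F₀ : Subfield F) (M : Subgroup (GL ι F)) (l : F) : Prop :=
  ∀ (v : ι → F) (φ : (ι → F) →ₗ[F] F), Rat F₀ v → RatF F₀ φ → φ v = 0 → tv v (l • φ) ∈ M

/-- One root element spreads to all. -/
lemma good_of_one {l : F} {v : ι → F} {φ : (ι → F) →ₗ[F] F} (hv : Rat F₀ v) (hv0 : v ≠ 0)
    (hφ : RatF F₀ φ) (hφ0 : φ ≠ 0) (hφv : φ v = 0) (h : tv v (l • φ) ∈ M) :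
    GoodScalar F₀ M l := by
  have step : ∀ {v : ι → F} {φ : (ι → F) →ₗ[F] F}, Rat F₀ v → RatF F₀ φ → φ ≠ 0 → φ v = 0 →
      tv v (l • φ) ∈ M → ∀ ψ, RatF F₀ ψ → ψ v = 0 → tv v (l • ψ) ∈ M := by
    intro v φ hv hφ hφ0 hφv h
    have one : ∀ {χ : (ι → F) →ₗ[F] F}, χ v = 0 → tv v (l • χ) ∈ M → ∀ u, Rat F₀ u → χ u = 1 →
        ∀ ψ, RatF F₀ ψ → ψ v = 0 → ψ u = 0 → tv v (l • ψ) ∈ M := by
      intro χ hχv hχ u hu hχu ψ hψ hψv hψu
      have := tv_comm_mem (by simp [hχv]) hψu hψv hχ (rat_tv_mem hn hM hu hψ hψu)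
      rwa [LinearMap.smul_apply, hχu, smul_eq_mul, mul_one] at this
    obtain ⟨u0, hu0, hu0'⟩ := exists_rat_ne_zero (F₀ := F₀) hφ0
    obtain ⟨u, hu, hφu⟩ : ∃ u, Rat F₀ u ∧ φ u = 1 :=
      ⟨(φ u0)⁻¹ • u0, hu0.smul (F₀.inv_mem (hφ u0 hu0)), by simp [inv_mul_cancel₀ hu0']⟩
    obtain ⟨θ, hθ, hθ0, hk⟩ := exists_ratF_kill (v := ![v, u]) (by omega)
      (fun j => by fin_cases j <;> assumption)
    have hθv : θ v = 0 := hk 0
    have hθM := one hφv h u hu hφu θ hθ hθv (hk 1)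
    obtain ⟨u1, hu1, hu1'⟩ := exists_rat_ne_zero (F₀ := F₀) hθ0
    obtain ⟨u', hu', hθu', hφu'⟩ : ∃ u', Rat F₀ u' ∧ θ u' = 1 ∧ φ u' = 0 := by
      refine ⟨(θ u1)⁻¹ • (u1 - φ u1 • u), ?_, ?_, ?_⟩
      · exact (hu1.sub (hu.smul (hφ u1 hu1))).smul (F₀.inv_mem (hθ u1 hu1))
      · simp [show θ u = 0 from hk 1, inv_mul_cancel₀ hu1']
      · simp [hφu]
    intro ψ hψ hψv
    have h1 := one hφv h u hu hφu (ψ - ψ u • φ) (hψ.sub (hφ.smul (hψ u hu)))
      (by simp [hψv, hφv]) (by simp [hφu])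
    have h2 := one hθv hθM u' hu' hθu' (ψ u • φ) (hφ.smul (hψ u hu)) (by simp [hφv]) (by simp [hφu'])
    have h3 := mul_mem h1 h2
    rwa [← tv_add (by simp [hψv, hφv]) (by simp [hφv]), ← smul_add, sub_add_cancel] at h3
  intro v' ψ hv' hψ hψv'
  by_cases hv'0 : v' = 0
  · subst hv'0
    rw [show tv (0 : ι → F) (l • ψ) = 1 from gl_ext fun x => by rw [tv_apply (by simp)]; simp]
    exact one_mem _
  by_cases hind : v ∈ F ∙ v'
  · obtain ⟨c, hc⟩ := Submodule.mem_span_singleton.1 hind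
    have hcF : c ∈ F₀ := mem_of_smul_rat hv' hv'0 (by rw [hc]; exact hv)
    have hc0 : c ≠ 0 := fun h => hv0 (by rw [← hc, h, zero_smul])
    have h1 := step hv hφ hφ0 hφv h (c⁻¹ • ψ) (hψ.smul (F₀.inv_mem hcF))
      (by rw [← hc]; simp [hψv'])
    rwa [← hc, tv_smul (by simp [hψv']), smul_comm l, smul_smul, mul_inv_cancel₀ hc0, one_smul] at h1
  obtain ⟨α, hα, hαv', hαv⟩ := exists_ratF_sep hv hv' hv'0 hind
  obtain ⟨β, hβ, hβ0, hk⟩ := exists_ratF_kill (v := ![v, v']) (by omega)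
    (fun j => by fin_cases j <;> assumption)
  have hβv : β v = 0 := hk 0
  have hβv' : β v' = 0 := hk 1
  have h1 := tv_comm_mem hαv' (by simp [hβv]) (by simp [hβv'])
    (rat_tv_mem hn hM hv' hα hαv') (step hv hφ hφ0 hφv h β hβ hβv)
  rw [hαv, one_smul] at h1
  exact step hv' hβ hβ0 hβv' h1 ψ hψ hψv'

include hr hcard

/-- A root element with scalar outside `F₀` gives everything. -/
lemma sl_le_of_root {l : F} (hl : l ∉ F₀) {v : ι → F} {φ : (ι → F) →ₗ[F] F} (hv : Rat F₀ v)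
    (hv0 : v ≠ 0) (hφ : RatF F₀ φ) (hφ0 : φ ≠ 0) (hφv : φ v = 0) (h : tv v (l • φ) ∈ M) :
    Cfsg.Geo.specialLinear ι F ≤ M := by
  have hall := mem_of_closed (S := {c | GoodScalar F₀ M c}) hr hcard
    (fun c hc v' φ' hv' hφ' h' => rat_tv_mem hn hM hv' (hφ'.smul hc) (by simp [h']))
    (fun x hx y hy v' φ' hv' hφ' h' => by
      rw [add_smul, tv_add (by simp [h']) (by simp [h'])]
      exact mul_mem (hx v' φ' hv' hφ' h') (hy v' φ' hv' hφ' h'))
    (fun x hx y hy => by
      obtain ⟨u0, hu0, hu00, -⟩ := exists_rat_kill (F₀ := F₀) (k := 0) (ι := ι) (by omega)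
        (φ := ![]) (fun j => j.elim0)
      obtain ⟨α, hα, hαu⟩ := exists_ratF_eq_one hu0 hu00
      obtain ⟨a, ha, ha0, hka⟩ := exists_rat_kill (φ := ![α]) (by omega)
        (fun j => by fin_cases j; exact hα)
      obtain ⟨β, hβ, hβ0, hkb⟩ := exists_ratF_kill (v := ![a, u0]) (by omega)
        (fun j => by fin_cases j <;> assumption)
      have hαa : α a = 0 := hka 0
      have h1 := tv_comm_mem (a := a) (b := u0) (α := x • α) (β := y • β) (by simp [hαa])
        (by simp [show β u0 = 0 from hkb 1]) (by simp [show β a = 0 from hkb 0])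
        (hx a α ha hα hαa) (hy u0 β hu0 hβ (hkb 1))
      rw [LinearMap.smul_apply, hαu, smul_eq_mul, mul_one, smul_smul] at h1
      exact good_of_one hn hM ha ha0 hβ hβ0 (hkb 0) h1)
    (x := l) (good_of_one hn hM hv hv0 hφ hφ0 hφv h) hl
  exact sl_le_of_elem M fun i j hij c => hall c _ _ (rat_single i) (ratF_proj j) (by simp [hij.symm])

variable (hns : ¬ Cfsg.Geo.specialLinear ι F ≤ M)
include hns

lemma scalar_mem {l : F} {v : ι → F} {φ : (ι → F) →ₗ[F] F} (hv : Rat F₀ v) (hv0 : v ≠ 0)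
    (hφ : RatF F₀ φ) (hφ0 : φ ≠ 0) (hφv : φ v = 0) (h : tv v (l • φ) ∈ M) : l ∈ F₀ :=
  by_contra fun hl => hns (sl_le_of_root hr hcard hn hM hl hv hv0 hφ hφ0 hφv h)

/-- Transvections with a rational centre have rational axes. -/
lemma ratF_axis {e : ι → F} {χ : (ι → F) →ₗ[F] F} (he : Rat F₀ e) (he0 : e ≠ 0) (hχ : χ e = 0)
    (h : tv e χ ∈ M) : RatF F₀ χ := by
  refine ratF_of_single fun i => ?_
  obtain ⟨β, hβ, hβ0, hk⟩ := exists_ratF_kill (v := ![e, Pi.single i 1]) (by omega)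
    (fun j => by fin_cases j <;> first | exact he | exact rat_single i)
  exact scalar_mem hr hcard hn hM hns he he0 hβ hβ0 (hk 0)
    (tv_comm_mem hχ (hk 1) (hk 0) h (rat_tv_mem hn hM (rat_single i) hβ (hk 1)))

/-- Transvections with a rational axis have rational centres. -/
lemma rat_centre {w : ι → F} {χ : (ι → F) →ₗ[F] F} (hχr : RatF F₀ χ) (hχ0 : χ ≠ 0)
    (hχ : χ w = 0) (h : tv w χ ∈ M) : Rat F₀ w := fun i => by
  obtain ⟨a, ha, ha0, hk⟩ := exists_rat_kill (φ := ![χ, LinearMap.proj i]) (by omega)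
    (fun j => by fin_cases j <;> first | exact hχr | exact ratF_proj i)
  exact scalar_mem hr hcard hn hM hns ha ha0 hχr hχ0 (hk 0)
    (tv_comm_mem (hk 1) hχ (hk 0) (rat_tv_mem hn hM ha (ratF_proj i) (hk 1)) h)

/-- An element of `M` mapping a rational point to a rational point is in the subfield group. -/
lemma mem_of_map_rat {g : GL ι F} (hg : g ∈ M) {e : ι → F} (he : Rat F₀ e) (he0 : e ≠ 0)
    (h : RatLine F₀ (app g e)) : g ∈ Cfsg.Geo.subfieldSubgroup F₀ 1 := by
  obtain ⟨c, e', he', hge⟩ := h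
  have hne : app g e ≠ 0 := fun h => he0 ((app g).map_eq_zero_iff.1 h)
  have hc : c ≠ 0 := fun h => hne (by rw [hge, h, zero_smul])
  have he'0 : e' ≠ 0 := fun h => hne (by rw [hge, h, smul_zero])
  refine ratLine_mem_iff.2 ⟨c, hc, fun u hu => ?_⟩
  obtain ⟨φ, hφ, hφ0, hk⟩ := exists_ratF_kill (v := ![e, u]) (by omega)
    (fun j => by fin_cases j <;> assumption)
  have hφe : φ e = 0 := hk 0
  have hφu : φ u = 0 := hk 1
  set χ := φ ∘ₗ (app g⁻¹).toLinearMap with hχdef
  have hχe : χ e' = 0 := by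
    have h1 : χ (app g e) = 0 := (comp_inv_app φ g e).trans hφe
    rw [hge, map_smul, smul_eq_mul, mul_eq_zero] at h1
    exact h1.resolve_left hc
  have hχu : χ (app g u) = 0 := (comp_inv_app φ g u).trans hφu
  have hχ0 : χ ≠ 0 := fun h => hφ0 (LinearMap.ext fun x => by
    exact (comp_inv_app φ g x).symm.trans (LinearMap.congr_fun h (app g x)))
  have h1 : tv (app g e) χ ∈ M := by
    rw [hχdef, ← tv_conj hφe]
    exact mul_mem (mul_mem hg (rat_tv_mem hn hM he hφ hφe)) (inv_mem hg)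
  rw [hge, tv_smul hχe] at h1
  have hrat := ratF_axis hr hcard hn hM hns he' he'0 (by simp [hχe]) h1
  refine rat_centre hr hcard hn hM hns hrat (smul_ne_zero hc hχ0)
    (by rw [LinearMap.smul_apply, map_smul, hχu, smul_zero, smul_zero]) ?_
  rw [tv_smul (by rw [LinearMap.smul_apply, hχu, smul_zero]), smul_smul, inv_mul_cancel₀ hc,
    one_smul, hχdef, ← tv_conj hφu]
  exact mul_mem (mul_mem hg (rat_tv_mem hn hM hu hφ hφu)) (inv_mem hg)

/-- The image of a rational point is rational or generic. -/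
lemma ratLine_or_generic {g : GL ι F} (hg : g ∈ M) {e : ι → F} (he : Rat F₀ e) (he0 : e ≠ 0) :
    RatLine F₀ (app g e) ∨ Generic F₀ (app g e) := by
  refine or_iff_not_imp_right.2 fun hgen => ?_
  obtain ⟨φ, hφ, hφw, hφ0⟩ : ∃ φ : (ι → F) →ₗ[F] F, RatF F₀ φ ∧ φ (app g e) = 0 ∧ φ ≠ 0 := by
    simpa [Generic] using hgen
  obtain ⟨φ', hφ', hφ'0, hk⟩ := exists_ratF_kill (v := ![e]) (by omega)
    (fun j => by fin_cases j; exact he)
  have hφ'e : φ' e = 0 := hk 0
  set w := app g e with hwdef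
  set χ := φ' ∘ₗ (app g⁻¹).toLinearMap with hχdef
  have hχw : χ w = 0 := (comp_inv_app φ' g e).trans hφ'e
  have hχ0 : χ ≠ 0 := fun h => hφ'0 (LinearMap.ext fun x => by
    exact (comp_inv_app φ' g x).symm.trans (LinearMap.congr_fun h (app g x)))
  have hχM : tv w χ ∈ M := by
    rw [hχdef, hwdef, ← tv_conj hφ'e]
    exact mul_mem (mul_mem hg (rat_tv_mem hn hM he hφ' hφ'e)) (inv_mem hg)
  have key : ∀ k : F, k ≠ 0 → tv w (k • φ) ∈ M → RatLine F₀ w := fun k hk0 h => by
    rw [← tv_smul hφw] at h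
    exact RatLine.of_smul hk0 ⟨1, k • w,
      rat_centre hr hcard hn hM hns hφ hφ0 (by simp [hφw]) h, (one_smul _ _).symm⟩
  by_cases hex : ∃ v, Rat F₀ v ∧ φ v = 0 ∧ χ v ≠ 0
  · obtain ⟨v, hv, hφv, hχv⟩ := hex
    exact key _ hχv (tv_comm_mem hχw hφv hφw hχM (rat_tv_mem hn hM hv hφ hφv))
  · push Not at hex
    obtain ⟨u0, hu0, hu0'⟩ := exists_rat_ne_zero (F₀ := F₀) hφ0
    set u := (φ u0)⁻¹ • u0 with hu
    have hur : Rat F₀ u := hu0.smul (F₀.inv_mem (hφ u0 hu0))
    have hφu : φ u = 1 := by rw [hu, map_smul, smul_eq_mul, inv_mul_cancel₀ hu0']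
    have hχeq : χ = χ u • φ := LinearMap.ext fun x => by
      rw [pi_eq_sum_univ' x, map_sum, map_sum]
      refine Finset.sum_congr rfl fun i _ => ?_
      rw [map_smul, map_smul, LinearMap.smul_apply]
      have := hex (Pi.single i 1 - φ (Pi.single i 1) • u)
        ((rat_single i).sub (hur.smul (hφ _ (rat_single i)))) (by simp [hφu])
      rw [map_sub, map_smul, sub_eq_zero, smul_eq_mul] at this
      rw [this, smul_eq_mul, smul_eq_mul, smul_eq_mul]
      ring
    refine key (χ u) (fun h0 => hχ0 (by rw [hχeq, h0, zero_smul])) ?_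
    rw [← hχeq]; exact hχM

omit hns in
/-- An overgroup of the subfield group in `SL` with a further element is `SL`. -/
theorem sl_le_of_not_mem {g : GL ι F} (hg : g ∈ M)
    (hgn : g ∉ Cfsg.Geo.subfieldSubgroup F₀ 1) : Cfsg.Geo.specialLinear ι F ≤ M := by
  by_contra hns
  obtain ⟨e, he, he0, -⟩ := exists_rat_kill (F₀ := F₀) (ι := ι) (k := 0) (φ := ![]) (by omega)
    (fun j => j.elim0)
  set w := app g e with hwdef
  have hw : Generic F₀ w := (ratLine_or_generic hr hcard hn hM hns hg he he0).resolve_left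
    fun h => hgn (mem_of_map_rat hr hcard hn hM hns hg he he0 h)
  set U := Submodule.span F ({e, w} : Set (ι → F)) with hU
  have heU : e ∈ U := Submodule.subset_span (by simp)
  have hwU : w ∈ U := Submodule.subset_span (by simp)
  let S := M ⊓ Cfsg.Geo.subspaceStabilizer U
  have hstab : ∀ (v : ι → F) (χ : (ι → F) →ₗ[F] F), χ v = 0 → v ∈ U → tv v χ ∈ M → tv v χ ∈ S :=
    fun v χ hχ hv hM' => ⟨hM', mem_stab_of_le fun x hx => by
      rw [tv_apply hχ]; exact U.add_mem hx (U.smul_mem _ hv)⟩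
  -- two rational root elements fixing `e`
  obtain ⟨φ, hφ, hφ0, hk⟩ := exists_ratF_kill (v := ![e]) (by omega)
    (fun j => by fin_cases j; exact he)
  obtain ⟨u0, hu0, hu0'⟩ := exists_rat_ne_zero (F₀ := F₀) hφ0
  obtain ⟨φ', hφ', hφ'0, hk'⟩ := exists_ratF_kill (v := ![e, u0]) (by omega)
    (fun j => by fin_cases j <;> assumption)
  have hφe : φ e = 0 := hk 0
  have hφ'e : φ' e = 0 := hk' 0
  obtain ⟨p, hp⟩ := CharP.exists F
  have hpp : p.Prime := (CharP.char_is_prime_or_zero F p).resolve_right (CharP.char_ne_zero_of_finite F p)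
  refine false_of_two_point S he0 ?_ ?_ hpp (x := tv e φ) (y := tv e φ')
    (hstab e φ hφe heU (rat_tv_mem hn hM he hφ hφe))
    (hstab e φ' hφ'e heU (rat_tv_mem hn hM he hφ' hφ'e))
    (by rw [tv_apply hφe, hφe, zero_smul, add_zero])
    (by rw [tv_apply hφ'e, hφ'e, zero_smul, add_zero])
    (by rw [tv_pow hφe, CharP.cast_eq_zero, zero_smul, tv_zero])
    (by rw [tv_pow hφ'e, CharP.cast_eq_zero, zero_smul, tv_zero]) ?_ ?_ ?_
  · -- some transvection at `w` moves `e`
    obtain ⟨φ2, hφ2, hφ2e, hφ2g⟩ : ∃ φ2 : (ι → F) →ₗ[F] F, RatF F₀ φ2 ∧ φ2 e = 0 ∧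
        φ2 (app g⁻¹ e) ≠ 0 := by
      by_contra! hall
      obtain ⟨θ, hθ, hθe⟩ := exists_ratF_eq_one he he0
      have hfix : app g⁻¹ e = θ (app g⁻¹ e) • e := funext fun i => by
        have := hall (LinearMap.proj i - e i • θ) ((ratF_proj i).sub (hθ.smul (he i)))
          (by simp [hθe])
        simp only [LinearMap.sub_apply, LinearMap.smul_apply, LinearMap.proj_apply, smul_eq_mul,
          sub_eq_zero] at this
        rw [this, Pi.smul_apply, smul_eq_mul, mul_comm]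
      exact hgn (inv_inv g ▸ inv_mem
        (mem_of_map_rat hr hcard hn hM hns (inv_mem hg) he he0 ⟨_, e, he, hfix⟩))
    set χ := φ2 ∘ₗ (app g⁻¹).toLinearMap with hχdef
    have hχw : χ w = 0 := (comp_inv_app φ2 g e).trans hφ2e
    refine ⟨tv w χ, hstab w χ hχw hwU ?_, fun hmem => ?_⟩
    · rw [hχdef, hwdef, ← tv_conj hφ2e]
      exact mul_mem (mul_mem hg (rat_tv_mem hn hM he hφ2 hφ2e)) (inv_mem hg)
    · rw [tv_apply hχw] at hmem
      have h1 := (Submodule.add_mem_iff_right _ (Submodule.mem_span_singleton_self e)).1 hmem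
      obtain ⟨c, hc⟩ := Submodule.mem_span_singleton.1
        (((F ∙ e).smul_mem_iff (show χ e ≠ 0 by simpa [hχdef] using hφ2g)).1 h1)
      exact hw.not_ratLine (by omega) ⟨c, e, he, hc.symm⟩
  · intro s hs k hk2 hse a b hka hkb
    have hgen : Generic F₀ (app s e) := by
      refine (ratLine_or_generic hr hcard hn hM hns hs.1 he he0).resolve_left ?_
      rintro ⟨c, v, hv, hsv⟩
      obtain ⟨α, β, hab⟩ := Submodule.mem_span_pair.1 ((mem_stab_iff.1 hs.2) e heU)
      by_cases hβ : β = 0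
      · refine hse (Submodule.mem_span_singleton.2 ⟨α, ?_⟩)
        rw [← hab, hβ, zero_smul, add_zero]
      · refine hw.not_mem_span_pair (by omega) he hv (Submodule.mem_span_pair.2
          ⟨-α * β⁻¹, c * β⁻¹, ?_⟩)
        rw [← smul_smul c, smul_comm, ← hsv, ← hab, smul_add, smul_smul, smul_smul,
          inv_mul_cancel₀ hβ, one_smul, ← add_assoc, ← add_smul,
          show -α * β⁻¹ + β⁻¹ * α = 0 by ring, zero_smul, zero_add]
    exact scalar_of_fix (mem_of_map_rat hr hcard hn hM hns hk2.1 he he0 ⟨a, e, he, hka⟩)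
      he he0 hgen hka hkb
  · exact Commute.eq (show Commute (tv e φ) (tv e φ') by
      rw [Commute, SemiconjBy, ← tv_add hφe hφ'e, ← tv_add hφ'e hφe, add_comm])
  · intro h
    obtain ⟨u1, hu1, hu1'⟩ := exists_rat_ne_zero (F₀ := F₀) hφ'0
    have := tv_apply hφ'e u1
    rw [h, map_one] at this
    exact smul_ne_zero hu1' he0 (by simpa using this.symm)
  · intro i h
    have hy : app (tv e φ') u0 = u0 := by
      rw [tv_apply hφ'e, show φ' u0 = 0 from hk' 1, zero_smul, add_zero]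
    have hyi : ∀ j : ℤ, app (tv e φ' ^ j) u0 = u0 := fun j => by
      clear h
      induction j using Int.induction_on with
      | zero => simp
      | succ k ih => rw [_root_.zpow_add_one, map_mul, LinearEquiv.mul_apply, hy, ih]
      | pred k ih =>
        rw [_root_.zpow_sub_one, map_mul, LinearEquiv.mul_apply]
        conv_lhs => rw [← hy, app_inv_app]
        exact ih
    have := hyi i
    rw [← h, tv_apply hφe] at this
    exact smul_ne_zero hu0' he0 (by simpa using this)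

end Cfsg.Agent.C5
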