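import Cfsg.Agent.Lib.C5.Linear
import Cfsg.Agent.Lib.Orth.Geo
import Cfsg.Agent.Lib.Orth.SingularPair

/-!
# Rational orthogonal geometry for the subfield subgroups of orthogonal groups

A quadratic form with values in `F₀` on the rational vectors: rational hyperbolic pairs orthogonal
to given vectors, rational partners, Eichler transformations of a totally singular plane.
-/

set_option autoImplicit false
set_option linter.unusedSectionVars false

namespace Cfsg.Agent.C5.Ortho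

open Matrix Module Cfsg.Agent.C5 Cfsg.Agent.Orth
open QuadraticMap (polar)
open Cfsg.Agent.Transvect (app)

variable {ι : Type} [Fintype ι] [DecidableEq ι] {F : Type*} [Field F] {F₀ : Subfield F}
  {Q : QuadraticForm F (ι → F)} {r : ℕ}

/-- The subfield group with `P = 1`, read in the isometry group. -/
def ratSub (Q : QuadraticForm F (ι → F)) (F₀ : Subfield F) : Subgroup (IsoGrp Q) :=
  (Cfsg.Geo.subfieldSubgroup F₀ 1).comap (Cfsg.isometryGroup F ⇑Q).subtype

lemma app_coe (g : IsoGrp Q) (x : ι → F) : app (g : GL ι F) x = ap g x := rfl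

lemma polar_rat (hR : ∀ v : ι → F, Rat F₀ v → Q v ∈ F₀) {u v : ι → F} (hu : Rat F₀ u)
    (hv : Rat F₀ v) : polar ⇑Q u v ∈ F₀ :=
  F₀.sub_mem (F₀.sub_mem (hR _ (hu.add hv)) (hR _ hu)) (hR _ hv)

/-- An element of the subfield group moving a rational point to a rational point keeps
rationality. -/
lemma rat_ap_of_mem {g : IsoGrp Q} (hg : g ∈ ratSub Q F₀) {e : ι → F} (he : Rat F₀ e)
    (he0 : e ≠ 0) (hge : Rat F₀ (ap g e)) {u : ι → F} (hu : Rat F₀ u) : Rat F₀ (ap g u) := by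
  obtain ⟨l, hl, hlr⟩ := ratLine_mem_iff.1 hg
  have h1 : l⁻¹ ∈ F₀ := mem_of_smul_rat hge
    (fun h => he0 (ap_inj g (h.trans (map_zero _).symm))) (hlr e he)
  have h2 := (hlr u hu).smul (F₀.inv_mem h1)
  rwa [smul_smul, inv_mul_cancel₀ (inv_ne_zero hl), one_smul] at h2

/-- Elements of `p`-power order one of the subfield group keep rationality. -/
lemma rat_ap_of_pow [Fintype F] [Nonempty ι] {p : ℕ} [Fact p.Prime] [CharP F p] {g : IsoGrp Q}
    (hg : g ∈ ratSub Q F₀) (hgp : g ^ p = 1) {u : ι → F} (hu : Rat F₀ u) : Rat F₀ (ap g u) := by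
  obtain ⟨l, hl, hlr⟩ := ratLine_mem_iff.1 hg
  have hk : ∀ k : ℕ, ∀ u, Rat F₀ u → Rat F₀ ((l⁻¹) ^ k • ap (g ^ k) u) := by
    intro k
    induction k with
    | zero => exact fun u hu => by simpa [Orth.ap_one] using hu
    | succ k ih =>
      intro u hu
      have := ih _ (show Rat F₀ (l⁻¹ • ap g u) from hlr u hu)
      rwa [map_smul, smul_smul, ← Orth.ap_mul, ← pow_succ, ← pow_succ] at this
  obtain ⟨i⟩ := ‹Nonempty ι›
  have h1 := hk p _ (rat_single i)
  rw [hgp, Orth.ap_one] at h1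
  have hlp : l⁻¹ ^ p ∈ F₀ := mem_of_smul_rat (rat_single i) (by simp) h1
  have : CharP F₀ p := (RingHom.charP_iff F₀.subtype F₀.subtype.injective p).2 inferInstance
  obtain ⟨y, hy⟩ := (PerfectRing.bijective_frobenius (R := F₀) (p := p)).2 ⟨_, hlp⟩
  have hl' : l⁻¹ ∈ F₀ := by
    have h2 : (y : F) ^ p = l⁻¹ ^ p := by
      have := congrArg Subtype.val hy
      simpa [frobenius_def] using this
    rw [← (frobenius_inj F p) (show frobenius F p (y : F) = frobenius F p l⁻¹ from h2)]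
    exact y.2
  have h2 := (hlr u hu).smul (F₀.inv_mem hl')
  rwa [smul_smul, inv_mul_cancel₀ (inv_ne_zero hl), one_smul] at h2

/-- An independent rational totally singular pair. -/
structure RPair (Q : QuadraticForm F (ι → F)) (F₀ : Subfield F) (u v : ι → F) : Prop where
  qu : Q u = 0
  qv : Q v = 0
  uv : polar ⇑Q u v = 0
  ru : Rat F₀ u
  rv : Rat F₀ v
  u0 : u ≠ 0
  ind : ∀ c : F, c • u ≠ v

lemma RPair.v0 {u v : ι → F} (h : RPair Q F₀ u v) : v ≠ 0 := fun h0 =>
  h.ind 0 (by rw [zero_smul, h0])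

lemma RPair.swap {u v : ι → F} (h : RPair Q F₀ u v) : RPair Q F₀ v u where
  qu := h.qv
  qv := h.qu
  uv := by rw [pl_comm]; exact h.uv
  ru := h.rv
  rv := h.ru
  u0 := h.v0
  ind c hc := by
    rcases eq_or_ne c 0 with rfl | hc0
    · rw [zero_smul] at hc; exact h.u0 hc.symm
    · exact h.ind c⁻¹ (by rw [← hc, inv_smul_smul₀ hc0])

lemma RPair.smul {u v : ι → F} (h : RPair Q F₀ u v) {c : F} (hc : c ∈ F₀) (hc0 : c ≠ 0) :
    RPair Q F₀ u (c • v) where
  qu := h.qu
  qv := by rw [Q_smul, h.qv, mul_zero]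
  uv := by rw [pl_smul_right, h.uv, mul_zero]
  ru := h.ru
  rv := h.rv.smul hc
  u0 := h.u0
  ind d hd := h.ind (c⁻¹ * d) (by rw [← smul_smul, hd, inv_smul_smul₀ hc0])

lemma RPair.add {u v w : ι → F} (h : RPair Q F₀ u v) (h' : RPair Q F₀ u w)
    (hvw : polar ⇑Q v w = 0) (hind : ∀ c : F, c • u ≠ v + w) : RPair Q F₀ u (v + w) where
  qu := h.qu
  qv := by rw [Q_add, h.qv, h'.qv, hvw]; ring
  uv := by rw [pl_add_right, h.uv, h'.uv, add_zero]
  ru := h.ru
  rv := h.rv.add h'.rv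
  u0 := h.u0
  ind := hind

/-- A change of basis in a totally singular plane. -/
lemma eich_plane {a b : ι → F} (ha : Q a = 0) (hb : Q b = 0) (hab : polar ⇑Q a b = 0)
    (α β γ δ : F) :
    eich Q (α • a + β • b) (γ • a + δ • b) = eich Q a ((α * δ - β * γ) • b) := by
  have hba : polar ⇑Q b a = 0 := by rw [pl_comm]; exact hab
  have q1 : ∀ x y : F, Q (x • a + y • b) = 0 := fun x y => by
    simp [Q_add, Q_smul, pl_smul_left, pl_smul_right, ha, hb, hab]
  refine ext_ap fun x => ?_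
  rw [eich_ap (q1 _ _) (by simp [pl_add_left, pl_add_right, pl_smul_left, pl_smul_right, pl_self, ha,
      hb, hab, hba]), eich_ap ha (by rw [pl_smul_right, hab, mul_zero]), q1, Q_smul, hb]
  simp only [pl_add_left, pl_smul_left]
  module

/-- Singular points of a totally singular plane commute past the other. -/
lemma eich_swap' {a b : ι → F} (ha : Q a = 0) (hb : Q b = 0) (hab : polar ⇑Q a b = 0) (c : F) :
    eich Q b (c • a) = eich Q a (-c • b) := by
  have := eich_plane ha hb hab 0 1 c 0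
  simpa using this

/-- The move of a vector by an Eichler transformation of a totally singular pair. -/
lemma eich_ap_singular {a b : ι → F} (ha : Q a = 0) (hb : Q b = 0) (hab : polar ⇑Q a b = 0)
    (x : ι → F) : ap (eich Q a b) x = x + polar ⇑Q a x • b - polar ⇑Q b x • a := by
  rw [eich_ap ha hab, hb, zero_mul, add_zero]

lemma eich_pow {e w : ι → F} (he : Q e = 0) (hew : polar ⇑Q e w = 0) (k : ℕ) :
    eich Q e w ^ k = eich Q e ((k : F) • w) := by
  induction k with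
  | zero => simp [eich_zero]
  | succ k ih =>
    rw [pow_succ, ih, eich_add he (by rw [pl_smul_right, hew, mul_zero]) hew, Nat.cast_succ,
      add_smul, one_smul]

lemma eich_pow_char {p : ℕ} [CharP F p] {e w : ι → F} (he : Q e = 0) (hew : polar ⇑Q e w = 0) :
    eich Q e w ^ p = 1 := by
  rw [eich_pow he hew, CharP.cast_eq_zero, zero_smul, eich_zero]

/-- The standing hypotheses. -/
structure Ctx (Q : QuadraticForm F (ι → F)) (F₀ : Subfield F) [Fintype F] (r : ℕ) : Prop where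
  nd : Q.polarBilin.Nondegenerate
  hn : 7 ≤ Fintype.card ι
  hr : r.Prime
  hcard : Fintype.card F = Nat.card F₀ ^ r
  hR : ∀ v : ι → F, Rat F₀ v → Q v ∈ F₀

variable [Fintype F]

namespace Ctx

variable (C : Ctx Q F₀ r)
include C

lemma good : Good Q := Good.of_card C.nd (.inr (by have := C.hn; omega))

lemma nonempty : Nonempty ι := Fintype.card_pos_iff.1 (by have := C.hn; omega)

/-- The form on the rational vectors. -/
noncomputable def Q0 : QuadraticForm F₀ (ι → F₀) where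
  toFun x := ⟨Q (fun i => (x i : F)), C.hR _ fun i => (x i).2⟩
  toFun_smul c x := Subtype.ext (by
    show Q ((c : F) • fun i => (x i : F)) = _
    rw [Q_smul]; simp)
  exists_companion' :=
    ⟨LinearMap.mk₂ F₀ (fun x y => (⟨polar ⇑Q (fun i => (x i : F)) (fun i => (y i : F)),
        polar_rat C.hR (fun i => (x i).2) (fun i => (y i).2)⟩ : F₀))
      (fun x x' y => Subtype.ext (pl_add_left Q (fun i => (x i : F)) (fun i => (x' i : F)) _))
      (fun c x y => Subtype.ext (pl_smul_left Q (c : F) (fun i => (x i : F)) _))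
      (fun x y y' => Subtype.ext (pl_add_right Q _ (fun i => (y i : F)) (fun i => (y' i : F))))
      (fun c x y => Subtype.ext (pl_smul_right Q (c : F) _ (fun i => (y i : F)))),
    fun x y => Subtype.ext (Q_add Q (fun i => (x i : F)) (fun i => (y i : F)))⟩

lemma Q0_coe (x : ι → F₀) : ((C.Q0 x : F₀) : F) = Q (fun i => (x i : F)) := rfl

lemma Q0_polar (x y : ι → F₀) :
    ((polar ⇑C.Q0 x y : F₀) : F) = polar ⇑Q (fun i => (x i : F)) (fun i => (y i : F)) := rfl

lemma Q0_nondeg : C.Q0.polarBilin.Nondegenerate := by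
  have key : ∀ x : ι → F₀, (∀ y, polar ⇑C.Q0 x y = 0) → x = 0 := fun x hx => by
    by_contra h0
    obtain ⟨y, hy⟩ := exists_polar_ne C.nd (x := fun i => (x i : F))
      fun h => h0 (funext fun i => Subtype.ext (congrFun h i))
    apply hy
    rw [pi_eq_sum_univ' y, ← QuadraticMap.polarBilin_apply_apply, map_sum]
    refine Finset.sum_eq_zero fun i _ => ?_
    rw [map_smul, QuadraticMap.polarBilin_apply_apply,
      show (Pi.single i 1 : ι → F) = fun j => ((Pi.single i 1 : ι → F₀) j : F) from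
        funext fun j => by by_cases h : j = i <;> simp [h],
      ← C.Q0_polar, hx, ZeroMemClass.coe_zero, smul_zero]
  exact ⟨fun x hx => key x hx, fun y hy => key y fun x => by rw [pl_comm]; exact hy x⟩

/-- Rational functionals are given by rational vectors. -/
lemma exists_rat_pol {φ : (ι → F) →ₗ[F] F} (hφ : RatF F₀ φ) :
    ∃ v, Rat F₀ v ∧ ∀ x, polar ⇑Q v x = φ x := by
  classical
  let L : (ι → F₀) →ₗ[F₀] (ι → F₀) :=
    LinearMap.pi fun i => C.Q0.polarBilin.flip (Pi.single i 1)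
  have hinj : Function.Injective L := by
    rw [injective_iff_map_eq_zero]
    intro v hv
    refine C.Q0_nondeg.1 v fun y => ?_
    rw [pi_eq_sum_univ' y, map_sum]
    refine Finset.sum_eq_zero fun i _ => ?_
    rw [map_smul, show C.Q0.polarBilin v (Pi.single i 1) = 0 from congrFun hv i, smul_zero]
  obtain ⟨v, hv⟩ := (LinearMap.injective_iff_surjective.1 hinj)
    fun i => ⟨_, hφ _ (rat_single i)⟩
  refine ⟨fun i => (v i : F), fun i => (v i).2, fun x => ?_⟩
  rw [pi_eq_sum_univ' x, ← QuadraticMap.polarBilin_apply_apply, map_sum, map_sum]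
  refine Finset.sum_congr rfl fun i _ => ?_
  rw [map_smul, map_smul, QuadraticMap.polarBilin_apply_apply]
  congr 1
  rw [show (Pi.single i 1 : ι → F) = fun j => ((Pi.single i 1 : ι → F₀) j : F) from
    funext fun j => by by_cases h : j = i <;> simp [h], ← C.Q0_polar]
  have := congrArg Subtype.val (congrFun hv i)
  refine this.trans (congrArg φ ?_)
  funext j; by_cases h : j = i <;> simp [h]

/-- A hyperbolic pair of the form on the rational vectors, orthogonal to a family `w` whose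
radical lies in the span of `u`. -/
lemma exists_hpair_orthFam {m k : ℕ} (w : Fin m → ι → F₀) (u : Fin k → ι → F₀)
    (hrad : ∀ x ∈ Submodule.span F₀ (Set.range w), x ∈ orthFam C.Q0 w →
      x ∈ Submodule.span F₀ (Set.range u))
    (hk : m + k + 3 ≤ Fintype.card ι) :
    ∃ p t, p ∈ orthFam C.Q0 w ∧ t ∈ orthFam C.Q0 w ∧ HPair C.Q0 p t := by
  classical
  let _ : Fintype F₀ := Fintype.ofFinite F₀
  set S : Submodule F₀ (ι → F₀) := Submodule.span F₀ (Set.range u) with hSdef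
  have hSk : finrank F₀ S ≤ k := (finrank_range_le_card (R := F₀) u).trans_eq (Fintype.card_fin k)
  obtain ⟨π, hπ⟩ := LinearMap.exists_leftInverse_of_injective S.subtype (Submodule.ker_subtype S)
  have hker : Fintype.card ι ≤ finrank F₀ (LinearMap.ker π) + k := by
    have h1 := LinearMap.finrank_range_add_finrank_ker π
    have h2 := Submodule.finrank_le (LinearMap.range π)
    rw [finrank_space] at h1
    omega
  set W := orthFam C.Q0 w ⊓ LinearMap.ker π
  have h3 : 3 ≤ finrank F₀ W := by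
    have h1 := Submodule.finrank_sup_add_finrank_inf_eq (orthFam C.Q0 w) (LinearMap.ker π)
    have h2 := card_le_finrank_orthFam (Q := C.Q0) w
    have h4 := Submodule.finrank_le (orthFam C.Q0 w ⊔ LinearMap.ker π)
    rw [finrank_space] at h4
    show 3 ≤ finrank F₀ (orthFam C.Q0 w ⊓ LinearMap.ker π : Submodule F₀ (ι → F₀))
    omega
  obtain ⟨p, hp0, hQp⟩ := Forms.exists_singular_of_three_le (C.Q0.comp W.subtype) h3
  have hpS : (p : ι → F₀) ∉ S := fun h => hp0 <| by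
    have h1 := LinearMap.congr_fun hπ ⟨_, h⟩
    rw [LinearMap.comp_apply, Submodule.subtype_apply, show π (p : ι → F₀) = 0 from p.2.2] at h1
    have h2 : (p : ι → F₀) = 0 := congrArg Subtype.val h1.symm
    exact Subtype.ext h2
  obtain ⟨t1, ht1, hpt⟩ : ∃ t1 ∈ orthFam C.Q0 w, polar ⇑C.Q0 (p : ι → F₀) t1 ≠ 0 := by
    by_contra! hall
    refine hpS (hrad _ (perpSub_perpSub C.Q0_nondeg (Submodule.span F₀ (Set.range w)) ▸
      mem_perpSub.2 fun y hy => ?_) p.2.1)
    have hy' : y ∈ orthFam C.Q0 w := mem_orthFam.2 fun a => by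
      first
      | exact mem_perpSub.1 hy _ (Submodule.subset_span ⟨a, rfl⟩)
      | (rw [pl_comm]; exact mem_perpSub.1 hy _ (Submodule.subset_span ⟨a, rfl⟩))
    first
    | exact hall y hy'
    | (rw [pl_comm]; exact hall y hy')
  obtain ⟨t2, ht2, hpt2⟩ : ∃ t2 ∈ orthFam C.Q0 w, polar ⇑C.Q0 (p : ι → F₀) t2 = 1 :=
    ⟨(polar ⇑C.Q0 (p : ι → F₀) t1)⁻¹ • t1, Submodule.smul_mem _ _ ht1,
      by rw [pl_smul_right, inv_mul_cancel₀ hpt]⟩
  have hQp' : C.Q0 (p : ι → F₀) = 0 := hQp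
  exact ⟨p, t2 - C.Q0 t2 • (p : ι → F₀), p.2.1,
    Submodule.sub_mem _ ht2 (Submodule.smul_mem _ _ p.2.1), hQp',
    by rw [Q_sub, Q_smul, hQp', pl_smul_right, pl_comm C.Q0 t2, hpt2]; ring,
    by rw [pl_sub_right, pl_smul_right, pl_self, hQp', hpt2]; ring⟩

/-- Reading a pair of the rational form in `ι → F`. -/
lemma hpair_of_Q0 {m : ℕ} {w : Fin m → ι → F₀} {p t : ι → F₀} (hp : p ∈ orthFam C.Q0 w)
    (ht : t ∈ orthFam C.Q0 w) (hh : HPair C.Q0 p t) :
    HPair Q (fun i => (p i : F)) (fun i => (t i : F)) ∧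
      ∀ a, polar ⇑Q (fun i => (w a i : F)) (fun i => (p i : F)) = 0 ∧
        polar ⇑Q (fun i => (w a i : F)) (fun i => (t i : F)) = 0 := by
  refine ⟨⟨by rw [← C.Q0_coe, hh.qe]; rfl, by rw [← C.Q0_coe, hh.qf]; rfl,
      by rw [← C.Q0_polar, hh.pf]; rfl⟩, fun a => ⟨?_, ?_⟩⟩
  · rw [← C.Q0_polar, mem_orthFam.1 hp a]; rfl
  · rw [← C.Q0_polar, mem_orthFam.1 ht a]; rfl

/-- A rational hyperbolic pair orthogonal to a few rational vectors. -/
lemma exists_hpair_perp {k : ℕ} (u : Fin k → ι → F) (hu : ∀ a, Rat F₀ (u a))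
    (hk : 2 * k + 3 ≤ Fintype.card ι) :
    ∃ p t, Rat F₀ p ∧ Rat F₀ t ∧ HPair Q p t ∧
      ∀ a, polar ⇑Q (u a) p = 0 ∧ polar ⇑Q (u a) t = 0 := by
  obtain ⟨p, t, hp, ht, hh⟩ := C.exists_hpair_orthFam (fun a i => ⟨u a i, hu a i⟩)
    (fun a i => ⟨u a i, hu a i⟩) (fun x hx _ => hx) (by omega)
  obtain ⟨h1, h2⟩ := C.hpair_of_Q0 hp ht hh
  exact ⟨_, _, fun i => (p i).2, fun i => (t i).2, h1, h2⟩

/-- A rational hyperbolic pair orthogonal to two orthogonal rational pairs. -/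
lemma exists_hpair_perp_pair {x y z s : ι → F} (hx : Rat F₀ x) (hy : Rat F₀ y) (hz : Rat F₀ z)
    (hs : Rat F₀ s) (hxy : HPair Q x y) (hzs : HPair Q z s) (hxz : polar ⇑Q x z = 0)
    (hxs : polar ⇑Q x s = 0) (hyz : polar ⇑Q y z = 0) (hys : polar ⇑Q y s = 0)
    (hn : 7 ≤ Fintype.card ι) :
    ∃ p t, Rat F₀ p ∧ Rat F₀ t ∧ HPair Q p t ∧
      ∀ a, polar ⇑Q (![x, y, z, s] a) p = 0 ∧ polar ⇑Q (![x, y, z, s] a) t = 0 := by
  obtain ⟨w, hw⟩ : ∃ w : Fin 4 → ι → F₀, ∀ a, (fun i => (w a i : F)) = ![x, y, z, s] a :=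
    ⟨fun a i => ⟨![x, y, z, s] a i, by fin_cases a <;> first | exact hx i | exact hy i | exact hz i | exact hs i⟩,
      fun a => rfl⟩
  have e : ∀ a b, ((polar ⇑C.Q0 (w a) (w b) : F₀) : F) =
      polar ⇑Q (![x, y, z, s] a) (![x, y, z, s] b) := fun a b => by rw [C.Q0_polar, hw, hw]
  have hrad : ∀ v ∈ Submodule.span F₀ (Set.range w), v ∈ orthFam C.Q0 w →
      v ∈ Submodule.span F₀ (Set.range (![] : Fin 0 → ι → F₀)) := by
    intro v hv hv'
    obtain ⟨c, rfl⟩ := (Submodule.mem_span_range_iff_exists_fun F₀).1 hv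
    have hg : ∀ b, (∑ a, (c a : F) * polar ⇑Q (![x, y, z, s] b) (![x, y, z, s] a)) = 0 := fun b => by
      have h1 := congrArg Subtype.val (mem_orthFam.1 hv' b)
      rw [← QuadraticMap.polarBilin_apply_apply, map_sum] at h1
      simpa [e] using h1
    have hsz : polar ⇑Q s z = 1 := by rw [pl_comm]; exact hzs.pf
    have c3 : c 3 = 0 := Subtype.ext (by
      have := hg 2
      simpa [Fin.sum_univ_four, pl_self, hzs.qe, hzs.pf, pl_comm Q z x, hxz, pl_comm Q z y, hyz] using this)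
    have c2 : c 2 = 0 := Subtype.ext (by
      have := hg 3
      simpa [Fin.sum_univ_four, pl_self, hzs.qf, hsz, pl_comm Q s x, hxs, pl_comm Q s y, hys] using this)
    have hyx : polar ⇑Q y x = 1 := by rw [pl_comm]; exact hxy.pf
    have c1 : c 1 = 0 := Subtype.ext (by
      have := hg 0
      simpa [Fin.sum_univ_four, pl_self, hxy.qe, hxy.pf, hxz, hxs] using this)
    have c0 : c 0 = 0 := Subtype.ext (by
      have := hg 1
      simpa [Fin.sum_univ_four, pl_self, hxy.qf, hyx, hyz, hys] using this)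
    rw [Fin.sum_univ_four, c0, c1, c2, c3]
    simp
  obtain ⟨p, t, hp, ht, hh⟩ := C.exists_hpair_orthFam w ![] hrad (by omega)
  obtain ⟨h1, h2⟩ := C.hpair_of_Q0 hp ht hh
  exact ⟨_, _, fun i => (p i).2, fun i => (t i).2, h1, fun a => by rw [← hw]; exact h2 a⟩

/-- A rational hyperbolic pair orthogonal to a rational vector and to a rational pair orthogonal
to it. -/
lemma exists_hpair_perp_vec {x z s : ι → F} (hx : Rat F₀ x) (hz : Rat F₀ z)
    (hs : Rat F₀ s) (hzs : HPair Q z s) (hxz : polar ⇑Q x z = 0) (hxs : polar ⇑Q x s = 0) :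
    ∃ p t, Rat F₀ p ∧ Rat F₀ t ∧ HPair Q p t ∧
      ∀ a, polar ⇑Q (![x, z, s] a) p = 0 ∧ polar ⇑Q (![x, z, s] a) t = 0 := by
  obtain ⟨w, hw⟩ : ∃ w : Fin 3 → ι → F₀, ∀ a, (fun i => (w a i : F)) = ![x, z, s] a :=
    ⟨fun a i => ⟨![x, z, s] a i, by fin_cases a <;> first | exact hx i | exact hz i | exact hs i⟩,
      fun a => rfl⟩
  have e : ∀ a b, ((polar ⇑C.Q0 (w a) (w b) : F₀) : F) =
      polar ⇑Q (![x, z, s] a) (![x, z, s] b) := fun a b => by rw [C.Q0_polar, hw, hw]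
  have hrad : ∀ v ∈ Submodule.span F₀ (Set.range w), v ∈ orthFam C.Q0 w →
      v ∈ Submodule.span F₀ (Set.range ![w 0]) := by
    intro v hv hv'
    obtain ⟨c, rfl⟩ := (Submodule.mem_span_range_iff_exists_fun F₀).1 hv
    have hg : ∀ b, (∑ a, (c a : F) * polar ⇑Q (![x, z, s] b) (![x, z, s] a)) = 0 := fun b => by
      have h1 := congrArg Subtype.val (mem_orthFam.1 hv' b)
      rw [← QuadraticMap.polarBilin_apply_apply, map_sum] at h1
      simpa [e] using h1
    have hsz : polar ⇑Q s z = 1 := by rw [pl_comm]; exact hzs.pf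
    have c2 : c 2 = 0 := Subtype.ext (by
      have := hg 1
      simpa [Fin.sum_univ_three, pl_self, hzs.qe, hzs.pf, pl_comm Q z x, hxz] using this)
    have c1 : c 1 = 0 := Subtype.ext (by
      have := hg 2
      simpa [Fin.sum_univ_three, pl_self, hzs.qf, hsz, pl_comm Q s x, hxs] using this)
    rw [Fin.sum_univ_three, c1, c2, zero_smul, zero_smul, add_zero, add_zero]
    exact Submodule.smul_mem _ _ (Submodule.subset_span ⟨0, rfl⟩)
  obtain ⟨p, t, hp, ht, hh⟩ := C.exists_hpair_orthFam w ![w 0] hrad (by have := C.hn; omega)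
  obtain ⟨h1, h2⟩ := C.hpair_of_Q0 hp ht hh
  exact ⟨_, _, fun i => (p i).2, fun i => (t i).2, h1, fun a => by rw [← hw]; exact h2 a⟩

/-- A rational singular partner. -/
lemma exists_partner {e : ι → F} (he : Rat F₀ e) (he0 : e ≠ 0) (hQe : Q e = 0) :
    ∃ f, Rat F₀ f ∧ HPair Q e f := by
  obtain ⟨φ, hφ, hφe⟩ := exists_ratF_eq_one he he0
  obtain ⟨v, hv, hvf⟩ := C.exists_rat_pol hφ
  have hev : polar ⇑Q e v = 1 := by rw [pl_comm, hvf, hφe]
  refine ⟨v - Q v • e, hv.sub (he.smul (C.hR v hv)), hQe, ?_, ?_⟩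
  · rw [Q_sub, Q_smul, hQe, pl_smul_right, pl_comm Q v e, hev]; ring
  · rw [pl_sub_right, pl_smul_right, pl_self, hQe, hev]; ring

/-- A rational vector orthogonal to `u` pairing to one with `v`. -/
lemma exists_dual {u v : ι → F} (hu : Rat F₀ u) (hu0 : u ≠ 0) (hv : Rat F₀ v)
    (hind : ∀ c : F, c • u ≠ v) : ∃ d, Rat F₀ d ∧ polar ⇑Q u d = 0 ∧ polar ⇑Q v d = 1 := by
  obtain ⟨α, hα, hαu, hαv⟩ := exists_ratF_sep hv hu hu0
    fun h => by
      obtain ⟨c, hc⟩ := Submodule.mem_span_singleton.1 h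
      exact hind c hc
  obtain ⟨d, hd, hdf⟩ := C.exists_rat_pol hα
  exact ⟨d, hd, by rw [pl_comm, hdf, hαu], by rw [pl_comm, hdf, hαv]⟩

/-- A rational vector orthogonal to some rational vectors is a sum of singular ones. -/
lemma span_singular {e f : ι → F} (he : Rat F₀ e) (hf : Rat F₀ f) (hef : HPair Q e f)
    {P : (ι → F) → Prop}
    (hP : ∀ v, Rat F₀ v → Q v = 0 → (∀ a, polar ⇑Q (![e, f] a) v = 0) → P v)
    (hadd : ∀ x y, P x → P y → P (x + y)) {z : ι → F} (hz : Rat F₀ z)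
    (hzu : ∀ a, polar ⇑Q (![e, f] a) z = 0) : P z := by
  obtain ⟨p, t, hp, ht, hh, hperp⟩ := C.exists_hpair_perp_vec hz he hf hef
    (by rw [pl_comm]; exact hzu 0) (by rw [pl_comm]; exact hzu 1)
  have hzp : polar ⇑Q z p = 0 := by simpa using (hperp 0).1
  have hzt : polar ⇑Q z t = 0 := by simpa using (hperp 0).2
  have hup : ∀ a, polar ⇑Q (![e, f] a) p = 0 ∧ polar ⇑Q (![e, f] a) t = 0 := fun a => by
    simpa using hperp a.succ
  -- `z = (z + t - Q z • p) + (-t) + Q z • p`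
  have hQz := C.hR z hz
  have h1 : P (z + t - Q z • p) := hP _ ((hz.add ht).sub (hp.smul hQz)) (by
      rw [Q_sub, Q_add, Q_smul, hh.qe, hh.qf, pl_smul_right, pl_add_left, hzp, pl_comm Q t p,
        hh.pf, hzt]
      ring)
    fun a => by rw [pl_sub_right, pl_add_right, pl_smul_right, hzu, (hup a).1, (hup a).2]; ring
  have h2 : P (-t) := hP _ (fun i => F₀.neg_mem (ht i)) (by
      rw [← neg_one_smul F t, Q_smul, hh.qf, mul_zero])
    fun a => by rw [pl_neg_right, (hup a).2, neg_zero]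
  have h3 : P (Q z • p) := hP _ (hp.smul hQz) (by rw [Q_smul, hh.qe, mul_zero])
    fun a => by rw [pl_smul_right, (hup a).1, mul_zero]
  have := hadd _ _ (hadd _ _ h1 h2) h3
  convert this using 1
  abel

/-- Every rational vector is built from a pair and the rational singular vectors orthogonal to it. -/
lemma rat_induction {e f : ι → F} (he : Rat F₀ e) (hf : Rat F₀ f) (h : HPair Q e f)
    {P : (ι → F) → Prop} (hadd : ∀ x y, P x → P y → P (x + y))
    (hPe : ∀ c ∈ F₀, P (c • e)) (hPf : ∀ c ∈ F₀, P (c • f))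
    (hP : ∀ v, Rat F₀ v → Q v = 0 → polar ⇑Q e v = 0 → polar ⇑Q f v = 0 → P v) {z : ι → F}
    (hz : Rat F₀ z) : P z := by
  have hw := h.wPart_mem z
  obtain ⟨hw1, hw2⟩ := mem_perp.1 hw
  have hr : Rat F₀ (wPart Q e f z) := by
    have hd := decomp (Q := Q) e f z
    have := hz.sub ((he.smul (polar_rat C.hR hf hz)).add (hf.smul (polar_rat C.hR he hz)))
    convert this using 1
    conv_rhs => lhs; rw [hd]
    abel
  have h3 : P (wPart Q e f z) := C.span_singular he hf h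
    (fun v hv hQv hv' => hP v hv hQv (hv' 0) (hv' 1)) hadd hr
    (fun a => by fin_cases a <;> assumption)
  rw [decomp (Q := Q) e f z]
  exact hadd _ _ (hadd _ _ (hPe _ (polar_rat C.hR hf hz)) (hPf _ (polar_rat C.hR he hz))) h3

/-- A rational frame of three orthogonal hyperbolic pairs. -/
lemma exists_three : ∃ p t : Fin 3 → ι → F, (∀ a, Rat F₀ (p a)) ∧ (∀ a, Rat F₀ (t a)) ∧
    (∀ a, HPair Q (p a) (t a)) ∧ ∀ a b, a ≠ b →
      polar ⇑Q (p a) (p b) = 0 ∧ polar ⇑Q (p a) (t b) = 0 ∧ polar ⇑Q (t a) (p b) = 0 ∧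
        polar ⇑Q (t a) (t b) = 0 := by
  have hn := C.hn
  obtain ⟨p1, t1, hp1, ht1, h1, -⟩ := C.exists_hpair_perp (k := 0) ![] (fun a => a.elim0) (by omega)
  obtain ⟨p2, t2, hp2, ht2, h2, h2'⟩ := C.exists_hpair_perp ![p1, t1]
    (fun a => by fin_cases a <;> assumption) (by omega)
  obtain ⟨p3, t3, hp3, ht3, h3, h3'⟩ := C.exists_hpair_perp_pair hp1 ht1 hp2 ht2 h1 h2
    (h2' 0).1 (h2' 0).2 (h2' 1).1 (h2' 1).2 (by omega)
  obtain ⟨a1, a2⟩ : polar ⇑Q p1 p2 = 0 ∧ polar ⇑Q p1 t2 = 0 := h2' 0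
  obtain ⟨a3, a4⟩ : polar ⇑Q t1 p2 = 0 ∧ polar ⇑Q t1 t2 = 0 := h2' 1
  obtain ⟨b1, b2⟩ : polar ⇑Q p1 p3 = 0 ∧ polar ⇑Q p1 t3 = 0 := h3' 0
  obtain ⟨b3, b4⟩ : polar ⇑Q t1 p3 = 0 ∧ polar ⇑Q t1 t3 = 0 := h3' 1
  obtain ⟨c1, c2⟩ : polar ⇑Q p2 p3 = 0 ∧ polar ⇑Q p2 t3 = 0 := h3' 2
  obtain ⟨c3, c4⟩ : polar ⇑Q t2 p3 = 0 ∧ polar ⇑Q t2 t3 = 0 := h3' 3
  refine ⟨![p1, p2, p3], ![t1, t2, t3], fun a => by fin_cases a <;> assumption,
    fun a => by fin_cases a <;> assumption, fun a => by fin_cases a <;> assumption,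
    fun a b hab => ?_⟩
  fin_cases a <;> fin_cases b <;> first
    | exact absurd rfl hab
    | simp_all [pl_comm Q p2 p1, pl_comm Q p2 t1, pl_comm Q t2 p1, pl_comm Q t2 t1,
        pl_comm Q p3 p1, pl_comm Q p3 t1, pl_comm Q t3 p1, pl_comm Q t3 t1,
        pl_comm Q p3 p2, pl_comm Q p3 t2, pl_comm Q t3 p2, pl_comm Q t3 t2]

/-- Two vectors orthogonal apart from a hyperbolic partner are an independent pair. -/
lemma rpair_of {u v v' : ι → F} (hu : Rat F₀ u) (hu0 : u ≠ 0) (hQu : Q u = 0) (hv : Rat F₀ v)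
    (hQv : Q v = 0) (huv : polar ⇑Q u v = 0) (huv' : polar ⇑Q u v' = 0)
    (hvv' : polar ⇑Q v v' ≠ 0) : RPair Q F₀ u v :=
  ⟨hQu, hQv, huv, hu, hv, hu0, fun c hc => hvv' (by rw [← hc, pl_smul_left, huv', mul_zero])⟩

end Ctx

end Cfsg.Agent.C5.Ortho
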