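import Cfsg.Agent.Lib.C5.OrthLine
import Cfsg.Agent.Lib.RankOne.GenFinite

/-!
# Subfield subgroups of orthogonal groups are maximal

Degree two: rational orthogonality is unavoidable. Odd characteristic: two root groups generate
`SL₂` over a bigger field. Characteristic two: the subfield group would be strongly embedded, but
it has two classes of involutions.
-/

set_option autoImplicit false
set_option linter.unusedSectionVars false

namespace Cfsg.Agent.C5.Ortho

open Matrix Module Cfsg.Agent.C5 Cfsg.Agent.Orth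
open QuadraticMap (polar)
open scoped MatrixGroups
open Cfsg.Agent.Transvect (app)

variable {ι : Type} [Fintype ι] [DecidableEq ι] {F : Type*} [Field F] [Fintype F] {F₀ : Subfield F}
  {Q : QuadraticForm F (ι → F)} {r : ℕ}

namespace Ctx

variable (C : Ctx Q F₀ r) {M : Subgroup (IsoGrp Q)}
  (hM : ratSub Q F₀ ⊓ Cfsg.Omega F ⇑Q ≤ M) (hns : ¬ Cfsg.Omega F ⇑Q ≤ M)
include C hM hns

/-- A conjugate root element from outside is outside. -/
lemma eich_not_mem {g : IsoGrp Q} (hg : g ∈ M) (hgn : g ∉ ratSub Q F₀) {u v : ι → F}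
    (h : RPair Q F₀ u v) : eich Q (ap g u) (ap g v) ∉ ratSub Q F₀ := by
  intro hk
  obtain ⟨p, hp⟩ := CharP.exists F
  have hpp : p.Prime :=
    (CharP.char_is_prime_or_zero F p).resolve_right (CharP.char_ne_zero_of_finite F p)
  have := Fact.mk hpp
  have := C.nonempty
  have hu : Q (ap g u) = 0 := (Q_ap g u).trans h.qu
  have hv : Q (ap g v) = 0 := (Q_ap g v).trans h.qv
  have huv : polar ⇑Q (ap g u) (ap g v) = 0 := (polar_ap g u v).trans h.uv
  have hu0 : ap g u ≠ 0 := fun h0 => h.u0 (ap_inj g (h0.trans (map_zero _).symm))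
  have hind : ∀ c : F, c • ap g u ≠ ap g v := fun c hc =>
    h.ind c (ap_inj g (by rw [map_smul]; exact hc))
  obtain ⟨a, b, α₁, β₁, α₂, β₂, ha, -, hae, -, hdet⟩ := plane_rat C.nd hu hv huv hu0 hind
    fun x hx => rat_ap_of_pow hk (eich_pow_char (p := p) hu huv) hx
  have ha0 : a ≠ 0 := fun h0 => by
    rw [h0] at hae
    by_cases hβ : β₁ = 0
    · rw [hβ, zero_smul, add_zero] at hae
      rw [(smul_eq_zero.1 hae.symm).resolve_right hu0, hβ] at hdet
      exact hdet (by ring)
    · refine hind (-(β₁⁻¹ * α₁)) ?_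
      rw [neg_smul, ← smul_smul, ← smul_neg, ← eq_neg_iff_add_eq_zero.2
        ((add_comm _ _).trans hae.symm), inv_smul_smul₀ hβ]
  refine hgn (C.mem_of_orth hM hns hg h.ru h.u0 h.qu ha ha0 ?_ ?_)
  · rw [hae]; simp [Q_add, Q_smul, pl_smul_left, pl_smul_right, hu, hv, huv]
  · rw [hae, pl_add_right, pl_smul_right, pl_smul_right, pl_self, hu, huv]; ring

/-- Odd characteristic: two root groups generate a bigger root group. -/
lemma false_of_odd (h2 : (2 : F) ≠ 0) (hr3 : 3 ≤ r) {g : IsoGrp Q} (hg : g ∈ M)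
    (hgn : g ∉ ratSub Q F₀) : False := by
  obtain ⟨P, T, hP, hT, hh, hc⟩ := C.exists_three
  have hpf : ∀ b, polar ⇑Q (P b) (T b) ≠ 0 := fun b => by rw [(hh b).pf]; exact one_ne_zero
  have hpair : ∀ b, b ≠ 0 → RPair Q F₀ (P 0) (P b) := fun b hb =>
    C.rpair_of (hP 0) (hh 0).ne_zero (hh 0).qe (hP b) (hh b).qe (hc 0 b hb.symm).1
      (hc 0 b hb.symm).2.1 (hpf b)
  have r01 := hpair 1 (by decide)
  set s' := ap g (P 0) with hs'
  set t' := ap g (P 1) with ht'
  have hQs : Q s' = 0 := (Q_ap g _).trans r01.qu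
  have hQt : Q t' = 0 := (Q_ap g _).trans r01.qv
  have hst : polar ⇑Q s' t' = 0 := (polar_ap g _ _).trans r01.uv
  have hts : polar ⇑Q t' s' = 0 := by rw [pl_comm]; exact hst
  have hτM : eich Q s' t' ∈ M := by
    have h1 := mul_mem (mul_mem hg (C.rat_eich_mem hM r01.ru r01.rv)) (inv_mem hg)
    rwa [conj_eich] at h1
  have hτn := C.eich_not_mem hM hns hg hgn r01
  let nu : (ι → F) → (ι → F) → F := fun u v =>
    polar ⇑Q s' u * polar ⇑Q t' v - polar ⇑Q t' u * polar ⇑Q s' v
  have hnu : ∀ u v, RPair Q F₀ u v → nu u v ≠ 0 := by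
    intro u v h h0
    refine hτn (C.mem_of_orth hM hns hτM h.rv h.v0 h.qv h.ru h.u0 h.qu ?_)
    rw [eich_ap_singular hQs hQt hst, pl_sub_left, pl_add_left, pl_smul_left, pl_smul_left,
      pl_comm Q v u, h.uv]
    linear_combination -h0
  obtain ⟨u, v, huv, hν⟩ : ∃ u v, RPair Q F₀ u v ∧ nu u v ∉ F₀ := by
    by_contra! hall
    have r02 := hpair 2 (by decide)
    have hα := hnu _ _ r02
    set α := nu (P 0) (P 2) with hαdef
    set β := -nu (P 0) (P 1) with hβdef
    have hαF : α ∈ F₀ := hall _ _ r02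
    have hβF : β ∈ F₀ := F₀.neg_mem (hall _ _ r01)
    have c12 := hc 1 2 (by decide)
    have hw : RPair Q F₀ (P 0) (α • P 1 + β • P 2) :=
      (r01.smul hαF hα).add (r02.smul hβF (neg_ne_zero.2 (hnu _ _ r01)))
        (by rw [pl_smul_left, pl_smul_right, c12.1]; ring) fun c hcc => hα (by
          have h1 := congrArg (fun z => polar ⇑Q z (T 1)) hcc
          simp only [pl_smul_left, (hc 0 1 (by decide)).2.1, pl_add_left, (hh 1).pf,
            (hc 2 1 (by decide)).2.1, mul_zero, mul_one, add_zero] at h1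
          exact h1.symm)
    refine hnu _ _ hw ?_
    simp only [nu, hαdef, hβdef, pl_add_right, pl_smul_right]
    ring
  set ν := nu u v with hνdef
  have hν0 : ν ≠ 0 := fun h => hν (h ▸ F₀.zero_mem)
  -- the dual basis of the conjugate plane
  set α := ν⁻¹ * polar ⇑Q t' v with hαdef
  set β := -(ν⁻¹ * polar ⇑Q s' v) with hβdef
  set γ := -(ν⁻¹ * polar ⇑Q t' u) with hγdef
  set δ := ν⁻¹ * polar ⇑Q s' u with hδdef
  set s := α • s' + β • t' with hs
  set t := γ • s' + δ • t' with ht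
  have hQs' : Q s = 0 := by simp [hs, Q_add, Q_smul, pl_smul_left, pl_smul_right, hQs, hQt, hst]
  have hQt' : Q t = 0 := by simp [ht, Q_add, Q_smul, pl_smul_left, pl_smul_right, hQs, hQt, hst]
  have hst' : polar ⇑Q s t = 0 := by
    simp [hs, ht, pl_add_left, pl_add_right, pl_smul_left, pl_smul_right, pl_self, hQs, hQt, hst, hts]
  have hνe : polar ⇑Q s' u * polar ⇑Q t' v - polar ⇑Q t' u * polar ⇑Q s' v = ν := rfl
  have hsu : polar ⇑Q s u = 1 := by
    rw [hs, pl_add_left, pl_smul_left, pl_smul_left, hαdef, hβdef]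
    field_simp
    linear_combination hνe
  have hsv : polar ⇑Q s v = 0 := by
    rw [hs, pl_add_left, pl_smul_left, pl_smul_left, hαdef, hβdef]; ring
  have htu : polar ⇑Q t u = 0 := by
    rw [ht, pl_add_left, pl_smul_left, pl_smul_left, hγdef, hδdef]; ring
  have htv : polar ⇑Q t v = 1 := by
    rw [ht, pl_add_left, pl_smul_left, pl_smul_left, hγdef, hδdef]
    field_simp
    linear_combination hνe
  have hdet : α * δ - β * γ = ν⁻¹ := by
    rw [hαdef, hβdef, hγdef, hδdef]
    field_simp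
    linear_combination hνe
  clear_value s t ν α β γ δ
  let Φ : SL(2, F) → (ι → F) → (ι → F) := fun A x =>
    x + ((A.1 0 0 - 1) * polar ⇑Q t x + A.1 0 1 * polar ⇑Q u x) • v
      + (A.1 1 0 * polar ⇑Q t x + (A.1 1 1 - 1) * polar ⇑Q u x) • s
      + ((A.1 0 0 - 1) * polar ⇑Q s x - A.1 0 1 * polar ⇑Q v x) • u
      - (A.1 1 0 * polar ⇑Q s x - (A.1 1 1 - 1) * polar ⇑Q v x) • t
  have hΦmul : ∀ A B x, Φ (A * B) x = Φ A (Φ B x) := by
    intro A B x
    simp only [Φ, Matrix.SpecialLinearGroup.coe_mul, Matrix.mul_apply, Fin.sum_univ_two,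
      pl_add_right, pl_sub_right, pl_smul_right, pl_self, hQs', hQt', huv.qu, huv.qv, hst',
      pl_comm Q t s, huv.uv, pl_comm Q v u, hsu, hsv, htu, htv, pl_comm Q u s, pl_comm Q u t,
      pl_comm Q v s, pl_comm Q v t]
    module
  have hΦone : ∀ x, Φ 1 x = x := fun x => by
    simp [Φ]
  have hgen : ∀ A ∈ RankOne.genPair F₀ ν, ∃ m ∈ M, ∀ x, ap m x = Φ A x := by
    intro A hA
    induction hA using Subgroup.closure_induction with
    | mem A hA =>
      rcases hA with ⟨c, rfl⟩ | ⟨c, rfl⟩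
      · refine ⟨_, C.rat_eich_mem hM huv.ru (huv.rv.smul c.2), fun x => ?_⟩
        rw [eich_ap_singular huv.qu (by rw [Q_smul, huv.qv, mul_zero])
          (by rw [pl_smul_right, huv.uv, mul_zero]), pl_smul_left]
        simp only [Φ, RankOne.coe_upSL]
        simp [mul_comm, show ∀ c : F₀, algebraMap F₀ F c = (c : F) from fun _ => rfl]
        module
      · refine ⟨g * eich Q (P 0) ((-(c : F)) • P 1) * g⁻¹, mul_mem (mul_mem hg
          (C.rat_eich_mem hM r01.ru (r01.rv.smul (F₀.neg_mem c.2)))) (inv_mem hg), fun x => ?_⟩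
        rw [conj_eich, map_smul, ← hs', ← ht']
        have hpl : eich Q s ((-((c : F) * ν)) • t) = eich Q s' (-(c : F) • t') := by
          rw [hs, ht, smul_add, smul_smul, smul_smul, eich_plane hQs hQt hst,
            show α * (-((c : F) * ν) * δ) - β * (-((c : F) * ν) * γ) = -(c : F) from by
              rw [show α * (-((c : F) * ν) * δ) - β * (-((c : F) * ν) * γ) =
                -((c : F) * ν) * (α * δ - β * γ) by ring, hdet]
              field_simp]
        rw [← hpl, eich_ap_singular hQs' (by rw [Q_smul, hQt', mul_zero])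
          (by rw [pl_smul_right, hst', mul_zero]), pl_smul_left]
        simp only [Φ, RankOne.coe_loSL]
        simp [show ∀ c : F₀, algebraMap F₀ F c = (c : F) from fun _ => rfl]
        module
    | one => exact ⟨1, one_mem _, fun x => by rw [hΦone, Orth.ap_one]⟩
    | mul A B _ _ hA hB =>
      obtain ⟨m, hm, hmx⟩ := hA
      obtain ⟨m', hm', hmx'⟩ := hB
      exact ⟨m * m', mul_mem hm hm', fun x => by rw [Orth.ap_mul, hmx', hmx, hΦmul]⟩
    | inv A _ hA =>
      obtain ⟨m, hm, hmx⟩ := hA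
      refine ⟨m⁻¹, inv_mem hm, fun x => ap_inj m ?_⟩
      rw [← Orth.ap_mul, mul_inv_cancel, Orth.ap_one, hmx, ← hΦmul, mul_inv_cancel, hΦone]
  have htop : RankOne.genPair F₀ ν = ⊤ := by
    have hchar : ringChar F₀ ≠ 2 := fun h => h2 (by
      have h1 : ((2 : ℕ) : F₀) = 0 := by rw [← h]; exact ringChar.Nat.cast_ringChar
      have := congrArg F₀.subtype h1
      simpa [map_ofNat] using this)
    refine RankOne.genPair_eq_top_of_finite' hchar (fun h3 h5 => ?_) hν0 fun R hνR hR => ?_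
    · have hdvd : 5 ∣ Nat.card (GL (Fin 2) F) := h5.trans
        (Subgroup.card_dvd_of_injective Matrix.SpecialLinearGroup.toGL fun a b hab =>
          Subtype.ext (congrArg Units.val hab))
      rw [Matrix.card_GL_field, Fin.prod_univ_two] at hdvd
      simp only [Fin.val_zero, Fin.val_one, pow_zero, pow_one, C.hcard, h3] at hdvd
      obtain ⟨k, hk⟩ := C.hr.odd_of_ne_two (by omega)
      have e4 : (9 : ℕ) ^ k % 5 = 1 ∨ (9 : ℕ) ^ k % 5 = 4 := by
        clear hk
        induction k with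
        | zero => left; rfl
        | succ k ih => rw [pow_succ, Nat.mul_mod]; rcases ih with h | h <;> simp [h]
      have e1 : (3 : ℕ) ^ r = 3 * 9 ^ k := by rw [hk, pow_succ, pow_mul]; ring
      rw [e1] at hdvd
      have h5p : Nat.Prime 5 := by norm_num
      have hpos : 1 ≤ (9 : ℕ) ^ k := Nat.one_le_pow _ _ (by norm_num)
      rcases h5p.dvd_mul.1 hdvd with h | h
      · have : (3 * 9 ^ k) ^ 2 % 5 = 4 := by
          rw [Nat.pow_mod, Nat.mul_mod]; rcases e4 with e | e <;> simp [e]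
        omega
      · rw [show (3 * 9 ^ k) ^ 2 - 3 * 9 ^ k = 3 * 9 ^ k * (3 * 9 ^ k - 1) by
          rw [Nat.mul_sub, mul_one, sq]] at h
        rcases h5p.dvd_mul.1 h with h | h <;> omega
    · refine (subfield_eq_or_top C.hr C.hcard (fun x hx => hR ⟨x, hx⟩)).resolve_left fun h => ?_
      exact hν (h ▸ hνR)
  obtain ⟨m, hm, hmx⟩ := hgen (RankOne.upSL ν) (htop ▸ Subgroup.mem_top _)
  have hmeq : m = eich Q u (ν • v) := ext_ap fun x => by
    rw [hmx, eich_ap_singular huv.qu (by rw [Q_smul, huv.qv, mul_zero])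
      (by rw [pl_smul_right, huv.uv, mul_zero]), pl_smul_left]
    simp only [Φ, RankOne.coe_upSL]
    simp [mul_comm]
    module
  exact hν (C.short_mem hM hns (C.short_of_one hM huv (hmeq ▸ hm)))

/-- Characteristic two: involutions of the subfield group have centralisers inside it. -/
lemma centralizer_le (hMK : M ≤ Cfsg.Omega F ⇑Q) [CharP F 2] {z : IsoGrp Q} (hz : z ∈ M)
    (hzs : z ∈ ratSub Q F₀) (hz2 : z * z = 1) (hz1 : z ≠ 1) {k : IsoGrp Q} (hk : k ∈ M)
    (hkz : k * z = z * k) : k ∈ ratSub Q F₀ := by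
  classical
  have := Fact.mk Nat.prime_two
  have := C.nonempty
  have h2 : (2 : F) = 0 := by exact_mod_cast CharP.cast_eq_zero F 2
  have hrat : ∀ x, Rat F₀ x → Rat F₀ (ap z x) := fun x hx =>
    rat_ap_of_pow (p := 2) hzs (by rw [pow_two, hz2]) hx
  let D : (ι → F) →ₗ[F] (ι → F) := ap z - LinearMap.id
  have hzz : ∀ x, ap z (ap z x) = x := fun x => by rw [← Orth.ap_mul, hz2, Orth.ap_one]
  have hperp : ∀ x y, polar ⇑Q (D x) (D y) = 0 := fun x y => by
    have h1 : polar ⇑Q (ap z x) y = polar ⇑Q x (ap z y) := by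
      conv_lhs => rw [← hzz y, polar_ap]
    simp only [D, LinearMap.sub_apply, LinearMap.id_apply, pl_sub_left, pl_sub_right, polar_ap, h1]
    linear_combination (polar ⇑Q x y - polar ⇑Q x (ap z y)) * h2
  obtain ⟨x, hx, hQs, hs0⟩ : ∃ x, Rat F₀ x ∧ Q (D x) = 0 ∧ D x ≠ 0 := by
    obtain ⟨i, hi⟩ : ∃ i, D (Pi.single i 1) ≠ 0 := by
      by_contra! h
      refine hz1 (ext_ap fun x => ?_)
      rw [Orth.ap_one, pi_eq_sum_univ' x, map_sum]
      exact Finset.sum_congr rfl fun i _ => by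
        rw [map_smul, show ap z (Pi.single i 1) = Pi.single i 1 from sub_eq_zero.1 (h i)]
    set a := D (Pi.single i 1) with ha
    by_cases hQa : Q a = 0
    · exact ⟨_, rat_single i, hQa, hi⟩
    obtain ⟨j, hj⟩ : ∃ j, D (Pi.single j 1) ∉ F ∙ a := by
      by_contra! h
      have hres : resSpace z = F ∙ a := le_antisymm (by
        rintro _ ⟨x, rfl⟩
        show D x ∈ F ∙ a
        rw [pi_eq_sum_univ' x, map_sum]
        exact Submodule.sum_mem _ fun j _ => by rw [map_smul]; exact Submodule.smul_mem _ _ (h j))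
        ((Submodule.span_singleton_le_iff_mem _ _).2 ⟨_, rfl⟩)
      have h1 := ((mem_omega_iff C.good z).1 (hMK hz)).1
      rw [dick, hres, finrank_span_singleton hi] at h1
      norm_num at h1
    have hQr : ∀ m, Q (D (Pi.single m 1)) ∈ F₀ := fun m =>
      C.hR _ ((hrat _ (rat_single m)).sub (rat_single m))
    have hc2 : CharP F₀ 2 := (RingHom.charP_iff F₀.subtype F₀.subtype.injective 2).2 inferInstance
    obtain ⟨l, hl⟩ := (PerfectRing.bijective_frobenius (R := F₀) (p := 2)).2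
      ⟨_, F₀.div_mem (hQr j) (hQr i)⟩
    have hl' : (l : F) * l = Q (D (Pi.single j 1)) / Q a := by
      have := congrArg Subtype.val hl
      simpa [frobenius_def, sq] using this
    refine ⟨Pi.single j 1 + (l : F) • Pi.single i 1, (rat_single j).add ((rat_single i).smul l.2),
      ?_, fun h0 => hj ?_⟩
    · rw [map_add, map_smul, ← ha, Q_add, Q_smul, hl', pl_smul_right, hperp,
        div_mul_cancel₀ _ hQa]
      linear_combination Q (D (Pi.single j 1)) * h2
    · rw [map_add, map_smul, ← ha, add_eq_zero_iff_eq_neg] at h0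
      rw [h0]; exact Submodule.neg_mem _ (Submodule.smul_mem _ _ (Submodule.mem_span_singleton_self _))
  have hsr : Rat F₀ (D x) := (hrat x hx).sub hx
  refine C.mem_of_orth hM hns hk hsr hs0 hQs hsr hs0 hQs ?_
  have h1 : ap k (D x) = D (ap k x) := by
    simp only [D, LinearMap.sub_apply, LinearMap.id_apply, map_sub, ← Orth.ap_mul, hkz]
  rw [h1, hperp]

/-- Characteristic two: contradiction from two classes of involutions. -/
lemma false_of_two (hMK : M ≤ Cfsg.Omega F ⇑Q) [CharP F 2] {g : IsoGrp Q} (hg : g ∈ M)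
    (hgn : g ∉ ratSub Q F₀) : False := by
  have h2 : (2 : F) = 0 := by exact_mod_cast CharP.cast_eq_zero F 2
  obtain ⟨P, T, hP, hT, hh, hc⟩ := C.exists_three
  have c01 := hc 0 1 (by decide)
  have r01 : RPair Q F₀ (P 0) (P 1) := C.rpair_of (hP 0) (hh 0).ne_zero (hh 0).qe (hP 1) (hh 1).qe
    c01.1 c01.2.1 (by rw [(hh 1).pf]; exact one_ne_zero)
  obtain ⟨a, hadef⟩ : ∃ a, a = P 1 + T 1 := ⟨_, rfl⟩
  have hra : Rat F₀ a := hadef ▸ r01.rv.add (hT 1)
  have hau : polar ⇑Q (P 0) a = 0 := by rw [hadef, pl_add_right, c01.1, c01.2.1, add_zero]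
  have hQa : Q a = 1 := by rw [hadef, Q_add, (hh 1).qe, (hh 1).qf, (hh 1).pf]; ring
  have hinv : ∀ {e w : ι → F}, Q e = 0 → polar ⇑Q e w = 0 →
      eich Q e w * eich Q e w = 1 := fun {e w} he hew => by
    rw [← pow_two]; exact eich_pow_char he hew
  have hu : Q (ap g (P 0)) = 0 := (Q_ap g _).trans r01.qu
  have huv : polar ⇑Q (ap g (P 0)) (ap g (P 1)) = 0 := (polar_ap g _ _).trans r01.uv
  set y := eich Q (ap g (P 0)) (ap g (P 1)) with hy
  have hyM : y ∈ M := by
    have h1 := mul_mem (mul_mem hg (C.rat_eich_mem hM r01.ru r01.rv)) (inv_mem hg)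
    rwa [conj_eich] at h1
  have hyn : y ∉ ratSub Q F₀ := C.eich_not_mem hM hns hg hgn r01
  have hy2 : y * y = 1 := hinv hu huv
  have hconj : ∀ x, x ∈ M → x ∈ ratSub Q F₀ → x * x = 1 → x ≠ 1 → ∃ k, k * x * k⁻¹ = y := by
    intro x hxM hxs hx2 hx1
    have hd : IsOfFinOrder (x * y) := isOfFinOrder_of_finite _
    set d := x * y with hdef
    have hinvd : x * d * x⁻¹ = d⁻¹ := by
      rw [hdef, _root_.mul_inv_rev, inv_eq_of_mul_eq_one_left hx2, inv_eq_of_mul_eq_one_left hy2,
        ← mul_assoc x x y, hx2, one_mul]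
    rcases Nat.even_or_odd (orderOf d) with ⟨m, hm⟩ | ⟨m, hm⟩
    · exfalso
      set z := d ^ m with hzdef
      have hz2 : z * z = 1 := by rw [hzdef, ← pow_add, ← hm, pow_orderOf_eq_one]
      have hz1 : z ≠ 1 := fun h => by
        have h1 := orderOf_pos_iff.2 hd
        have h2' := Nat.le_of_dvd (by omega) (orderOf_dvd_of_pow_eq_one h)
        omega
      have hzM : z ∈ M := pow_mem (mul_mem hxM hyM) m
      have hxz : x * z * x⁻¹ = z := by
        rw [hzdef, ← conj_pow, hinvd, inv_pow, ← hzdef, inv_eq_of_mul_eq_one_left hz2]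
      have hzs : z ∈ ratSub Q F₀ := C.centralizer_le hM hns hMK hxM hxs hx2 hx1 hzM
        (by rw [← mul_inv_eq_iff_eq_mul.1 hxz])
      have hxz' : x * z = z * x := mul_inv_eq_iff_eq_mul.1 hxz
      have hdz : d * z = z * d := by rw [hzdef]; exact (Commute.self_pow d m).eq
      refine hyn (C.centralizer_le hM hns hMK hzM hzs hz2 hz1 hyM ?_)
      rw [show y = x * d by rw [hdef, ← mul_assoc, hx2, one_mul], mul_assoc, hdz, ← mul_assoc,
        hxz', mul_assoc]
    · refine ⟨d ^ m, ?_⟩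
      have h1 : x * (d ^ m)⁻¹ * x⁻¹ = d ^ m := by
        rw [← inv_pow, ← conj_pow,
          show x * d⁻¹ * x⁻¹ = (x * d * x⁻¹)⁻¹ by group, hinvd, inv_inv]
      have h3 : d ^ m * d ^ m = d⁻¹ := eq_inv_of_mul_eq_one_left (by
        rw [← pow_add, ← pow_succ, show m + m + 1 = orderOf d by omega, pow_orderOf_eq_one])
      calc d ^ m * x * (d ^ m)⁻¹ = d ^ m * (x * (d ^ m)⁻¹ * x⁻¹) * x := by group
        _ = d⁻¹ * x := by rw [h1, h3]
        _ = y := by
          rw [hdef, _root_.mul_inv_rev, inv_eq_of_mul_eq_one_left hx2,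
            inv_eq_of_mul_eq_one_left hy2, mul_assoc, hx2, mul_one]
  have hne1 : ∀ w, polar ⇑Q (P 0) w = 0 → polar ⇑Q (T 0) w = 0 → w ≠ 0 → eich Q (P 0) w ≠ 1 := by
    intro w h1 h3 hw h
    have h4 := congrArg (fun f => ap f (T 0)) h
    simp only [Orth.ap_one] at h4
    rw [eich_ap (hh 0).qe h1, (hh 0).pf, pl_comm Q w, h3, one_smul, zero_add, mul_one,
      add_sub_assoc, add_eq_left, sub_eq_zero] at h4
    have h5 := congrArg (fun z => polar ⇑Q z (T 0)) h4
    simp only [pl_smul_left, (hh 0).pf, pl_comm Q w, h3, mul_one] at h5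
    rw [← h5, zero_smul] at h4
    exact hw h4
  obtain ⟨k1, hk1⟩ := hconj _ (C.rat_eich_mem hM r01.ru r01.rv) (C.rat_eich_mem_sub r01.ru r01.rv)
    (hinv r01.qu r01.uv) (hne1 _ c01.1 c01.2.2.1 r01.v0)
  obtain ⟨k2, hk2⟩ := hconj _ (C.rat_eich_mem hM r01.ru hra)
    (C.rat_eich_mem_sub r01.ru hra) (hinv r01.qu hau)
    (hne1 _ hau (by rw [hadef, pl_add_right, c01.2.2.1, c01.2.2.2, add_zero])
      fun h => by rw [h] at hQa; simp at hQa)
  have hJ : ∀ z, polar ⇑Q z (ap (eich Q (P 0) (P 1)) z) = 0 := fun z => by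
    rw [eich_ap_singular r01.qu r01.qv r01.uv, pl_sub_right, pl_add_right, pl_smul_right,
      pl_smul_right, pl_self, pl_comm Q z (P 1), pl_comm Q z (P 0)]
    linear_combination Q z * h2
  have hk : eich Q (P 0) a = (k2⁻¹ * k1) * eich Q (P 0) (P 1) * (k2⁻¹ * k1)⁻¹ := by
    have h3 : k2⁻¹ * y * k2 = eich Q (P 0) a := by rw [← hk2]; group
    rw [← h3, ← hk1]; group
  have hkk : ∀ z, ap (k2⁻¹ * k1) (ap (k2⁻¹ * k1)⁻¹ z) = z := fun z => by
    rw [← Orth.ap_mul, mul_inv_cancel, Orth.ap_one]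
  have h4 : polar ⇑Q (T 0) (ap (eich Q (P 0) a) (T 0)) = 0 := by
    rw [hk, Orth.ap_mul, Orth.ap_mul]
    conv_lhs => arg 2; rw [← hkk (T 0)]
    rw [polar_ap]; exact hJ _
  rw [eich_ap r01.qu hau, pl_sub_right, pl_add_right, pl_smul_right, pl_smul_right, pl_self,
    (hh 0).qf, (hh 0).pf, hQa, pl_comm Q (T 0) (P 0), (hh 0).pf, pl_comm Q a (T 0),
    show polar ⇑Q (T 0) a = 0 by rw [hadef, pl_add_right, c01.2.2.1, c01.2.2.2, add_zero]] at h4
  norm_num at h4

omit hns in
/-- An overgroup of the subfield group with a further element is `Ω`. -/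
theorem omega_le_of_not_mem (hMK : M ≤ Cfsg.Omega F ⇑Q) {g : IsoGrp Q} (hg : g ∈ M)
    (hgn : g ∉ ratSub Q F₀) : Cfsg.Omega F ⇑Q ≤ M := by
  by_contra hns
  by_cases hr2 : r = 2
  · obtain ⟨e, t, he, ht, hh, -⟩ := C.exists_hpair_perp (k := 0) ![] (fun a => a.elim0)
      (by have := C.hn; omega)
    obtain ⟨θ, hθ⟩ : ∃ θ : F, θ ∉ F₀ := by
      by_contra! hall
      have h1 : Nat.card F₀ = Fintype.card F := by
        rw [← Nat.card_eq_fintype_card]
        exact Nat.card_congr (Equiv.subtypeUnivEquiv hall)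
      have h3 := C.hcard
      rw [h1, hr2] at h3
      have := Fintype.one_lt_card (α := F)
      nlinarith
    have hsurj : ∀ x : F, ∃ a b : F₀, (a : F) + θ * b = x := by
      have hinj : Function.Injective fun ab : F₀ × F₀ => (ab.1 : F) + θ * ab.2 := by
        rintro ⟨a, b⟩ ⟨a', b'⟩ h
        have hb : b = b' := by
          by_contra hne
          apply hθ
          have h0 : (b : F) - b' ≠ 0 := fun h0 => hne (Subtype.ext (sub_eq_zero.1 h0))
          rw [show θ = ((a' : F) - a) / (b - b') by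
            rw [eq_div_iff h0]
            linear_combination (h : (a : F) + θ * b = a' + θ * b')]
          exact F₀.div_mem (F₀.sub_mem a'.2 a.2) (F₀.sub_mem b.2 b'.2)
        subst hb
        exact Prod.ext (Subtype.ext (add_right_cancel h)) rfl
      intro x
      have hbij := (Nat.bijective_iff_injective_and_card _).2 ⟨hinj, by
        rw [Nat.card_prod, Nat.card_eq_fintype_card (α := F), C.hcard, hr2, sq]⟩
      obtain ⟨⟨a, b⟩, hab⟩ := hbij.2 x
      exact ⟨a, b, hab⟩
    choose A B hAB using hsurj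
    obtain ⟨p, q', hp, hq', hpq, hperp⟩ := C.exists_hpair_perp
      ![fun i => ((A (ap g e i) : F₀) : F), fun i => ((B (ap g e i) : F₀) : F)]
      (fun k => by fin_cases k <;> exact fun i => Subtype.coe_prop _)
      (by have := C.hn; omega)
    refine hgn (C.mem_of_orth hM hns hg he hh.ne_zero hh.qe hp hpq.ne_zero hpq.qe ?_)
    rw [show ap g e = (fun i => ((A (ap g e i) : F₀) : F)) + θ • fun i => ((B (ap g e i) : F₀) : F)
      from funext fun i => (hAB _).symm, pl_add_left, pl_smul_left]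
    have h1 : polar ⇑Q (fun i => ((A (ap g e i) : F₀) : F)) p = 0 := (hperp 0).1
    have h3 : polar ⇑Q (fun i => ((B (ap g e i) : F₀) : F)) p = 0 := (hperp 1).1
    rw [h1, h3, mul_zero, add_zero]
  have hr3 : 3 ≤ r := by have := C.hr.two_le; omega
  by_cases h2 : (2 : F) = 0
  · have : CharP F 2 := CharP.ringChar_of_prime_eq_zero Nat.prime_two (by exact_mod_cast h2) ▸
      ringChar.charP F
    exact C.false_of_two hM hns hMK hg hgn
  · exact C.false_of_odd hM hns h2 hr3 hg hgn

end Ctx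

end Cfsg.Agent.C5.Ortho
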