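import Cfsg.Agent.Lib.C5.OrthShort

/-!
# A singular line joining a rational and an irrational point

If an element of the overgroup maps a rational singular point to a point orthogonal to some rational
singular point, it lies in the subfield group: otherwise the group induced on the line joining the
two points would have scalar two-point stabilisers and a non-cyclic elementary abelian stabiliser.
-/

set_option autoImplicit false
set_option linter.unusedSectionVars false

namespace Cfsg.Agent.C5.Ortho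

open Matrix Module Cfsg.Agent.C5 Cfsg.Agent.Orth
open QuadraticMap (polar)
open Cfsg.Agent.Transvect (app)

variable {ι : Type} [Fintype ι] [DecidableEq ι] {F : Type*} [Field F] [Fintype F] {F₀ : Subfield F}
  {Q : QuadraticForm F (ι → F)} {r : ℕ}

lemma eq_zero_of_polar_single (hQ : Q.polarBilin.Nondegenerate) {z : ι → F}
    (h : ∀ i, polar ⇑Q z (Pi.single i 1) = 0) : z = 0 := by
  by_contra h0
  obtain ⟨y, hy⟩ := exists_polar_ne hQ h0
  apply hy
  rw [pi_eq_sum_univ' y, ← QuadraticMap.polarBilin_apply_apply, map_sum]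
  exact Finset.sum_eq_zero fun i _ => by
    rw [map_smul, QuadraticMap.polarBilin_apply_apply, h, smul_zero]

/-- Independent vectors are separated by the form. -/
lemma exists_dual' (hQ : Q.polarBilin.Nondegenerate) {u v : ι → F} (hu : u ≠ 0)
    (hind : ∀ c : F, c • u ≠ v) : ∃ x, polar ⇑Q u x = 0 ∧ polar ⇑Q v x = 1 := by
  obtain ⟨y, hy⟩ := exists_polar_ne hQ hu
  have hne : v - (polar ⇑Q v y / polar ⇑Q u y) • u ≠ 0 := fun h =>
    hind _ (sub_eq_zero.1 h).symm
  obtain ⟨x, hx⟩ := exists_polar_ne hQ hne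
  set z := x - (polar ⇑Q u x / polar ⇑Q u y) • y with hz
  have hu0 : polar ⇑Q u z = 0 := by
    rw [hz, pl_sub_right, pl_smul_right, div_mul_cancel₀ _ hy, sub_self]
  have hv0 : polar ⇑Q v z ≠ 0 := fun h => hx (by
    rw [hz, pl_sub_right, pl_smul_right] at h
    rw [pl_sub_left, pl_smul_left]
    rw [← h]; ring)
  exact ⟨(polar ⇑Q v z)⁻¹ • z, by rw [pl_smul_right, hu0, mul_zero],
    by rw [pl_smul_right, inv_mul_cancel₀ hv0]⟩

/-- Three independent rational vectors are separated by a rational functional. -/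
lemma exists_ratF_sep_two {u a b : ι → F} (hu : Rat F₀ u) (ha : Rat F₀ a) (hb : Rat F₀ b)
    (hind : ∀ m n : F, m • a + n • b ≠ u) : ∃ φ : (ι → F) →ₗ[F] F,
      RatF F₀ φ ∧ φ a = 0 ∧ φ b = 0 ∧ φ u = 1 := by
  by_cases ha0 : a = 0
  · subst ha0
    by_cases hb0 : b = 0
    · subst hb0
      obtain ⟨φ, hφ, h1⟩ := exists_ratF_eq_one hu fun h => hind 0 0 (by simp [h])
      exact ⟨φ, hφ, map_zero _, map_zero _, h1⟩
    · obtain ⟨φ, hφ, h0, h1⟩ := exists_ratF_sep hu hb hb0 fun h => by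
        obtain ⟨c, hc⟩ := Submodule.mem_span_singleton.1 h
        exact hind 0 c (by simp [hc])
      exact ⟨φ, hφ, map_zero _, h0, h1⟩
  by_cases hba : b ∈ F ∙ a
  · obtain ⟨c, rfl⟩ := Submodule.mem_span_singleton.1 hba
    obtain ⟨φ, hφ, h0, h1⟩ := exists_ratF_sep hu ha ha0 fun h => by
      obtain ⟨m, hm⟩ := Submodule.mem_span_singleton.1 h
      exact hind m 0 (by simp [hm])
    exact ⟨φ, hφ, h0, by rw [map_smul, h0, smul_zero], h1⟩
  obtain ⟨β, hβ, hβa, hβb⟩ := exists_ratF_sep hb ha ha0 hba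
  obtain ⟨φ, hφ, h0, h1⟩ := exists_ratF_sep (hu.sub (hb.smul (hβ u hu))) ha ha0 fun h => by
    obtain ⟨m, hm⟩ := Submodule.mem_span_singleton.1 h
    exact hind m (β u) (by rw [hm]; abel)
  refine ⟨φ - φ b • β, hφ.sub (hβ.smul (hφ b hb)), by simp [h0, hβa], by simp [hβb], ?_⟩
  rw [map_sub, map_smul, smul_eq_mul] at h1
  simp only [LinearMap.sub_apply, LinearMap.smul_apply, smul_eq_mul]
  linear_combination h1

/-- A rational root element has a rational plane. -/
lemma plane_rat (hQ : Q.polarBilin.Nondegenerate) {x0 z0 : ι → F} (hx : Q x0 = 0) (hz : Q z0 = 0)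
    (hxz : polar ⇑Q x0 z0 = 0) (hx0 : x0 ≠ 0) (hind : ∀ c : F, c • x0 ≠ z0)
    (hrat : ∀ u, Rat F₀ u → Rat F₀ (ap (eich Q x0 z0) u)) :
    ∃ (a b : ι → F) (α₁ β₁ α₂ β₂ : F), Rat F₀ a ∧ Rat F₀ b ∧ a = α₁ • x0 + β₁ • z0 ∧
      b = α₂ • x0 + β₂ • z0 ∧ α₁ * β₂ - α₂ * β₁ ≠ 0 := by
  let s : ι → ι → F := fun i => Pi.single i 1
  obtain ⟨i, hi⟩ : ∃ i, polar ⇑Q x0 (s i) ≠ 0 := by
    by_contra! h; exact hx0 (eq_zero_of_polar_single hQ h)
  obtain ⟨j, hj⟩ : ∃ j, polar ⇑Q z0 (s j) * polar ⇑Q x0 (s i) -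
      polar ⇑Q z0 (s i) * polar ⇑Q x0 (s j) ≠ 0 := by
    by_contra! h
    refine hind (polar ⇑Q z0 (s i) / polar ⇑Q x0 (s i)) (sub_eq_zero.1 (eq_zero_of_polar_single hQ
      (z := z0 - (polar ⇑Q z0 (s i) / polar ⇑Q x0 (s i)) • x0) fun j => ?_)).symm
    rw [pl_sub_left, pl_smul_left, div_mul_eq_mul_div, sub_eq_zero, eq_div_iff hi]
    linear_combination h j
  have hD : ∀ k, Rat F₀ ((-polar ⇑Q z0 (s k)) • x0 + polar ⇑Q x0 (s k) • z0) := fun k => by
    have h1 := (hrat (s k) (rat_single k)).sub (rat_single (F₀ := F₀) k)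
    rw [eich_ap_singular hx hz hxz] at h1
    convert h1 using 1
    simp only [s]; module
  exact ⟨_, _, _, _, _, _, hD i, hD j, rfl, rfl, fun h => hj (by linear_combination h)⟩

namespace Ctx

variable (C : Ctx Q F₀ r) {M : Subgroup (IsoGrp Q)}
  (hM : ratSub Q F₀ ⊓ Cfsg.Omega F ⇑Q ≤ M)
include C

/-- Two-point stabilisers on a line are scalar. -/
lemma two_point {v w : ι → F} (hv : Rat F₀ v) (hv0 : v ≠ 0) (hQv : Q v = 0)
    (hvw : polar ⇑Q v w = 0)
    (hsmall : ∀ z, Rat F₀ z → Q z = 0 → polar ⇑Q v z = 0 → polar ⇑Q w z = 0 → ∃ c : F, c • v = z)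
    {k : IsoGrp Q} (hk : k ∈ ratSub Q F₀) {a b : F} (hkv : ap k v = a • v) (hkw : ap k w = b • w)
    (hab : a * b = 1) : a = b := by
  classical
  have hn := C.hn
  let _ : Fintype F₀ := Fintype.ofFinite F₀
  obtain ⟨l, hl, hlr'⟩ := ratLine_mem_iff.1 hk
  have hlr : ∀ u, Rat F₀ u → Rat F₀ (l⁻¹ • ap k u) := hlr'
  have hm : l⁻¹ ≠ 0 := inv_ne_zero hl
  have hma : l⁻¹ * a ∈ F₀ := mem_of_smul_rat hv hv0 (by
    rw [← smul_smul, ← hkv]; exact hlr v hv)
  let up : (ι → F₀) → ι → F := fun x i => (x i : F)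
  let T : (ι → F₀) →ₗ[F₀] F × F :=
    { toFun := fun x => (polar ⇑Q v (up x), polar ⇑Q w (up x))
      map_add' := fun x y => Prod.ext (pl_add_right Q v (up x) (up y)) (pl_add_right Q w (up x) (up y))
      map_smul' := fun c x => Prod.ext (pl_smul_right Q (c : F) v (up x))
        (pl_smul_right Q (c : F) w (up x)) }
  let Tv : (ι → F₀) →ₗ[F₀] F₀ :=
    C.Q0.polarBilin fun i => ⟨v i, hv i⟩
  obtain ⟨i, hi⟩ := Function.ne_iff.1 hv0
  let U : Submodule F₀ (ι → F₀) := LinearMap.ker T ⊓ LinearMap.ker (LinearMap.proj i)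
  have hW : finrank F₀ U ≤ 2 := by
    by_contra! h3
    obtain ⟨z, hz0, hQz⟩ := Forms.exists_singular_of_three_le
      (C.Q0.comp (LinearMap.ker T ⊓ LinearMap.ker (LinearMap.proj i) :
        Submodule F₀ (ι → F₀)).subtype) h3
    have hT : T (z : ι → F₀) = 0 := z.2.1
    obtain ⟨c, hc⟩ := hsmall (up z) (fun j => ((z : ι → F₀) j).2) (congrArg Subtype.val hQz)
      (congrArg Prod.fst hT) (congrArg Prod.snd hT)
    have hci := congrFun hc i
    have hzi : (z : ι → F₀) i = 0 := z.2.2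
    simp only [up, hzi, Pi.smul_apply, ZeroMemClass.coe_zero, smul_eq_mul, mul_eq_zero] at hci
    refine hz0 (Subtype.ext (funext fun j => Subtype.ext ?_))
    have := congrFun hc j
    rw [hci.resolve_right hi, zero_smul] at this
    exact this.symm
  let L : (ι → F₀) →ₗ[F₀] (ι → F₀) :=
    { toFun := fun x i => ⟨(l⁻¹ • ap k (up x) - (l⁻¹ * a) • up x) i,
        ((hlr _ fun i => (x i).2).sub ((show Rat F₀ (up x) from fun i => (x i).2).smul hma)) i⟩
      map_add' := fun x y => funext fun i => Subtype.ext (by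
        show (l⁻¹ • ap k (up x + up y) - (l⁻¹ * a) • (up x + up y)) i = _
        simp only [map_add, smul_add, Pi.add_apply, Pi.sub_apply]
        push_cast
        ring)
      map_smul' := fun c x => funext fun i => Subtype.ext (by
        show (l⁻¹ • ap k ((c : F) • up x) - (l⁻¹ * a) • ((c : F) • up x)) i = _
        simp only [map_smul, Pi.sub_apply, Pi.smul_apply, RingHom.id_apply, smul_eq_mul]
        push_cast
        ring) }
  have hLup : ∀ x, up (L x) = l⁻¹ • ap k (up x) - (l⁻¹ * a) • up x := fun x => rfl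
  have hTL : ∀ x ∈ LinearMap.ker Tv, L x ∈ LinearMap.ker T := by
    intro x hx
    have hvx : polar ⇑Q v (up x) = 0 := by
      have h := congrArg Subtype.val (LinearMap.mem_ker.1 hx)
      rw [ZeroMemClass.coe_zero] at h
      exact h
    have h1 : polar ⇑Q v (ap k (up x)) = 0 := by
      have := polar_ap k v (up x)
      rw [hkv, pl_smul_left, hvx] at this
      exact (mul_eq_zero.1 this).resolve_left (left_ne_zero_of_mul_eq_one hab)
    have h2 : polar ⇑Q w (ap k (up x)) = a * polar ⇑Q w (up x) := by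
      have := polar_ap k w (up x)
      rw [hkw, pl_smul_left] at this
      rw [← this, ← mul_assoc, hab, one_mul]
    refine LinearMap.mem_ker.2 (Prod.ext ?_ ?_)
    · show polar ⇑Q v (up (L x)) = 0
      rw [hLup, pl_sub_right, pl_smul_right, pl_smul_right, h1, hvx]; ring
    · show polar ⇑Q w (up (L x)) = 0
      rw [hLup, pl_sub_right, pl_smul_right, pl_smul_right, h2]; ring
  let v₀ : ι → F₀ := fun j => ⟨v j, hv j⟩
  have hv₀i : v₀ i ≠ 0 := fun h => hi (congrArg Subtype.val h)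
  have hv₀T : T v₀ = 0 := Prod.ext
    (show polar ⇑Q v v = 0 by rw [pl_self, hQv]; ring)
    (show polar ⇑Q w v = 0 by rw [pl_comm]; exact hvw)
  let L₁ : (ι → F₀) →ₗ[F₀] (ι → F₀) :=
    L - (v₀ i)⁻¹ • (((LinearMap.proj i : (ι → F₀) →ₗ[F₀] F₀).comp L).smulRight v₀)
  have hL₁ : ∀ x, L₁ x = L x - ((v₀ i)⁻¹ * L x i) • v₀ := fun x => by
    simp [L₁, smul_smul]
  have hTL₁ : ∀ x ∈ LinearMap.ker Tv, L₁ x ∈ U := fun x hx => by
    refine ⟨LinearMap.mem_ker.2 ?_, LinearMap.mem_ker.2 ?_⟩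
    · rw [hL₁, map_sub, map_smul, LinearMap.mem_ker.1 (hTL x hx), hv₀T, smul_zero, sub_zero]
    · rw [hL₁, LinearMap.proj_apply, Pi.sub_apply, Pi.smul_apply, smul_eq_mul]
      field_simp
      ring
  let L' : LinearMap.ker Tv →ₗ[F₀] U := L₁.restrict hTL₁
  have hker : Fintype.card ι ≤ finrank F₀ (LinearMap.ker L') + 3 := by
    have h1 := LinearMap.finrank_range_add_finrank_ker L'
    have h2 := Submodule.finrank_le (LinearMap.range L')
    have h3 := LinearMap.finrank_range_add_finrank_ker Tv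
    have h4 := Submodule.finrank_le (LinearMap.range Tv)
    rw [Module.finrank_self] at h4
    rw [finrank_space] at h3
    omega
  obtain ⟨x, hx, hQx⟩ : ∃ x ∈ (LinearMap.ker L').map (LinearMap.ker Tv).subtype, C.Q0 x ≠ 0 := by
    by_contra! hall
    have h1 := two_mul_finrank_le_of_isotropic C.Q0_nondeg
      ((LinearMap.ker L').map (LinearMap.ker Tv).subtype) fun x hx y hy => by
        simp [polar, hall x hx, hall y hy, hall _ (Submodule.add_mem _ hx hy)]
    rw [Submodule.finrank_map_subtype_eq] at h1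
    omega
  obtain ⟨x', hx', rfl⟩ := hx
  have h0 : L₁ (x' : ι → F₀) = 0 := congrArg Subtype.val (LinearMap.mem_ker.1 hx')
  rw [hL₁, sub_eq_zero] at h0
  obtain ⟨c, hfix⟩ : ∃ c : F, ap k (up (x' : ι → F₀)) = a • up (x' : ι → F₀) + c • v := by
    set d := (v₀ i)⁻¹ * L (x' : ι → F₀) i
    refine ⟨l * (d : F), ?_⟩
    have h1 := hLup (x' : ι → F₀)
    rw [h0, show up (d • v₀) = (d : F) • v from rfl] at h1
    refine smul_right_injective _ hm ?_
    show l⁻¹ • ap k (up (x' : ι → F₀)) = l⁻¹ • (a • up (x' : ι → F₀) + (l * (d : F)) • v)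
    rw [smul_add, smul_smul, smul_smul, inv_mul_cancel_left₀ hl, h1]
    abel
  have hvx : polar ⇑Q v (up (x' : ι → F₀)) = 0 := by
    have h := congrArg Subtype.val (LinearMap.mem_ker.1 x'.2)
    rw [ZeroMemClass.coe_zero] at h
    exact h
  have hQ : Q (up (x' : ι → F₀)) ≠ 0 := fun h =>
    hQx (Subtype.ext (h.trans (ZeroMemClass.coe_zero F₀).symm))
  have ha2 : a * a = 1 := by
    have h1 := Q_ap k (up (x' : ι → F₀))
    rw [hfix, Q_add, Q_smul, Q_smul, hQv, pl_smul_left, pl_smul_right,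
      pl_comm Q (up (x' : ι → F₀)) v, hvx] at h1
    simp only [mul_zero, add_zero] at h1
    exact mul_right_cancel₀ hQ (h1.trans (one_mul _).symm)
  exact mul_left_cancel₀ (left_ne_zero_of_mul_eq_one hab) (ha2.trans hab.symm)

variable (hns : ¬ Cfsg.Omega F ⇑Q ≤ M)
include hM hns

/-- No element outside the subfield group maps a rational singular point to a point orthogonal to a
rational singular point. -/
theorem mem_of_orth {g : IsoGrp Q} (hg : g ∈ M) {e : ι → F} (he : Rat F₀ e) (he0 : e ≠ 0)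
    (hQe : Q e = 0) {v : ι → F} (hv : Rat F₀ v) (hv0 : v ≠ 0) (hQv : Q v = 0)
    (hwv : polar ⇑Q (ap g e) v = 0) : g ∈ ratSub Q F₀ := by
  by_contra hgn
  have hn := C.hn
  set w := ap g e with hw
  have hQw : Q w = 0 := (Q_ap g e).trans hQe
  have hw0 : w ≠ 0 := fun h => he0 (ap_inj g (h.trans (map_zero _).symm))
  have hvw : polar ⇑Q v w = 0 := by rw [pl_comm]; exact hwv
  have hnr : ¬ RatLine F₀ w := fun h => hgn (C.mem_of_map_rat hM hns hg he he0 hQe h)
  have hind : ∀ c : F, c • v ≠ w := fun c hc => hnr ⟨c, v, hv, hc.symm⟩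
  have hind' : ∀ c : F, c • w ≠ v := fun c hc => hind c⁻¹ (by
    rw [← hc, inv_smul_smul₀ fun h0 => hv0 (by rw [← hc, h0, zero_smul])])
  set x0 := ap g⁻¹ v with hx0
  have hgx0 : ap g x0 = v := by rw [hx0, ← Orth.ap_mul, mul_inv_cancel, Orth.ap_one]
  have hx00 : x0 ≠ 0 := fun h => hv0 (by rw [← hgx0, h, map_zero])
  have hQx0 : Q x0 = 0 := (Q_ap g⁻¹ v).trans hQv
  have hfix : ∀ y, polar ⇑Q e y = 0 → Q y = 0 → polar ⇑Q x0 y = 0 →
      ap (eich Q w (ap g y)) v = v := fun y hey hQy hxy => by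
    rw [eich_ap_singular hQw (by rw [Q_ap, hQy]) (by rw [hw, polar_ap, hey]), hwv, ← hgx0, polar_ap,
      pl_comm Q y x0, hxy]
    simp
  by_cases hbig : ∃ z, Rat F₀ z ∧ Q z = 0 ∧ polar ⇑Q v z = 0 ∧ polar ⇑Q w z = 0 ∧
      ∀ c : F, c • v ≠ z
  · obtain ⟨z, hz, hQz, hvz, hwz, hzind⟩ := hbig
    set z0 := ap g⁻¹ z with hz0
    have hgz0 : ap g z0 = z := by rw [hz0, ← Orth.ap_mul, mul_inv_cancel, Orth.ap_one]
    have hk : eich Q x0 z0 ∈ M := by
      have h1 := mul_mem (mul_mem (inv_mem hg) (C.rat_eich_mem hM hv hz)) (inv_mem (inv_mem hg))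
      rwa [conj_eich] at h1
    have hxz : polar ⇑Q x0 z0 = 0 := (polar_ap g⁻¹ v z).trans hvz
    have hQz0 : Q z0 = 0 := (Q_ap g⁻¹ z).trans hQz
    have hke : ap (eich Q x0 z0) e = e := by
      have h1 : polar ⇑Q x0 e = 0 := by rw [← polar_ap g, hgx0]; exact hvw
      have h2 : polar ⇑Q z0 e = 0 := by rw [← polar_ap g, hgz0, pl_comm]; exact hwz
      rw [eich_ap_singular hQx0 hQz0 hxz, h1, h2]; simp
    have hkr : ∀ u, Rat F₀ u → Rat F₀ (ap (eich Q x0 z0) u) := fun u hu =>
      rat_ap_of_mem (C.mem_of_map_rat hM hns hk he he0 hQe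
        ⟨1, e, he, by rw [hke, one_smul]⟩) he he0 (by rw [hke]; exact he) hu
    obtain ⟨a, b, α₁, β₁, α₂, β₂, ha, hb, hae, hbe, hdet⟩ := plane_rat C.nd hQx0 hQz0 hxz hx00
      (fun c hc => hzind c (by rw [← hgx0, ← map_smul, hc, hgz0])) hkr
    have horth : ∀ y, polar ⇑Q a y = 0 → polar ⇑Q b y = 0 → polar ⇑Q x0 y = 0 := by
      intro y h1 h2
      rw [hae, pl_add_left, pl_smul_left, pl_smul_left] at h1
      rw [hbe, pl_add_left, pl_smul_left, pl_smul_left] at h2
      refine (mul_eq_zero.1 (?_ : (α₁ * β₂ - α₂ * β₁) * polar ⇑Q x0 y = 0)).resolve_left hdet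
      linear_combination β₂ * h1 - β₁ * h2
    have hpl : ∀ y, Rat F₀ y → Q y = 0 → polar ⇑Q e y = 0 → polar ⇑Q x0 y = 0 →
        (∀ c : F, c • e ≠ y) →
        ∃ (a b : ι → F) (α₁ β₁ α₂ β₂ : F), Rat F₀ a ∧ Rat F₀ b ∧ a = α₁ • w + β₁ • ap g y ∧
          b = α₂ • w + β₂ • ap g y ∧ α₁ * β₂ - α₂ * β₁ ≠ 0 := by
      intro y hy hQy hey hxy hne
      have htM : eich Q w (ap g y) ∈ M := by
        have h1 := mul_mem (mul_mem hg (C.rat_eich_mem hM he hy)) (inv_mem hg)
        rwa [conj_eich] at h1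
      have hf := hfix y hey hQy hxy
      refine plane_rat C.nd hQw (by rw [Q_ap, hQy]) (by rw [hw, polar_ap, hey]) hw0 (fun c hc => ?_)
        fun u hu => rat_ap_of_mem (C.mem_of_map_rat hM hns htM hv hv0 hQv
          ⟨1, v, hv, by rw [hf, one_smul]⟩) hv hv0 (by rw [hf]; exact hv) hu
      rw [hw, ← map_smul] at hc
      exact hne c (ap_inj g hc)
    by_cases hein : ∃ c d : F, e = c • a + d • b
    · obtain ⟨p, t, hp, ht, hh, hperp⟩ := C.exists_hpair_perp ![a, b]
        (fun a => by fin_cases a <;> assumption) (by omega)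
      obtain ⟨c, d, hcd⟩ := hein
      have hap : polar ⇑Q a p = 0 := (hperp 0).1
      have hat : polar ⇑Q a t = 0 := (hperp 0).2
      have hbp : polar ⇑Q b p = 0 := (hperp 1).1
      have hbt : polar ⇑Q b t = 0 := (hperp 1).2
      have hep : polar ⇑Q e p = 0 := by
        rw [hcd, pl_add_left, pl_smul_left, pl_smul_left, hap, hbp]; ring
      have het : polar ⇑Q e t = 0 := by
        rw [hcd, pl_add_left, pl_smul_left, pl_smul_left, hat, hbt]; ring
      have hne : ∀ y y', polar ⇑Q y y' = 1 → polar ⇑Q e y' = 0 → ∀ c : F, c • e ≠ y :=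
        fun y y' h1 h2 c hc => by
          rw [← hc, pl_smul_left, h2, mul_zero] at h1
          exact zero_ne_one h1
      obtain ⟨a1, b1, c11, c12, c21, c22, ha1, hb1, ha1e, hb1e, hdet1⟩ :=
        hpl p hp hh.qe hep (horth p hap hbp) (hne p t hh.pf het)
      obtain ⟨a2, b2, d11, d12, d21, d22, ha2, hb2, ha2e, hb2e, hdet2⟩ :=
        hpl t ht hh.qf het (horth t hat hbt) (hne t p hh.swap.pf hep)
      obtain ⟨u2, γ, δ, hu2, hu2e, hδ⟩ : ∃ (u2 : ι → F) (γ δ : F), Rat F₀ u2 ∧
          u2 = γ • w + δ • ap g t ∧ δ ≠ 0 := by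
        by_cases h : d12 = 0
        · exact ⟨b2, d21, d22, hb2, hb2e, fun h' => hdet2 (by rw [h, h']; ring)⟩
        · exact ⟨a2, d11, d12, ha2, ha2e, h⟩
      have hpol : ∀ x y : F, polar ⇑Q (x • w + y • ap g p) u2 = y * δ := fun x y => by
        simp only [hu2e, hw, pl_add_left, pl_add_right, pl_smul_left, pl_smul_right, polar_ap,
          pl_self, Q_ap, hQe, het, pl_comm Q p e, hep, hh.pf]
        ring
      refine hnr (RatLine.of_smul (mul_ne_zero hδ hdet1) ⟨1,
        polar ⇑Q b1 u2 • a1 - polar ⇑Q a1 u2 • b1,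
        (ha1.smul (polar_rat C.hR hb1 hu2)).sub (hb1.smul (polar_rat C.hR ha1 hu2)), ?_⟩)
      rw [hb1e, ha1e, hpol, hpol, one_smul]
      module
    -- two rational planes through `w`
    push Not at hein
    have hzc : ∀ c : F, c • x0 ≠ z0 := fun c hc =>
      hzind c (by rw [← hgx0, ← map_smul, hc, hgz0])
    have hcoef : ∀ p q : F, p • x0 + q • z0 = 0 → p = 0 ∧ q = 0 := fun p q h => by
      by_cases hq : q = 0
      · rw [hq, zero_smul, add_zero] at h
        exact ⟨(smul_eq_zero.1 h).resolve_right hx00, hq⟩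
      · exact absurd (by rw [← inv_smul_smul₀ hq z0,
          show q • z0 = -(p • x0) from eq_neg_of_add_eq_zero_right h, smul_neg, smul_smul, neg_smul] :
            (-(q⁻¹ * p)) • x0 = z0) (hzc _)
    have hanz : a ≠ 0 := fun h => hdet (by
      obtain ⟨h1, h2⟩ := hcoef α₁ β₁ (hae ▸ h)
      rw [h1, h2]; ring)
    have hbnz : b ≠ 0 := fun h => hdet (by
      obtain ⟨h1, h2⟩ := hcoef α₂ β₂ (hbe ▸ h)
      rw [h1, h2]; ring)
    have habind : ∀ c : F, c • b ≠ a := fun c h => hdet (by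
      obtain ⟨h1, h2⟩ := hcoef (α₁ - c * α₂) (β₁ - c * β₂) (by
        rw [← sub_eq_zero.2 h.symm, hae, hbe]; module)
      linear_combination β₂ * h1 - α₂ * h2)
    have hQ2 : ∀ α β : F, Q (α • x0 + β • z0) = 0 := fun α β => by
      simp [Q_add, Q_smul, pl_smul_left, pl_smul_right, hQx0, hQz0, hxz]
    have hey : ∀ α β : F, polar ⇑Q e (α • x0 + β • z0) = 0 := fun α β => by
      have hex : polar ⇑Q e x0 = 0 := by rw [pl_comm, ← polar_ap g, hgx0]; exact hvw
      have hez : polar ⇑Q e z0 = 0 := by rw [← polar_ap g, hgz0]; exact hwz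
      rw [pl_add_right, pl_smul_right, pl_smul_right, hex, hez]; ring
    have hxy : ∀ α β : F, polar ⇑Q x0 (α • x0 + β • z0) = 0 := fun α β => by
      simp [pl_add_right, pl_smul_right, pl_self, hQx0, hxz]
    obtain ⟨a1, b1, c11, c12, c21, c22, ha1, hb1, ha1e, hb1e, hdet1⟩ :=
      hpl a ha (by rw [hae]; exact hQ2 _ _) (by rw [hae]; exact hey _ _) (by rw [hae]; exact hxy _ _)
        (fun c hc => by
          by_cases hc0 : c = 0
          · exact hanz (by rw [← hc, hc0, zero_smul])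
          · exact hein c⁻¹ 0 (by rw [← hc, inv_smul_smul₀ hc0, zero_smul, add_zero]))
    obtain ⟨a2, b2, d11, d12, d21, d22, ha2, hb2, ha2e, hb2e, hdet2⟩ :=
      hpl b hb (by rw [hbe]; exact hQ2 _ _) (by rw [hbe]; exact hey _ _) (by rw [hbe]; exact hxy _ _)
        (fun c hc => by
          by_cases hc0 : c = 0
          · exact hbnz (by rw [← hc, hc0, zero_smul])
          · exact hein 0 c⁻¹ (by rw [← hc, inv_smul_smul₀ hc0, zero_smul, zero_add]))
    obtain ⟨u, β, γ, hu, hue, hγ⟩ : ∃ (u : ι → F) (β γ : F), Rat F₀ u ∧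
        u = β • w + γ • ap g a ∧ γ ≠ 0 := by
      by_cases h : c12 = 0
      · exact ⟨b1, c21, c22, hb1, hb1e, fun h' => hdet1 (by rw [h, h']; ring)⟩
      · exact ⟨a1, c11, c12, ha1, ha1e, h⟩
    have hu_not : ∀ m n : F, m • a2 + n • b2 ≠ u := fun m n hmn => by
      rw [hue, ha2e, hb2e] at hmn
      set β' := γ⁻¹ * (m * d11 + n * d21 - β)
      set γ' := γ⁻¹ * (m * d12 + n * d22)
      have h : ap g a = β' • w + γ' • ap g b := by
        rw [← inv_smul_smul₀ hγ (ap g a),
          show γ • ap g a = (m • (d11 • w + d12 • ap g b) + n • (d21 • w + d22 • ap g b)) - β • w by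
            rw [hmn]; abel]
        simp only [β', γ']
        module
      rw [hw, ← map_smul, ← map_smul, ← map_add] at h
      have h1 := ap_inj g h
      by_cases hb' : β' = 0
      · rw [hb', zero_smul, zero_add] at h1
        exact habind γ' h1.symm
      · refine hein β'⁻¹ (-(β'⁻¹ * γ')) ?_
        rw [h1, smul_add, smul_smul, smul_smul, inv_mul_cancel₀ hb', one_smul]
        module
    obtain ⟨φ, hφ, hφa, hφb, hφu⟩ := exists_ratF_sep_two hu ha2 hb2 hu_not
    obtain ⟨d, hd, hdφ⟩ := C.exists_rat_pol hφ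
    have hdw : polar ⇑Q d w = 0 := by
      have e1 : polar ⇑Q d a2 = 0 := by rw [hdφ, hφa]
      have e2 : polar ⇑Q d b2 = 0 := by rw [hdφ, hφb]
      rw [ha2e, pl_add_right, pl_smul_right, pl_smul_right] at e1
      rw [hb2e, pl_add_right, pl_smul_right, pl_smul_right] at e2
      refine (mul_eq_zero.1 (?_ : (d11 * d22 - d21 * d12) * polar ⇑Q d w = 0)).resolve_left hdet2
      linear_combination d22 * e1 - d12 * e2
    have hdg : γ * polar ⇑Q d (ap g a) = 1 := by
      rw [← hφu, ← hdφ, hue, pl_add_right, pl_smul_right, pl_smul_right, hdw]; ring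
    have hne0 : polar ⇑Q d (ap g a) ≠ 0 := right_ne_zero_of_mul_eq_one hdg
    have hpol : ∀ x y : F, polar ⇑Q (x • w + y • ap g a) d = y * polar ⇑Q d (ap g a) := fun x y => by
      rw [pl_comm, pl_add_right, pl_smul_right, pl_smul_right, hdw]; ring
    refine hnr (RatLine.of_smul (mul_ne_zero hne0 hdet1) ⟨1,
      polar ⇑Q b1 d • a1 - polar ⇑Q a1 d • b1,
      (ha1.smul (polar_rat C.hR hb1 hd)).sub (hb1.smul (polar_rat C.hR ha1 hd)), ?_⟩)
    rw [hb1e, ha1e, hpol, hpol, one_smul]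
    module
  · push Not at hbig
    -- the group induced on the line
    obtain ⟨y, hy, hQy, hey, hxy⟩ : ∃ y, Rat F₀ y ∧ Q y = 0 ∧ polar ⇑Q e y = 0 ∧
        polar ⇑Q x0 y ≠ 0 := by
      by_contra! hall
      obtain ⟨f, hf, hef⟩ := C.exists_partner he he0 hQe
      have h0 : x0 - polar ⇑Q x0 f • e = 0 := eq_zero_of_polar_single C.nd fun i => by
        rw [pl_sub_left, pl_smul_left]
        refine C.rat_induction he hf hef
          (P := fun z => polar ⇑Q x0 z - polar ⇑Q x0 f * polar ⇑Q e z = 0)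
          (fun a b ha hb => by rw [pl_add_right, pl_add_right]; linear_combination ha + hb)
          (fun c _ => by
            rw [pl_smul_right, pl_smul_right, pl_self, hQe,
              show polar ⇑Q x0 e = 0 from by rw [← polar_ap g, hgx0]; exact hvw]
            ring)
          (fun c _ => by rw [pl_smul_right, pl_smul_right, hef.pf]; ring)
          (fun u hu hQu heu _ => by rw [hall u hu hQu heu, heu]; ring) (rat_single i)
      exact hind _ (show (polar ⇑Q x0 f)⁻¹ • v = w by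
        have h1 : v = polar ⇑Q x0 f • w := by
          rw [← hgx0, hw, ← map_smul, ← sub_eq_zero.1 h0]
        rw [h1, inv_smul_smul₀]
        intro h2
        rw [h2, zero_smul] at h1
        exact hv0 h1)
    have hτM : eich Q w (ap g y) ∈ M := by
      have h1 := mul_mem (mul_mem hg (C.rat_eich_mem hM he hy)) (inv_mem hg)
      rwa [conj_eich] at h1
    have hwy : polar ⇑Q w (ap g y) = 0 := by rw [hw, polar_ap, hey]
    set a := polar ⇑Q (ap g y) v with ha
    have ha0 : a ≠ 0 := by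
      rw [ha, ← hgx0, polar_ap, pl_comm]; exact hxy
    set τ := eich Q w (ap g y)
    have hτv : ap τ v = v - a • w := by
      rw [eich_ap_singular hQw (by rw [Q_ap, hQy]) hwy, hwv, zero_smul, add_zero, ha]
    have hτw : ap τ w = w := by
      rw [eich_ap_singular hQw (by rw [Q_ap, hQy]) hwy, pl_self, hQw, pl_comm Q (ap g y) w, hwy]
      simp
    let S : Subgroup (IsoGrp Q) := M ⊓ Subgroup.centralizer {eich Q v w}
    have hmemS : ∀ k : IsoGrp Q, k ∈ M → eich Q (ap k v) (ap k w) = eich Q v w → k ∈ S :=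
      fun k hk h => ⟨hk, Subgroup.mem_centralizer_iff.2 fun x hx => by
        rw [Set.mem_singleton_iff.1 hx, mul_eich k v w, h]⟩
    have hτS : τ ∈ S := hmemS τ hτM (by
      rw [hτv, hτw]
      simpa [sub_eq_add_neg] using eich_plane hQv hQw hvw 1 (-a) 0 1)
    have hS : ∀ k ∈ S, ∀ x, polar ⇑Q (ap k v) x • ap k w - polar ⇑Q (ap k w) x • ap k v =
        polar ⇑Q v x • w - polar ⇑Q w x • v := by
      intro k hk x
      have h1 : eich Q (ap k v) (ap k w) = eich Q v w := by
        rw [← conj_eich, ← Subgroup.mem_centralizer_iff.1 hk.2 _ rfl, mul_inv_cancel_right]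
      have h2 := congrArg (fun f => ap f x) h1
      rw [eich_ap_singular (by rw [Q_ap, hQv]) (by rw [Q_ap, hQw]) (by rw [polar_ap, hvw]),
        eich_ap_singular hQv hQw hvw, add_sub_assoc, add_sub_assoc] at h2
      exact add_left_cancel h2
    set ℓ := Submodule.span F ({v, w} : Set (ι → F)) with hℓ
    have hSℓ : ∀ k ∈ S, ∀ u ∈ ℓ, ap k u ∈ ℓ := by
      intro k hk u hu
      have hk' := hS k⁻¹ (inv_mem hk)
      obtain ⟨x, hwx, hvx⟩ := exists_dual' C.nd hw0 hind'
      obtain ⟨x', hvx', hwx'⟩ := exists_dual' C.nd hv0 hind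
      have hinv : ∀ z, ap k (ap k⁻¹ z) = z := fun z => by
        rw [← Orth.ap_mul, mul_inv_cancel, Orth.ap_one]
      have h1 := congrArg (ap k) (hk' x)
      have h2 := congrArg (ap k) (hk' x')
      rw [hvx, hwx, zero_smul, one_smul, sub_zero, map_sub, map_smul, map_smul, hinv, hinv] at h1
      rw [hvx', hwx', zero_smul, one_smul, zero_sub, map_sub, map_smul, map_smul, map_neg, hinv,
        hinv] at h2
      have hkw : ap k w ∈ ℓ := h1 ▸ ℓ.sub_mem (ℓ.smul_mem _ (Submodule.subset_span (by simp)))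
        (ℓ.smul_mem _ (Submodule.subset_span (by simp)))
      have hkv : ap k v ∈ ℓ := by
        rw [← neg_neg (ap k v), ← h2]
        exact ℓ.neg_mem (ℓ.sub_mem (ℓ.smul_mem _ (Submodule.subset_span (by simp)))
          (ℓ.smul_mem _ (Submodule.subset_span (by simp))))
      obtain ⟨c, d, rfl⟩ := Submodule.mem_span_pair.1 hu
      rw [map_add, map_smul, map_smul]
      exact ℓ.add_mem (ℓ.smul_mem _ hkv) (ℓ.smul_mem _ hkw)
    -- two rational translations of the line
    obtain ⟨p1, t1, hp1, ht1, hh1, hperp1⟩ := C.exists_hpair_perp ![v]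
      (fun a => by fin_cases a; exact hv) (by omega)
    obtain ⟨p2, t2, hp2, ht2, hh2, hperp2⟩ := C.exists_hpair_perp_vec hv hp1 ht1 hh1
      (hperp1 0).1 (hperp1 0).2
    have hvp1 : polar ⇑Q v p1 = 0 := (hperp1 0).1
    have hvt1 : polar ⇑Q v t1 = 0 := (hperp1 0).2
    have hvp2 : polar ⇑Q v p2 = 0 := (hperp2 0).1
    have hxS : ∀ z, Rat F₀ z → Q z = 0 → polar ⇑Q v z = 0 → eich Q v z ∈ S := by
      intro z hz hQz hvz
      refine hmemS _ (C.rat_eich_mem hM hv hz) ?_
      rw [eich_ap_singular hQv hQz hvz, eich_ap_singular hQv hQz hvz, pl_self, hQv,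
        pl_comm Q z v, hvz, hvw]
      simpa [sub_eq_add_neg, add_comm] using eich_plane hQv hQw hvw 1 0 (-polar ⇑Q z w) 1
    -- the action on the points of the line
    let act : S → Equiv.Perm {U : Submodule F (ι → F) // U ≤ ℓ} := fun k =>
      { toFun := fun U => ⟨U.1.map (ap (k : IsoGrp Q)), by
          rintro _ ⟨u, hu, rfl⟩; exact hSℓ k k.2 u (U.2 hu)⟩
        invFun := fun U => ⟨U.1.map (ap ((k : IsoGrp Q)⁻¹)), by
          rintro _ ⟨u, hu, rfl⟩; exact hSℓ _ (inv_mem k.2) u (U.2 hu)⟩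
        left_inv := fun U => Subtype.ext (by
          show (U.1.map (ap (k : IsoGrp Q))).map (ap ((k : IsoGrp Q)⁻¹)) = U.1
          rw [← Submodule.map_comp]
          convert Submodule.map_id U.1
          exact LinearMap.ext fun x => by
            rw [LinearMap.comp_apply, ← Orth.ap_mul, inv_mul_cancel, Orth.ap_one]; rfl)
        right_inv := fun U => Subtype.ext (by
          show (U.1.map (ap ((k : IsoGrp Q)⁻¹))).map (ap (k : IsoGrp Q)) = U.1
          rw [← Submodule.map_comp]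
          convert Submodule.map_id U.1
          exact LinearMap.ext fun x => by
            rw [LinearMap.comp_apply, ← Orth.ap_mul, mul_inv_cancel, Orth.ap_one]; rfl) }
    let φ : S →* Equiv.Perm {U : Submodule F (ι → F) // U ≤ ℓ} := MonoidHom.mk' act fun k k' =>
      Equiv.ext fun U => Subtype.ext (by
        show U.1.map (ap ((k : IsoGrp Q) * (k' : IsoGrp Q))) =
          (U.1.map (ap (k' : IsoGrp Q))).map (ap (k : IsoGrp Q))
        rw [← Submodule.map_comp]
        congr 1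
        exact LinearMap.ext fun x => Orth.ap_mul _ _ x)
    have hvℓ : v ∈ ℓ := Submodule.subset_span (by simp)
    let pt : {U : Submodule F (ι → F) // U ≤ ℓ} :=
      ⟨F ∙ v, (Submodule.span_singleton_le_iff_mem _ _).2 hvℓ⟩
    have hpt : ∀ k : S, φ k pt = pt ↔ ∃ c : F, ap (k : IsoGrp Q) v = c • v := fun k => by
      have e : (φ k pt).1 = F ∙ ap (k : IsoGrp Q) v := by
        show (F ∙ v).map (ap (k : IsoGrp Q)) = _
        rw [Submodule.map_span, Set.image_singleton]
      constructor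
      · intro h
        rw [h] at e
        obtain ⟨c, hc⟩ := Submodule.mem_span_singleton.1
          (show ap (k : IsoGrp Q) v ∈ F ∙ v from e.ge (Submodule.mem_span_singleton_self _))
        exact ⟨c, hc.symm⟩
      · rintro ⟨c, hc⟩
        refine Subtype.ext (e.trans ?_)
        have hc0 : c ≠ 0 := fun h0 => hv0 (ap_inj (k : IsoGrp Q)
          (by rw [hc, h0, zero_smul, map_zero]))
        rw [hc]; exact Submodule.span_singleton_smul_eq (Ne.isUnit hc0) v
    obtain ⟨p, hp⟩ := CharP.exists F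
    have hpp : p.Prime :=
      (CharP.char_is_prime_or_zero F p).resolve_right (CharP.char_ne_zero_of_finite F p)
    have := Fact.mk hpp
    let X : S := ⟨_, hxS p1 hp1 hh1.qe hvp1⟩
    let Y : S := ⟨_, hxS p2 hp2 hh2.qe hvp2⟩
    -- non-trivial translations
    have htriv : ∀ z, Rat F₀ z → Q z = 0 → polar ⇑Q v z = 0 → (∀ c : F, c • v ≠ z) →
        ∀ hm : eich Q v z ∈ S, φ ⟨_, hm⟩ ≠ 1 := by
      intro z hz hQz hvz hzind hm h1
      have hwℓ : F ∙ w ≤ ℓ := (Submodule.span_singleton_le_iff_mem _ _).2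
        (Submodule.subset_span (by simp))
      have h2 : (F ∙ w).map (ap (eich Q v z)) = F ∙ w :=
        congrArg Subtype.val (Equiv.Perm.ext_iff.1 h1 ⟨F ∙ w, hwℓ⟩)
      rw [Submodule.map_span, Set.image_singleton] at h2
      obtain ⟨c, hc⟩ := Submodule.mem_span_singleton.1
        (h2.le (Submodule.mem_span_singleton_self _))
      rw [eich_ap_singular hQv hQz hvz, hvw, zero_smul, add_zero] at hc
      have hwz : polar ⇑Q w z ≠ 0 := fun h => by
        obtain ⟨d, hd⟩ := hbig z hz hQz hvz h; exact hzind d hd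
      refine hind ((1 - c) / polar ⇑Q z w) ?_ |>.elim
      rw [eq_comm] at hc
      have hzw : polar ⇑Q z w ≠ 0 := by rw [pl_comm]; exact hwz
      have h3 : (1 - c) • w = polar ⇑Q z w • v := by
        rw [sub_smul, one_smul, sub_eq_iff_eq_add, ← sub_eq_iff_eq_add']; exact hc
      by_cases hc1 : 1 - c = 0
      · rw [hc1, zero_smul] at h3
        exact absurd ((smul_eq_zero.1 h3.symm).resolve_left hzw) hv0
      · exfalso
        refine hind ((1 - c)⁻¹ * polar ⇑Q z w) ?_
        rw [← smul_smul, ← h3, inv_smul_smul₀ hc1]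
    have hnc : ∀ i : ℤ, ∀ c : F, c • v ≠ p1 + (-(i : F)) • p2 := fun i c hc => by
      have h1 := congrArg (fun z => polar ⇑Q z t1) hc
      have h2 : polar ⇑Q p2 t1 = 0 := by rw [pl_comm]; exact (hperp2 2).1
      simp only [pl_smul_left, hvt1, pl_add_left, hh1.pf, h2, mul_zero, add_zero] at h1
      exact zero_ne_one h1
    have hYz : ∀ i : ℤ, ((Y : IsoGrp Q) ^ i) = eich Q v ((i : F) • p2) := by
      intro i
      cases i with
      | ofNat m => simpa using eich_pow hQv hvp2 m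
      | negSucc m =>
        rw [zpow_negSucc, eich_pow hQv hvp2, eich_inv, ← neg_smul]
        push_cast; rfl
    have hXY : φ X ∉ Subgroup.zpowers (φ Y) := by
      intro h
      obtain ⟨i, hi⟩ := Subgroup.mem_zpowers_iff.1 h
      have hz : Rat F₀ (p1 + (-(i : F)) • p2) :=
        hp1.add (hp2.smul (F₀.neg_mem (intCast_mem F₀ i)))
      have hQz : Q (p1 + (-(i : F)) • p2) = 0 := by
        rw [Q_add, Q_smul, pl_smul_right, hh1.qe, hh2.qe,
          show polar ⇑Q p1 p2 = 0 from (hperp2 1).1]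
        ring
      have hvz : polar ⇑Q v (p1 + (-(i : F)) • p2) = 0 := by
        rw [pl_add_right, pl_smul_right, hvp1, hvp2]; ring
      refine htriv _ hz hQz hvz (hnc i) (hxS _ hz hQz hvz) ?_
      have h1 : φ (X * (Y ^ i)⁻¹) = 1 := by rw [map_mul, map_inv, map_zpow, hi, mul_inv_cancel]
      convert h1 using 2
      refine Subtype.ext ?_
      show eich Q v (p1 + (-(i : F)) • p2) = (X : IsoGrp Q) * ((Y : IsoGrp Q) ^ i)⁻¹
      rw [hYz, eich_inv, eich_add hQv hvp1 (by rw [pl_neg_right, pl_smul_right, hvp2]; ring),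
        neg_smul]
    let G := φ.range
    have hone : φ X ≠ 1 := htriv p1 hp1 hh1.qe hvp1
      (fun c hc => by
        have h1 := congrArg (fun z => polar ⇑Q z t1) hc
        simp only [pl_smul_left, hvt1, hh1.pf, mul_zero] at h1
        exact zero_ne_one h1) _
    have hyone : φ Y ≠ 1 := htriv p2 hp2 hh2.qe hvp2
      (fun c hc => by
        have h1 := congrArg (fun z => polar ⇑Q z t2) hc
        simp only [pl_smul_left, (hperp2 0).2, hh2.pf, mul_zero,
          show polar ⇑Q v t2 = 0 from (hperp2 0).2] at h1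
        exact zero_ne_one h1) _
    have hfixv : ∀ z, Q z = 0 → polar ⇑Q v z = 0 → ap (eich Q v z) v = (1 : F) • v :=
      fun z hQz hvz => by
      rw [eich_ap_singular hQv hQz hvz, pl_self, hQv, pl_comm Q z v, hvz]; simp
    refine false_of_semiregular (G := G) pt ?_ ?_ hpp (x := ⟨_, X, rfl⟩) (y := ⟨_, Y, rfl⟩)
      ((hpt X).2 ⟨1, hfixv p1 hh1.qe hvp1⟩) ((hpt Y).2 ⟨1, hfixv p2 hh2.qe hvp2⟩)
      (orderOf_eq_prime (Subtype.ext (by
        show φ X ^ p = 1
        rw [← map_pow, show X ^ p = 1 from Subtype.ext (eich_pow_char hQv hvp1), map_one]))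
        fun h => hone (congrArg Subtype.val h))
      (orderOf_eq_prime (Subtype.ext (by
        show φ Y ^ p = 1
        rw [← map_pow, show Y ^ p = 1 from Subtype.ext (eich_pow_char hQv hvp2), map_one]))
        fun h => hyone (congrArg Subtype.val h))
      (Subtype.ext ?_) ?_
    · refine ⟨⟨φ ⟨τ, hτS⟩, _, rfl⟩, fun h => ?_⟩
      obtain ⟨c, hc⟩ := (hpt ⟨τ, hτS⟩).1 h
      rw [show ap τ v = v - a • w from hτv] at hc
      refine hind ((1 - c) / a) ?_
      rw [div_eq_inv_mul, ← smul_smul, sub_smul, one_smul, ← hc, sub_sub_cancel, inv_smul_smul₀ ha0]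
    · rintro ⟨_, s, rfl⟩ ⟨_, k, rfl⟩ hs hk hks
      obtain ⟨α, hkv⟩ := (hpt k).1 hk
      set w' := ap (s : IsoGrp Q) v with hw'
      obtain ⟨β, hkw'⟩ : ∃ β : F, ap (k : IsoGrp Q) w' = β • w' := by
        have h1 : φ (s⁻¹ * k * s) pt = pt := by
          rw [map_mul, map_mul, Equiv.Perm.mul_apply, Equiv.Perm.mul_apply, map_inv,
            show φ k (φ s pt) = φ s pt from hks]
          exact (φ s).symm_apply_apply _
        obtain ⟨c, hc⟩ := (hpt _).1 h1
        refine ⟨c, ?_⟩
        have h2 := congrArg (ap (s : IsoGrp Q)) hc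
        rw [← Orth.ap_mul, map_smul] at h2
        rw [hw', ← Orth.ap_mul, ← h2]
        push_cast
        rw [← mul_assoc, ← mul_assoc, mul_inv_cancel, one_mul]
      obtain ⟨c, d, hcd⟩ := Submodule.mem_span_pair.1 (hSℓ s s.2 v hvℓ)
      rw [← hw'] at hcd
      have hd : d ≠ 0 := fun h0 => hs ((hpt s).2 ⟨c, by rw [← hw', ← hcd, h0]; simp⟩)
      have hQw' : Q w' = 0 := (Q_ap _ v).trans hQv
      have hind2 : ∀ x : F, x • v ≠ w' := fun x hx => hs ((hpt s).2 ⟨x, hx.symm⟩)
      have hab : α * β = 1 := by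
        obtain ⟨x, hvx, hwx⟩ := exists_dual' C.nd hv0 hind2
        have h1 : polar ⇑Q (ap (k : IsoGrp Q) v) x • ap (k : IsoGrp Q) w' -
            polar ⇑Q (ap (k : IsoGrp Q) w') x • ap (k : IsoGrp Q) v =
            polar ⇑Q v x • w' - polar ⇑Q w' x • v := by
          rw [← hcd]
          simp only [map_add, map_smul, pl_add_left, pl_smul_left]
          linear_combination (norm := module) d • (hS k k.2 x)
        rw [hkv, hkw', pl_smul_left, pl_smul_left, hvx, hwx] at h1
        by_contra hne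
        have h2 : (α * β - 1) • v = 0 := by linear_combination (norm := module) -h1
        exact hne (sub_eq_zero.1 ((smul_eq_zero.1 h2).resolve_right hv0))
      have hvw' : polar ⇑Q v w' = 0 := by
        rw [← hcd, pl_add_right, pl_smul_right, pl_smul_right, pl_self, hQv, hvw]; ring
      have hαβ := C.two_point hv hv0 hQv hvw' (fun z hz hQz hvz hw'z => hbig z hz hQz hvz (by
          rw [← hcd, pl_add_left, pl_smul_left, pl_smul_left, hvz] at hw'z
          simpa [hd] using hw'z))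
        (C.mem_of_map_rat hM hns k.2.1 hv hv0 hQv ⟨α, v, hv, hkv⟩) hkv hkw' hab
      subst hαβ
      have hα : α ≠ 0 := left_ne_zero_of_mul_eq_one hab
      have hkw : ap (k : IsoGrp Q) w = α • w := by
        have h1 : w = d⁻¹ • w' - (d⁻¹ * c) • v := by
          rw [← hcd, smul_add, smul_smul, smul_smul, inv_mul_cancel₀ hd, one_smul]; abel
        rw [h1, map_sub, map_smul, map_smul, hkv, hkw']; module
      refine Subtype.ext (Equiv.ext fun U => Subtype.ext ?_)
      show U.1.map (ap (k : IsoGrp Q)) = U.1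
      have hsc : ∀ u ∈ ℓ, ap (k : IsoGrp Q) u = α • u := fun u hu => by
        obtain ⟨x, x', rfl⟩ := Submodule.mem_span_pair.1 hu
        rw [map_add, map_smul, map_smul, hkv, hkw]; module
      ext u
      constructor
      · rintro ⟨u', hu', rfl⟩
        rw [hsc u' (U.2 hu')]; exact U.1.smul_mem α hu'
      · exact fun hu => ⟨α⁻¹ • u, U.1.smul_mem _ hu, by
          rw [map_smul, hsc u (U.2 hu), smul_smul, inv_mul_cancel₀ hα, one_smul]⟩
    · show φ X * φ Y = φ Y * φ X
      rw [← map_mul, ← map_mul]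
      refine congrArg φ (Subtype.ext ?_)
      show eich Q v p1 * eich Q v p2 = eich Q v p2 * eich Q v p1
      rw [eich_add hQv hvp1 hvp2, eich_add hQv hvp2 hvp1, add_comm]
    · intro h
      obtain ⟨i, hi⟩ := Subgroup.mem_zpowers_iff.1 h
      exact hXY (Subgroup.mem_zpowers_iff.2 ⟨i, by simpa using congrArg Subtype.val hi⟩)

end Ctx

end Cfsg.Agent.C5.Ortho
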