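import Cfsg.Agent.Lib.Transvect.Basic

/-!
# Moving a subfield subgroup to standard position
-/

set_option autoImplicit false

namespace Cfsg.Agent.C5

open Matrix Cfsg.Agent.Transvect

theorem isMaximalIn_map {G G' : Type*} [Group G] [Group G'] (e : G ≃* G') {K H : Subgroup G}
    (h : Cfsg.Geo.IsMaximalIn K H) :
    Cfsg.Geo.IsMaximalIn (K.map e.toMonoidHom) (H.map e.toMonoidHom) := by
  have hinj : Function.Injective (Subgroup.map e.toMonoidHom) := Subgroup.map_injective e.injective
  refine ⟨lt_of_le_of_ne (Subgroup.map_mono h.1.le) fun he => h.1.ne (hinj he), fun M h1 h2 => ?_⟩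
  have hM : (M.comap e.toMonoidHom).map e.toMonoidHom = M :=
    Subgroup.map_comap_eq_self_of_surjective e.surjective M
  rcases h.2 (M.comap e.toMonoidHom) (Subgroup.map_le_iff_le_comap.1 h1)
    (by rw [← Subgroup.map_le_map_iff_of_injective (f := e.toMonoidHom) e.injective, hM]; exact h2)
    with h3 | h3
  · exact Or.inl (by rw [← hM, h3])
  · exact Or.inr (by rw [← hM, h3])

variable {ι : Type} [Fintype ι] [DecidableEq ι] {F : Type*} [Field F]

theorem subfieldSubgroup_eq_map (F₀ : Subfield F) (P : GL ι F) :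
    Cfsg.Geo.subfieldSubgroup F₀ P =
      (Cfsg.Geo.subfieldSubgroup F₀ 1).map (MulAut.conj P).toMonoidHom := by
  rw [Cfsg.Geo.subfieldSubgroup, Cfsg.Geo.subfieldSubgroup, Subgroup.map_map]
  congr 1
  refine MonoidHom.ext fun x => ?_
  simp

theorem specialLinear_map_conj (P : GL ι F) :
    (Cfsg.Geo.specialLinear ι F).map (MulAut.conj P).toMonoidHom = Cfsg.Geo.specialLinear ι F := by
  haveI : (Cfsg.Geo.specialLinear ι F).Normal := by
    unfold Cfsg.Geo.specialLinear; infer_instance
  apply le_antisymm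
  · rintro _ ⟨x, hx, rfl⟩
    exact Subgroup.Normal.conj_mem inferInstance x hx P
  · intro x hx
    refine ⟨P⁻¹ * x * P, by simpa using Subgroup.Normal.conj_mem inferInstance x hx P⁻¹, ?_⟩
    simp [mul_assoc]

end Cfsg.Agent.C5
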