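import Cfsg.Agent.Lib.C5.OrthFinal
import Cfsg.Agent.Lib.C5.Transfer
import Cfsg.Agent.Lib.Transvect.Basic

/-!
# The maximality theorem for subfield subgroups of orthogonal groups
-/

set_option autoImplicit false
set_option linter.unusedSectionVars false

namespace Cfsg.Agent.C5.Ortho

open Matrix Cfsg.Agent.C5 Cfsg.Agent.Orth
open QuadraticMap (polar)
open Cfsg.Agent.Transvect (app)

variable {ι : Type} [Fintype ι] [DecidableEq ι] {F : Type*} [Field F] [Fintype F] {F₀ : Subfield F}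
  {Q : QuadraticForm F (ι → F)} {r : ℕ}

/-- `Ω` is bigger than its subfield part. -/
lemma Ctx.exists_omega_not_mem (C : Ctx Q F₀ r) :
    ∃ g ∈ Cfsg.Omega F ⇑Q, g ∉ ratSub Q F₀ := by
  obtain ⟨l, hl⟩ : ∃ l : F, l ∉ F₀ := by
    by_contra! hall
    have h1 : Nat.card F₀ = Fintype.card F := by
      rw [← Nat.card_eq_fintype_card]
      exact Nat.card_congr (Equiv.subtypeUnivEquiv hall)
    have h2 := Nat.pow_lt_pow_right (Fintype.one_lt_card (α := F)) C.hr.one_lt
    rw [pow_one] at h2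
    have h3 := C.hcard
    rw [h1] at h3
    omega
  obtain ⟨P, T, hP, hT, hh, hc⟩ := C.exists_three
  have c01 := hc 0 1 (by decide)
  have h : polar ⇑Q (P 0) (l • P 1) = 0 := by rw [pl_smul_right, c01.1, mul_zero]
  refine ⟨_, C.eich_mem_omega (P 0) (l • P 1), fun hk => hl ?_⟩
  have h1 : ap (eich Q (P 0) (l • P 1)) (P 0) = P 0 := by
    rw [eich_ap (hh 0).qe h, pl_self, (hh 0).qe, pl_comm Q (l • P 1), h]
    simp
  have h2 := rat_ap_of_mem hk (hP 0) (hh 0).ne_zero (by rw [h1]; exact hP 0) (hT 0)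
  rw [eich_ap_singular (hh 0).qe (by rw [Q_smul, (hh 1).qe, mul_zero]) h, pl_smul_left,
    pl_comm Q (P 1), c01.2.2.1, mul_zero, zero_smul, sub_zero, (hh 0).pf, one_smul] at h2
  have h3 := h2.sub (hT 0)
  rw [add_sub_cancel_left] at h3
  exact mem_of_smul_rat (hP 1) (hh 1).ne_zero h3

/-- The rational subgroup is maximal in `Ω`, read in `GL`. -/
lemma Ctx.isMaximalIn (C : Ctx Q F₀ r) : Cfsg.Geo.IsMaximalIn (Cfsg.Geo.omegaGL ⇑Q)
    (Cfsg.Geo.subfieldSubgroup F₀ 1 ⊓ Cfsg.Geo.omegaGL ⇑Q) := by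
  refine Transvect.isMaximalIn_of_forall inf_le_right ?_ fun M hHM hMK g hg hgH => ?_
  · obtain ⟨g, hg, hgn⟩ := C.exists_omega_not_mem
    exact ⟨g, coe_mem_omegaGL.2 hg, fun h => hgn h.1⟩
  · obtain ⟨g, hgΩ, rfl⟩ := mem_omegaGL_iff.1 (hMK hg)
    have h1 : Cfsg.Omega F ⇑Q ≤ M.comap (Cfsg.isometryGroup F ⇑Q).subtype :=
      C.omega_le_of_not_mem (fun x hx => hHM ⟨hx.1, coe_mem_omegaGL.2 hx.2⟩)
        (fun x hx => coe_mem_omegaGL.1 (hMK hx)) hg fun h => hgH ⟨h, coe_mem_omegaGL.2 hgΩ⟩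
    intro x hx
    obtain ⟨h, hh, rfl⟩ := mem_omegaGL_iff.1 hx
    exact h1 hh

/-- Conjugation carries the isometry group and its commutator subgroup. -/
lemma omegaGL_map_conj (Q Q' : (ι → F) → F) (P : GL ι F)
    (h : (Cfsg.isometryGroup F Q').map (MulAut.conj P).toMonoidHom = Cfsg.isometryGroup F Q) :
    (Cfsg.Geo.omegaGL Q').map (MulAut.conj P).toMonoidHom = Cfsg.Geo.omegaGL Q := by
  have key : ∀ R : (ι → F) → F, Cfsg.Geo.omegaGL R =
      ⁅Cfsg.isometryGroup F R, Cfsg.isometryGroup F R⁆ := fun R => by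
    unfold Cfsg.Geo.omegaGL Cfsg.Omega
    rw [commutator_def, Subgroup.map_commutator, ← MonoidHom.range_eq_map, Subgroup.range_subtype]
  rw [key, key, Subgroup.map_commutator, h]

/-- A subfield subgroup of an orthogonal group is maximal in `Ω`. -/
theorem isMaximalIn_subfield (hnd : Q.polarBilin.Nondegenerate) (hn : 7 ≤ Fintype.card ι)
    (hr : r.Prime) (hcard : Fintype.card F = Nat.card F₀ ^ r) (P : GL ι F) {ζ : F} (hζ : ζ ≠ 0)
    (hP : Cfsg.Geo.IsQuadFormRationalStructure (fun v => ζ * Q v) F₀ P) :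
    Cfsg.Geo.IsMaximalIn (Cfsg.Geo.omegaGL ⇑Q)
      (Cfsg.Geo.subfieldSubgroup F₀ P ⊓ Cfsg.Geo.omegaGL ⇑Q) := by
  let Q' : QuadraticForm F (ι → F) := ζ • Q.comp (app P).toLinearMap
  have hQ' : ∀ v, Q' v = ζ * Q (app P v) := fun v => rfl
  have hpol : ∀ x y, polar ⇑Q' x y = ζ * polar ⇑Q (app P x) (app P y) := fun x y => by
    simp only [polar, hQ', map_add]; ring
  have hnd' : Q'.polarBilin.Nondegenerate := by
    have hl : ∀ x, (∀ y, polar ⇑Q' x y = 0) → x = 0 := fun x hx => by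
      refine (app P).map_eq_zero_iff.1 (hnd.1 _ fun y => ?_)
      have := hx ((app P).symm y)
      rw [hpol, LinearEquiv.apply_symm_apply] at this
      exact (mul_eq_zero.1 this).resolve_left hζ
    exact ⟨hl, fun y hy => hl y fun x => by rw [pl_comm]; exact hy x⟩
  have C : Ctx Q' F₀ r := ⟨hnd', hn, hr, hcard, fun v hv => hP v hv⟩
  have hiso : (Cfsg.isometryGroup F ⇑Q').map (MulAut.conj P).toMonoidHom =
      Cfsg.isometryGroup F ⇑Q := by
    ext g
    rw [Subgroup.mem_map]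
    constructor
    · rintro ⟨x, hx, rfl⟩ u v
      have h1 : ∀ w, Q' (app x w) = Q' w := fun w => hx w w
      have h2 := h1 (app P⁻¹ u)
      simp only [hQ', Transvect.app_app_inv] at h2
      show Q (app (P * x * P⁻¹) u) = Q u
      simp only [map_mul, LinearEquiv.mul_apply]
      exact mul_left_cancel₀ hζ h2
    · intro hg
      refine ⟨P⁻¹ * g * P, fun u v => ?_, by simp [mul_assoc]⟩
      have h1 : ∀ w, Q (app g w) = Q w := fun w => hg w w
      show Q' (app (P⁻¹ * g * P) u) = Q' u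
      simp only [hQ', map_mul, LinearEquiv.mul_apply, Transvect.app_app_inv, h1]
  have h1 := C5.isMaximalIn_map (MulAut.conj P) C.isMaximalIn
  rw [Subgroup.map_inf _ _ (MulAut.conj P).toMonoidHom (MulEquiv.injective _),
    omegaGL_map_conj _ _ P hiso, ← C5.subfieldSubgroup_eq_map] at h1
  exact h1

end Cfsg.Agent.C5.Ortho
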