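import Cfsg.Agent.Lib.C5.OrthBase

/-!
# Scalars of root elements in an overgroup of an orthogonal subfield group

In a proper overgroup the root elements at rational totally singular planes have scalars in `F₀`,
and an element mapping a rational singular point to a rational point is in the subfield group.
-/

set_option autoImplicit false
set_option linter.unusedSectionVars false

namespace Cfsg.Agent.C5.Ortho

open Matrix Module Cfsg.Agent.C5 Cfsg.Agent.Orth
open QuadraticMap (polar)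
open Cfsg.Agent.Transvect (app)

variable {ι : Type} [Fintype ι] [DecidableEq ι] {F : Type*} [Field F] [Fintype F] {F₀ : Subfield F}
  {Q : QuadraticForm F (ι → F)} {r : ℕ}

/-- `a` multiplies every rational root group into `M`. -/
def Short (Q : QuadraticForm F (ι → F)) (F₀ : Subfield F) (M : Subgroup (IsoGrp Q)) (a : F) :
    Prop :=
  ∀ u v, RPair Q F₀ u v → eich Q u (a • v) ∈ M

/-- An Eichler element at a sum in a totally singular space. -/
lemma eich_three {a b e : ι → F} (ha : Q a = 0) (hb : Q b = 0) (he : Q e = 0)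
    (hab : polar ⇑Q a b = 0) (hae : polar ⇑Q a e = 0) (hbe : polar ⇑Q b e = 0) (s σ μ : F) :
    eich Q (a + s • e) (μ • (b + σ • e)) = eich Q a (μ • b) * eich Q e (μ • (s • b - σ • a)) := by
  have hba : polar ⇑Q b a = 0 := by rw [pl_comm]; exact hab
  have hea : polar ⇑Q e a = 0 := by rw [pl_comm]; exact hae
  have heb : polar ⇑Q e b = 0 := by rw [pl_comm]; exact hbe
  refine ext_ap fun x => ?_
  rw [Orth.ap_mul, eich_ap_singular (by simp [Q_add, Q_smul, pl_smul_right, ha, he, hae])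
      (by simp [Q_add, Q_smul, pl_smul_right, hb, he, hbe])
      (by simp [pl_add_left, pl_add_right, pl_smul_left, pl_smul_right, pl_self, he, hab, hae, heb]),
    eich_ap_singular he (by simp [Q_sub, Q_smul, pl_smul_left, pl_smul_right, ha, hb, hba])
      (by simp [pl_sub_right, pl_smul_right, hea, heb]),
    eich_ap_singular ha (by simp [Q_smul, hb]) (by simp [pl_smul_right, hab])]
  simp only [pl_add_left, pl_add_right, pl_sub_left, pl_sub_right, pl_smul_left, pl_smul_right,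
    pl_self, ha, hb, he, hab, hae, hbe, hba, hea, heb]
  module

namespace Ctx

variable (C : Ctx Q F₀ r) {M : Subgroup (IsoGrp Q)} (hM : ratSub Q F₀ ⊓ Cfsg.Omega F ⇑Q ≤ M)
include C

lemma rat_eich_mem_sub {u w : ι → F} (hu : Rat F₀ u) (hw : Rat F₀ w) :
    eich Q u w ∈ ratSub Q F₀ := by
  by_cases h : Q u = 0 ∧ polar ⇑Q u w = 0
  · refine ratLine_mem_iff.2 ⟨1, one_ne_zero, fun x hx => ?_⟩
    show Rat F₀ ((1 : F)⁻¹ • ap (eich Q u w) x)
    rw [inv_one, one_smul, eich_ap h.1 h.2]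
    exact (hx.add (hw.smul (polar_rat C.hR hu hx))).sub
      (hu.smul (F₀.add_mem (polar_rat C.hR hw hx) (F₀.mul_mem (C.hR w hw) (polar_rat C.hR hu hx))))
  · rw [eich_eq_one h]; exact one_mem _

lemma eich_mem_omega (u w : ι → F) : eich Q u w ∈ Cfsg.Omega F ⇑Q :=
  eichGen_le_omega C.nd (by have := C.hn; omega) (.inr (by have := C.hn; omega))
    (eich_mem_eichGen u w)

include hM

lemma rat_eich_mem {u w : ι → F} (hu : Rat F₀ u) (hw : Rat F₀ w) : eich Q u w ∈ M :=
  hM ⟨C.rat_eich_mem_sub hu hw, C.eich_mem_omega u w⟩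

/-- Conjugation by a rational element fixing the centre. -/
lemma diff_mem {e y : ι → F} (he : Q e = 0) (hey : polar ⇑Q e y = 0) (h : eich Q e y ∈ M)
    {p q : ι → F} (hp : Rat F₀ p) (hq : Rat F₀ q) (hfix : ap (eich Q p q) e = e) :
    eich Q e (ap (eich Q p q) y - y) ∈ M := by
  have hg := C.rat_eich_mem hM hp hq
  have h1 := mul_mem (mul_mem (mul_mem hg h) (inv_mem hg)) (inv_mem h)
  have h2 : polar ⇑Q e (ap (eich Q p q) y) = 0 := by
    conv_lhs => arg 2; rw [← hfix]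
    rw [polar_ap, hey]
  rwa [conj_eich, hfix, eich_inv, eich_add he h2 (by rw [pl_neg_right, hey, neg_zero]),
    ← sub_eq_add_neg] at h1

/-- From one root group to another sharing the centre. -/
lemma short_step {a : F} {x y : ι → F} (h : RPair Q F₀ x y) (hm : eich Q x (a • y) ∈ M)
    {p t : ι → F} (hp : Rat F₀ p) (ht : Rat F₀ t) (hh : HPair Q p t) (hxp : polar ⇑Q x p = 0)
    (hxt : polar ⇑Q x t = 0) (hyp : polar ⇑Q y p = 0) (hyt : polar ⇑Q y t = 0) :
    eich Q x (a • p) ∈ M := by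
  obtain ⟨d, hd, hxd, hyd⟩ := C.exists_dual h.ru h.u0 h.rv h.ind
  set q := d - polar ⇑Q p d • t
  have hq : Rat F₀ q := hd.sub (ht.smul (polar_rat C.hR hp hd))
  have hpq : polar ⇑Q p q = 0 := by
    simp only [q, pl_sub_right, pl_smul_right, hh.pf]; ring
  have hxq : polar ⇑Q x q = 0 := by simp [q, pl_sub_right, pl_smul_right, hxd, hxt]
  have hyq : polar ⇑Q y q = 1 := by simp [q, pl_sub_right, pl_smul_right, hyd, hyt]
  have hfix : ap (eich Q p q) x = x := by
    rw [eich_ap hh.qe hpq, pl_comm Q p x, hxp, pl_comm Q q x, hxq]; simp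
  have h1 := C.diff_mem hM h.qu (by rw [pl_smul_right, h.uv, mul_zero]) hm hp hq hfix
  rw [show ap (eich Q p q) (a • y) - a • y = -(a • p) by
    rw [map_smul, eich_ap hh.qe hpq, pl_comm Q p y, hyp, pl_comm Q q y, hyq]; module] at h1
  have h2 := inv_mem h1
  rwa [eich_inv, neg_neg] at h2

/-- Two rational root groups with one centre at non-orthogonal points. -/
lemma short_second' {a : F} {x y v : ι → F} (h : RPair Q F₀ x y) (h' : RPair Q F₀ x v)
    (hyv : polar ⇑Q y v ≠ 0) (hm : eich Q x (a • y) ∈ M) : eich Q x (a • v) ∈ M := by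
  set v1 := (polar ⇑Q y v)⁻¹ • v with hv1
  have hP : polar ⇑Q y v ∈ F₀ := polar_rat C.hR h.rv h'.rv
  have hyv1 : HPair Q y v1 := ⟨h.qv, by rw [hv1, Q_smul, h'.qv, mul_zero],
    by rw [hv1, pl_smul_right, inv_mul_cancel₀ hyv]⟩
  obtain ⟨p, t, hp, ht, hh, hperp'⟩ := C.exists_hpair_perp_vec h.ru h.rv
    (h'.rv.smul (F₀.inv_mem hP)) hyv1 h.uv (by rw [pl_smul_right, h'.uv, mul_zero])
  have hperp : ∀ b, polar ⇑Q (![x, y, v] b) p = 0 ∧ polar ⇑Q (![x, y, v] b) t = 0 := fun b => by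
    have hc : (polar ⇑Q y v)⁻¹ ≠ 0 := inv_ne_zero hyv
    have h2 := hperp' 2
    simp [hv1, pl_smul_left, hc] at h2
    fin_cases b
    · exact hperp' 0
    · exact hperp' 1
    · exact h2
  obtain ⟨hxp, hxt⟩ : polar ⇑Q x p = 0 ∧ polar ⇑Q x t = 0 := hperp 0
  obtain ⟨hyp, hyt⟩ : polar ⇑Q y p = 0 ∧ polar ⇑Q y t = 0 := hperp 1
  obtain ⟨hvp, hvt⟩ : polar ⇑Q v p = 0 ∧ polar ⇑Q v t = 0 := hperp 2
  have h1 := C.short_step hM h hm hp ht hh hxp hxt hyp hyt
  have hxP : RPair Q F₀ x p := C.rpair_of h.ru h.u0 h.qu hp hh.qe hxp hxt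
    (by rw [hh.pf]; exact one_ne_zero)
  obtain ⟨d, hd, hxd, hvd⟩ := C.exists_dual h.ru h.u0 h'.rv h'.ind
  set d' := d - polar ⇑Q p d • t with hd'
  have hdr : Rat F₀ d' := hd.sub (ht.smul (polar_rat C.hR hp hd))
  have hxd' : polar ⇑Q x d' = 0 := by simp [hd', pl_sub_right, pl_smul_right, hxd, hxt]
  have hvd' : polar ⇑Q v d' = 1 := by simp [hd', pl_sub_right, pl_smul_right, hvd, hvt]
  have hpd' : polar ⇑Q p d' = 0 := by
    simp only [hd', pl_sub_right, pl_smul_right, hh.pf]; ring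
  refine C.short_step hM hxP h1 h'.rv (hdr.sub (h'.rv.smul (C.hR d' hdr))) ⟨h'.qv, ?_, ?_⟩
    h'.uv ?_ (by rw [pl_comm]; exact hvp) ?_
  · rw [Q_sub, Q_smul, h'.qv, pl_smul_right, pl_comm Q d' v, hvd']; ring
  · rw [pl_sub_right, pl_smul_right, pl_self, h'.qv, hvd']; ring
  · rw [pl_sub_right, pl_smul_right, hxd', h'.uv]; ring
  · rw [pl_sub_right, pl_smul_right, hpd', pl_comm Q p v, hvp]; ring

/-- All rational root groups with one centre. -/
lemma short_second {a : F} {x y v : ι → F} (h : RPair Q F₀ x y) (h' : RPair Q F₀ x v)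
    (hm : eich Q x (a • y) ∈ M) : eich Q x (a • v) ∈ M := by
  have mk : ∀ {z : ι → F}, RPair Q F₀ x z → ∃ w, Rat F₀ w ∧ Q w = 0 ∧ polar ⇑Q x w = 0 ∧
      polar ⇑Q z w = 1 := fun {z} hz => by
    obtain ⟨d, hd, hxd, hzd⟩ := C.exists_dual hz.ru hz.u0 hz.rv hz.ind
    exact ⟨d - Q d • z, hd.sub (hz.rv.smul (C.hR d hd)),
      by rw [Q_sub, Q_smul, hz.qv, pl_smul_right, pl_comm Q d z, hzd]; ring,
      by rw [pl_sub_right, pl_smul_right, hxd, hz.uv]; ring,
      by rw [pl_sub_right, pl_smul_right, pl_self, hz.qv, hzd]; ring⟩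
  by_cases e3 : polar ⇑Q y v = 0
  swap
  · exact C.short_second' hM h h' e3 hm
  obtain ⟨w, hw, hQw, hxw, hyw, hvw⟩ : ∃ w, Rat F₀ w ∧ Q w = 0 ∧ polar ⇑Q x w = 0 ∧
      polar ⇑Q y w ≠ 0 ∧ polar ⇑Q v w ≠ 0 := by
    obtain ⟨w1, r1, q1, x1, y1⟩ := mk h
    by_cases e1 : polar ⇑Q v w1 = 0
    swap
    · exact ⟨w1, r1, q1, x1, by rw [y1]; exact one_ne_zero, e1⟩
    obtain ⟨w2, r2, q2, x2, v2⟩ := mk h'
    by_cases e2 : polar ⇑Q y w2 = 0
    swap
    · exact ⟨w2, r2, q2, x2, e2, by rw [v2]; exact one_ne_zero⟩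
    have hμ := polar_rat C.hR r1 r2
    refine ⟨w1 + w2 - polar ⇑Q w1 w2 • y, (r1.add r2).sub (h.rv.smul hμ), ?_, ?_, ?_, ?_⟩
    · rw [Q_sub, Q_add, Q_smul, q1, q2, h.qv, pl_smul_right, pl_add_left, pl_comm Q w1 y, y1,
        pl_comm Q w2 y, e2]
      ring
    · rw [pl_sub_right, pl_add_right, pl_smul_right, x1, x2, h.uv]; ring
    · rw [pl_sub_right, pl_add_right, pl_smul_right, pl_self, h.qv, y1, e2]
      simp
    · rw [pl_sub_right, pl_add_right, pl_smul_right, e1, v2, pl_comm Q v y, e3]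
      simp
  have hxW : RPair Q F₀ x w := C.rpair_of h.ru h.u0 h.qu hw hQw hxw h.uv
    (by rw [pl_comm]; exact hyw)
  exact C.short_second' hM hxW h' (by rw [pl_comm]; exact hvw) (C.short_second' hM h hxW hyw hm)

lemma short_swap {a : F} {x y : ι → F} (h : RPair Q F₀ x y) (hm : eich Q x (a • y) ∈ M) :
    eich Q y (a • x) ∈ M := by
  have h1 := inv_mem hm
  rwa [eich_inv, ← neg_smul, ← eich_swap' h.qu h.qv h.uv] at h1

lemma short_of_one {a : F} {u v : ι → F} (h : RPair Q F₀ u v) (hm : eich Q u (a • v) ∈ M) :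
    Short Q F₀ M a := by
  intro u' v' h'
  obtain ⟨p, t, hp, ht, hh, hperp⟩ := C.exists_hpair_perp ![u, u']
    (fun a => by fin_cases a <;> first | exact h.ru | exact h'.ru)
    (by have := C.hn; omega)
  have hpf : polar ⇑Q p t ≠ 0 := by rw [hh.pf]; exact one_ne_zero
  have p1 : RPair Q F₀ u p :=
    C.rpair_of h.ru h.u0 h.qu hp hh.qe (hperp 0).1 (hperp 0).2 hpf
  have p2 : RPair Q F₀ u' p :=
    C.rpair_of h'.ru h'.u0 h'.qu hp hh.qe (hperp 1).1 (hperp 1).2 hpf
  have h1 := C.short_swap hM p1 (C.short_second hM h p1 hm)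
  have h2 := C.short_swap hM p2.swap (C.short_second hM p1.swap p2.swap h1)
  exact C.short_second hM p2 h' h2

/-- All scalars give `Ω`. -/
lemma omega_le_of_short (hB : ∀ a, Short Q F₀ M a) : Cfsg.Omega F ⇑Q ≤ M := by
  classical
  have hn := C.hn
  obtain ⟨p, t, hp, ht, hh, -⟩ := C.exists_three
  rw [omega_eq_eichPair C.good (by omega) (.inr (by omega)) (hh 0), eichPair, Subgroup.closure_le]
  have key : ∀ e f : ι → F, Rat F₀ e → Rat F₀ f → HPair Q e f → ∀ w ∈ perp Q e f,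
      eich Q e w ∈ M := by
    intro e f he hf hef w hw
    let P : (ι → F) → Prop := fun z => polar ⇑Q e z = 0 ∧ ∀ c : F, eich Q e (c • z) ∈ M
    have hadd : ∀ x y, P x → P y → P (x + y) := fun x y hx hy =>
      ⟨by rw [pl_add_right, hx.1, hy.1, add_zero], fun c => by
        rw [smul_add, ← eich_add hef.qe (by rw [pl_smul_right, hx.1, mul_zero])
          (by rw [pl_smul_right, hy.1, mul_zero])]
        exact mul_mem (hx.2 c) (hy.2 c)⟩
    have h0 : P 0 := ⟨pl_zero_right Q e, fun c => by rw [smul_zero, eich_zero]; exact one_mem _⟩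
    have hr : ∀ z, Rat F₀ z → polar ⇑Q e z = 0 → polar ⇑Q f z = 0 → P z := fun z hz h1 h2 =>
      C.span_singular he hf hef
        (fun v hv hQv hv' => ⟨hv' 0, fun c => by
          by_cases hv0 : v = 0
          · rw [hv0, smul_zero, eich_zero]; exact one_mem _
          refine hB c e v ⟨hef.qe, hQv, hv' 0, he, hv, hef.ne_zero, fun d hd => hv0 ?_⟩
          have h3 : polar ⇑Q f v = 0 := hv' 1
          rw [← hd, pl_smul_right, pl_comm Q f e, hef.pf, mul_one] at h3
          rw [← hd, h3, zero_smul]⟩) hadd hz (fun a => by fin_cases a <;> assumption)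
    let s : ι → ι → F := fun i => Pi.single i 1
    have hs : ∀ i, P (wPart Q e f (s i)) := fun i => by
      obtain ⟨h1, h2⟩ := mem_perp.1 (hef.wPart_mem (s i))
      refine hr _ ?_ h1 h2
      exact ((rat_single i).sub (he.smul (polar_rat C.hR hf (rat_single i)))).sub
        (hf.smul (polar_rat C.hR he (rat_single i)))
    have hw' : w = ∑ i, w i • wPart Q e f (s i) := by
      obtain ⟨hwe, hwf⟩ := mem_perp.1 hw
      simp only [wPart, smul_sub, smul_smul, Finset.sum_sub_distrib, ← Finset.sum_smul]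
      have hl : ∀ z : ι → F, ∑ i, w i * polar ⇑Q z (s i) = polar ⇑Q z w := fun z => by
        conv_rhs => rw [pi_eq_sum_univ' w, ← QuadraticMap.polarBilin_apply_apply, map_sum]
        simp [s, map_smul]
      rw [hl, hl, hwe, hwf, zero_smul, zero_smul, sub_zero, sub_zero]
      exact pi_eq_sum_univ' w
    have hP : P w := by
      rw [hw']
      refine Finset.sum_induction _ P hadd h0 fun i _ => ⟨?_, fun c => ?_⟩
      · rw [pl_smul_right, (hs i).1, mul_zero]
      · rw [smul_smul]; exact (hs i).2 _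
    simpa using hP.2 1
  rintro _ ⟨w, hw, rfl | rfl⟩
  · exact key _ _ (hp 0) (ht 0) (hh 0) w hw
  · exact key _ _ (ht 0) (hp 0) (hh 0).swap w (by rwa [perp_swap])

variable (hns : ¬ Cfsg.Omega F ⇑Q ≤ M)
include hns

lemma short_mem {a : F} (h : Short Q F₀ M a) : a ∈ F₀ := by
  by_contra ha
  obtain ⟨p, t, hp, ht, hh, hc⟩ := C.exists_three
  refine hns (C.omega_le_of_short hM
    (mem_of_closed (S := {b | Short Q F₀ M b}) C.hr C.hcard
      (fun b hb u v h => C.rat_eich_mem hM h.ru (h.rv.smul hb))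
      (fun x hx y hy u v h => by
        rw [add_smul, ← eich_add h.qu (by rw [pl_smul_right, h.uv, mul_zero])
          (by rw [pl_smul_right, h.uv, mul_zero])]
        exact mul_mem (hx u v h) (hy u v h))
      ?_ (x := a) h ha))
  intro x hx y hy
  have c01 := hc 0 1 (by decide)
  have c02 := hc 0 2 (by decide)
  have c12 := hc 1 2 (by decide)
  have hpf : ∀ b, polar ⇑Q (p b) (t b) ≠ 0 := fun b => by rw [(hh b).pf]; exact one_ne_zero
  have r1 : RPair Q F₀ (p 0) (p 1) :=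
    C.rpair_of (hp 0) (hh 0).ne_zero (hh 0).qe (hp 1) (hh 1).qe c01.1 c01.2.1 (hpf 1)
  have r3 : RPair Q F₀ (p 0) (p 2) :=
    C.rpair_of (hp 0) (hh 0).ne_zero (hh 0).qe (hp 2) (hh 2).qe c02.1 c02.2.1 (hpf 2)
  have r2 : RPair Q F₀ (t 1) (p 2) :=
    C.rpair_of (ht 1) (hh 1).swap.ne_zero (hh 1).qf (hp 2) (hh 2).qe c12.2.2.1 c12.2.2.2 (hpf 2)
  have h2 : polar ⇑Q (t 1) (y • p 2) = 0 := by rw [pl_smul_right, r2.uv, mul_zero]
  have hg := hy _ _ r2
  have hge : ap (eich Q (t 1) (y • p 2)) (p 0) = p 0 := by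
    rw [eich_ap r2.qu h2, pl_comm Q (t 1) (p 0), c01.2.1, pl_smul_left, pl_comm Q (p 2) (p 0),
      c02.1]
    simp
  have hgv : ap (eich Q (t 1) (y • p 2)) (p 1) = p 1 + y • p 2 := by
    rw [eich_ap r2.qu h2, pl_comm Q (t 1) (p 1), (hh 1).pf, pl_smul_left, pl_comm Q (p 2) (p 1),
      c12.1, Q_smul, (hh 2).qe]
    simp
  have h1 := mul_mem (mul_mem hg (hx _ _ r1)) (inv_mem hg)
  rw [conj_eich, hge, map_smul, hgv, smul_add, ← eich_add r1.qu
    (by rw [pl_smul_right, r1.uv, mul_zero])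
    (by rw [pl_smul_right, pl_smul_right, r3.uv, mul_zero, mul_zero]), smul_smul] at h1
  exact C.short_of_one hM r3 ((Subgroup.mul_mem_cancel_left M (hx _ _ r1)).1 h1)

/-- A root element at a rational point pairs rationally with the rational points orthogonal to it. -/
lemma polar_mem_of_eich {e y : ι → F} (he : Rat F₀ e) (he0 : e ≠ 0) (hQe : Q e = 0)
    (hey : polar ⇑Q e y = 0) (h : eich Q e y ∈ M) {v : ι → F} (hv : Rat F₀ v) (hQv : Q v = 0)
    (hev : polar ⇑Q e v = 0) : polar ⇑Q v y ∈ F₀ := by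
  have hn := C.hn
  by_cases hind : ∃ c : F, c • e = v
  · obtain ⟨c, rfl⟩ := hind
    rw [pl_smul_left, hey, mul_zero]; exact F₀.zero_mem
  push Not at hind
  obtain ⟨z, t, hz, ht, hh, hperp⟩ := C.exists_hpair_perp ![e, v]
    (fun a => by fin_cases a <;> assumption) (by omega)
  obtain ⟨hez, het⟩ : polar ⇑Q e z = 0 ∧ polar ⇑Q e t = 0 := hperp 0
  obtain ⟨hvz, hvt⟩ : polar ⇑Q v z = 0 ∧ polar ⇑Q v t = 0 := hperp 1
  have hfix : ap (eich Q v z) e = e := by
    rw [eich_ap hQv hvz, pl_comm Q v e, hev, pl_comm Q z e, hez]; simp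
  have h1 := C.diff_mem hM hQe hey h hv hz hfix
  have hd : ap (eich Q v z) y - y = polar ⇑Q v y • z - polar ⇑Q z y • v := by
    rw [eich_ap_singular hQv hh.qe hvz]; abel
  rw [hd] at h1
  have htv : polar ⇑Q t v = 0 := by rw [pl_comm]; exact hvt
  have hfix2 : ap (eich Q t v) e = e := by
    rw [eich_ap hh.qf htv, pl_comm Q t e, het, pl_comm Q v e, hev]; simp
  have h2 := C.diff_mem hM hQe
    (by rw [pl_sub_right, pl_smul_right, pl_smul_right, hez, hev]; ring) h1 ht hv hfix2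
  rw [eich_ap_singular hh.qf hQv htv] at h2
  simp only [pl_sub_right, pl_smul_right, pl_comm Q t z, hh.pf, htv, hvz, pl_self, hQv, add_zero,
    mul_zero, sub_zero, mul_one] at h2
  rw [zero_smul, sub_zero, add_sub_cancel_left] at h2
  exact C.short_mem hM hns (C.short_of_one hM ⟨hQe, hQv, hev, he, hv, he0, hind⟩ h2)

/-- A root element at a rational point is rational modulo that point. -/
lemma rat_mod_of_eich {e y : ι → F} (he : Rat F₀ e) (he0 : e ≠ 0) (hQe : Q e = 0)
    (hey : polar ⇑Q e y = 0) (h : eich Q e y ∈ M) : ∃ s : F, Rat F₀ (y - s • e) := by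
  classical
  obtain ⟨f, hf, hef⟩ := C.exists_partner he he0 hQe
  refine ⟨polar ⇑Q f y, ?_⟩
  set y0 := y - polar ⇑Q f y • e with hy0
  have hey0 : polar ⇑Q e y0 = 0 := by
    rw [hy0, pl_sub_right, pl_smul_right, hey, pl_self, hQe]; ring
  have hfy0 : polar ⇑Q f y0 = 0 := by
    rw [hy0, pl_sub_right, pl_smul_right, pl_comm Q f e, hef.pf]; ring
  obtain ⟨v0, hv0, hv0f⟩ := C.exists_rat_pol (φ := Q.polarBilin y0) fun z hz => by
    show polar ⇑Q y0 z ∈ F₀
    rw [pl_comm]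
    refine C.rat_induction he hf hef (P := fun z => polar ⇑Q z y0 ∈ F₀)
      (fun a b ha hb => by rw [pl_add_left]; exact F₀.add_mem ha hb)
      (fun c hc => by rw [pl_smul_left, hey0, mul_zero]; exact F₀.zero_mem)
      (fun c hc => by rw [pl_smul_left, hfy0, mul_zero]; exact F₀.zero_mem)
      (fun v hv hQv hev hfv => ?_) hz
    rw [hy0, pl_sub_right, pl_smul_right, pl_comm Q v e, hev, mul_zero, sub_zero]
    exact C.polar_mem_of_eich hM hns he he0 hQe hey h hv hQv hev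
  have : y0 = v0 := by
    by_contra hne
    obtain ⟨x, hx⟩ := exists_polar_ne C.nd (sub_ne_zero.2 hne)
    apply hx
    rw [pl_sub_left, hv0f]
    exact sub_self _
  rw [this]; exact hv0

/-- An element of `M` mapping a rational singular point to one respects the rational singular
vectors orthogonal to it. -/
lemma map_perp {g : IsoGrp Q} (hg : g ∈ M) {e e' : ι → F} (he : Rat F₀ e) (he0 : e ≠ 0)
    (hQe : Q e = 0) (he' : Rat F₀ e') {c : F} (hge : ap g e = c • e') {u : ι → F}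
    (hu : Rat F₀ u) (hQu : Q u = 0) (heu : polar ⇑Q e u = 0) : Rat F₀ (c⁻¹ • ap g u) := by
  have hne : ap g e ≠ 0 := fun h => he0 (ap_inj g (h.trans (map_zero _).symm))
  have hc : c ≠ 0 := fun h => hne (by rw [hge, h, zero_smul])
  have he'0 : e' ≠ 0 := fun h => hne (by rw [hge, h, smul_zero])
  have hQe' : Q e' = 0 := by
    have h1 := Q_ap g e
    rw [hge, Q_smul, hQe] at h1
    exact (mul_eq_zero.1 h1).resolve_left (mul_ne_zero hc hc)
  have aux : ∀ x, Rat F₀ x → Q x = 0 → polar ⇑Q e x = 0 →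
      ∃ (x' : ι → F) (s : F), Rat F₀ x' ∧ c • ap g x = x' + s • e' ∧ polar ⇑Q e' x' = 0 ∧
        Q x' = 0 := by
    intro x hx hQx hex
    have h1 : polar ⇑Q e' (ap g x) = 0 := by
      have := polar_ap g e x
      rw [hge, pl_smul_left, hex] at this
      exact (mul_eq_zero.1 this).resolve_left hc
    have h2 := mul_mem (mul_mem hg (C.rat_eich_mem hM he hx)) (inv_mem hg)
    rw [conj_eich, hge, eich_smul_left] at h2
    obtain ⟨s, hs⟩ := C.rat_mod_of_eich hM hns he' he'0 hQe'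
      (by rw [pl_smul_right, h1, mul_zero]) h2
    refine ⟨c • ap g x - s • e', s, hs, (sub_add_cancel _ _).symm, ?_, ?_⟩
    · rw [pl_sub_right, pl_smul_right, pl_smul_right, h1, pl_self, hQe']; ring
    · rw [Q_sub, Q_smul, Q_smul, Q_ap, hQx, hQe', pl_smul_left, pl_smul_right,
        pl_comm Q (ap g x) e', h1]
      ring
  by_cases hind : ∃ k : F, k • e = u
  · obtain ⟨k, rfl⟩ := hind
    rw [map_smul, hge, smul_comm, inv_smul_smul₀ hc]
    exact he'.smul (mem_of_smul_rat he he0 hu)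
  push Not at hind
  obtain ⟨p, t, hp, ht, hh, hperp⟩ := C.exists_hpair_perp ![e, u]
    (fun a => by fin_cases a <;> assumption) (by have := C.hn; omega)
  obtain ⟨hep, het⟩ : polar ⇑Q e p = 0 ∧ polar ⇑Q e t = 0 := hperp 0
  obtain ⟨hup, hut⟩ : polar ⇑Q u p = 0 ∧ polar ⇑Q u t = 0 := hperp 1
  obtain ⟨u', s, hu', hgu, hu'e, hQu'⟩ := aux u hu hQu heu
  obtain ⟨p', σ, hp', hgp, hp'e, hQp'⟩ := aux p hp hh.qe hep
  obtain ⟨t', τ, ht', hgt, ht'e, hQt'⟩ := aux t ht hh.qf het
  have key : ∀ {x y x' y' : ι → F} {a b : F}, c • ap g x = x' + a • e' →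
      c • ap g y = y' + b • e' → polar ⇑Q e' x' = 0 → polar ⇑Q e' y' = 0 →
      polar ⇑Q x' y' = c * c * polar ⇑Q x y := by
    intro x y x' y' a b h1 h2 h3 h4
    have h5 : polar ⇑Q (c • ap g x) (c • ap g y) = c * c * polar ⇑Q x y := by
      rw [pl_smul_left, pl_smul_right, polar_ap, mul_assoc]
    rw [h1, h2] at h5
    simpa [pl_add_left, pl_add_right, pl_smul_left, pl_smul_right, pl_self, hQe', h4,
      pl_comm Q x' e', h3] using h5
  have hpt : polar ⇑Q p' t' = c * c := by rw [key hgp hgt hp'e ht'e, hh.pf, mul_one]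
  have hN : c * c ∈ F₀ := hpt ▸ polar_rat C.hR hp' ht'
  have hup' : polar ⇑Q u' p' = 0 := by rw [key hgu hgp hu'e hp'e, hup, mul_zero]
  have hut' : polar ⇑Q u' t' = 0 := by rw [key hgu hgt hu'e ht'e, hut, mul_zero]
  have hcc : c * c ≠ 0 := mul_ne_zero hc hc
  have hmem : eich Q u' ((c * c)⁻¹ • p') * eich Q e' ((c * c)⁻¹ • (s • p' - σ • u')) ∈ M := by
    have h1 := mul_mem (mul_mem hg (C.rat_eich_mem hM hu hp)) (inv_mem hg)
    rw [conj_eich] at h1
    rw [← eich_three hQu' hQp' hQe' hup' (by rw [pl_comm]; exact hu'e) (by rw [pl_comm]; exact hp'e)]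
    rw [← inv_smul_smul₀ hc (ap g u), eich_smul_left, hgu, ← inv_smul_smul₀ hc (ap g p), hgp,
      smul_smul, ← mul_inv] at h1
    exact h1
  have h2 := (Subgroup.mul_mem_cancel_left M
    (C.rat_eich_mem hM hu' (hp'.smul (F₀.inv_mem hN)))).1 hmem
  have h3 := C.polar_mem_of_eich hM hns he' he'0 hQe'
    (by rw [pl_smul_right, pl_sub_right, pl_smul_right, pl_smul_right, hp'e, hu'e]; ring) h2
    ht' hQt' ht'e
  rw [pl_smul_right, pl_sub_right, pl_smul_right, pl_smul_right, pl_comm Q t' p', hpt,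
    pl_comm Q t' u', hut', mul_zero, sub_zero] at h3
  have hs : s ∈ F₀ := by
    rwa [show (c * c)⁻¹ * (s * (c * c)) = s by field_simp] at h3
  have hy : Rat F₀ (c • ap g u) := hgu ▸ hu'.add (he'.smul hs)
  have := hy.smul (F₀.inv_mem hN)
  rwa [smul_smul, mul_inv, mul_assoc, inv_mul_cancel₀ hc, mul_one] at this

lemma mem_of_map_rat {g : IsoGrp Q} (hg : g ∈ M) {e : ι → F} (he : Rat F₀ e) (he0 : e ≠ 0)
    (hQe : Q e = 0) (h : RatLine F₀ (ap g e)) : g ∈ ratSub Q F₀ := by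
  obtain ⟨c, e', he', hge⟩ := h
  have hne : ap g e ≠ 0 := fun h => he0 (ap_inj g (h.trans (map_zero _).symm))
  have hc : c ≠ 0 := fun h => hne (by rw [hge, h, zero_smul])
  obtain ⟨f, hf, hef⟩ := C.exists_partner he he0 hQe
  obtain ⟨p, t, hp, ht, hh, hperp⟩ := C.exists_hpair_perp ![e, f]
    (fun a => by fin_cases a <;> assumption) (by have := C.hn; omega)
  have hp1 := C.map_perp hM hns hg he he0 hQe he' hge hp hh.qe (hperp 0).1
  have hgp : ap g p = c • (c⁻¹ • ap g p) := (smul_inv_smul₀ hc _).symm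
  have hfr : Rat F₀ (c⁻¹ • ap g f) := C.map_perp hM hns hg hp hh.ne_zero hh.qe hp1 hgp hf hef.qf
    (by rw [pl_comm]; exact (hperp 1).1)
  refine ratLine_mem_iff.2 ⟨c, hc, fun u hu => ?_⟩
  show Rat F₀ (c⁻¹ • ap g u)
  refine C.rat_induction he hf hef (P := fun u => Rat F₀ (c⁻¹ • ap g u))
    (fun a b ha hb => by simp only [map_add, smul_add]; exact ha.add hb) (fun k hk => ?_)
    (fun k hk => ?_) (fun v hv hQv hev _ => C.map_perp hM hns hg he he0 hQe he' hge hv hQv hev) hu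
  · simp only [map_smul, hge]; rw [smul_comm, inv_smul_smul₀ hc]; exact he'.smul hk
  · simp only [map_smul]; rw [smul_comm]; exact hfr.smul hk

end Ctx

end Cfsg.Agent.C5.Ortho
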