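import Cfsg.Agent.Lib.C5.Symplectic

/-!
# Subfield subgroups of symplectic groups in small dimension, characteristic two

The argument of `C5.Symplectic` with the two purification steps replaced by computations inside
`Sp_4`.
-/

set_option autoImplicit false
set_option linter.unusedSimpArgs false
set_option linter.unusedVariables false
set_option linter.unusedSectionVars false
set_option linter.unusedSectionVars false

namespace Cfsg.Agent.C5Four

open Matrix Cfsg.Agent.Transvect Cfsg.Agent.C5

variable {ι : Type} [Fintype ι] [DecidableEq ι] {F : Type*} [Field F] {F₀ : Subfield F}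
variable {f : (ι → F) → (ι → F) → F}
variable (hf : Cfsg.Geo.IsSymplecticForm f)
include hf

section Alg

variable (h2 : (2 : F) = 0)
include h2

omit hf in
lemma neg2 (x : F) : -x = x := by linear_combination -x * h2

lemma symm2 (x y : ι → F) : f x y = f y x := by rw [hf.skew, neg2 h2]

lemma st_self (v : ι → F) (a : F) : st hf v a * st hf v a = 1 := by
  rw [st_add hf, show a + a = 0 by linear_combination a * h2, st_zero hf]

lemma sh_self {u v : ι → F} (h : f u v = 0) (a : F) : sh hf u v a * sh hf u v a = 1 := by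
  rw [sh_add hf h, show a + a = 0 by linear_combination a * h2, sh_zero hf h]

lemma sh_split {u v v' : ι → F} (h : f u v = 0) (h' : f u v' = 0) (c : F) :
    sh hf u (v + v') c = sh hf u v c * sh hf u v' c * st hf u (c * c * f v' v) := by
  rw [sh_mul_sh hf h h', mul_assoc, st_self hf h2, mul_one]

omit hf in
lemma vec_two (x : ι → F) : x + x = 0 := by
  rw [← two_smul F x, h2, zero_smul]

end Alg

variable [Fintype F] {r : ℕ} (hr : r.Prime) (hcard : Fintype.card F = Nat.card F₀ ^ r)
  (hn : 4 ≤ Fintype.card ι) (hR : RatForm F₀ f)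
include hR hn

lemma ratF_flin {v : ι → F} (hv : Rat F₀ v) : RatF F₀ (flin hf.bilinear v) :=
  fun u hu => hR u v hu hv

/-- Rational functionals are given by rational vectors. -/
lemma exists_rat_flin {φ : (ι → F) →ₗ[F] F} (hφ : RatF F₀ φ) :
    ∃ v, Rat F₀ v ∧ ∀ x, f x v = φ x := by
  classical
  have hv' : ∀ v : ι → F₀, Rat F₀ (fun j => (v j : F)) := fun v j => (v j).2
  let L : (ι → F₀) →ₗ[F₀] (ι → F₀) :=
    { toFun := fun v i => ⟨_, hR (Pi.single i 1) _ (rat_single i) (hv' v)⟩
      map_add' := fun v w => funext fun i => Subtype.ext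
        (f_add_right hf _ (fun j => (v j : F)) (fun j => (w j : F)))
      map_smul' := fun c v => funext fun i => Subtype.ext
        (f_smul_right hf (c : F) _ (fun j => (v j : F))) }
  have key : ∀ (v : ι → F₀) (ψ : (ι → F) →ₗ[F] F),
      (∀ i, (L v i : F) = ψ (Pi.single i 1)) → flin hf.bilinear (fun j => (v j : F)) = ψ :=
    fun v ψ h => LinearMap.ext fun x => by
      rw [pi_eq_sum_univ' x, map_sum, map_sum]
      exact Finset.sum_congr rfl fun i _ => by
        rw [map_smul, map_smul, flin_apply, ← h i]; rfl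
  have hinj : Function.Injective L := fun v w h => by
    have := flin_injective hf.bilinear hf.nondegenerate ((key v _ fun i => by rw [h]; rfl).trans
      (key w (flin hf.bilinear fun j => (w j : F)) fun i => rfl).symm)
    exact funext fun j => Subtype.ext (congrFun this j)
  obtain ⟨v, hv⟩ := (LinearMap.injective_iff_surjective.1 hinj)
    fun i => ⟨_, hφ _ (rat_single i)⟩
  exact ⟨_, hv' v, LinearMap.congr_fun (key v φ fun i => by rw [hv])⟩

omit hn in
lemma generic_pair {w : ι → F} (hw : Generic F₀ w) {v : ι → F} (hv : Rat F₀ v)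
    (h : f w v = 0) : v = 0 := by
  have := hw (flin hf.bilinear v) (fun u hu => hR u v hu hv) h
  exact flin_injective hf.bilinear hf.nondegenerate (this.trans (map_zero _).symm)

omit hR hn in
/-- A rational vector killed by some functionals, outside a given rational plane. -/
lemma exists_rat_outside {k : ℕ} (hk : k + 2 < Fintype.card ι) {φ : Fin k → ((ι → F) →ₗ[F] F)}
    (hφ : ∀ j, RatF F₀ (φ j)) {u v : ι → F} (hu : Rat F₀ u) (hu0 : u ≠ 0) (hv : Rat F₀ v) :
    ∃ z, Rat F₀ z ∧ z ≠ 0 ∧ (∀ j, φ j z = 0) ∧ z ∉ Submodule.span F ({u, v} : Set (ι → F)) := by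
  obtain ⟨α, hα, β, hβ, hab⟩ : ∃ α : (ι → F) →ₗ[F] F, RatF F₀ α ∧ ∃ β : (ι → F) →ₗ[F] F,
      RatF F₀ β ∧ ∀ a b : F, α (a • u + b • v) = 0 → β (a • u + b • v) = 0 → a • u + b • v = 0 := by
    by_cases hv' : v ∈ F ∙ u
    · obtain ⟨c, rfl⟩ := Submodule.mem_span_singleton.1 hv'
      obtain ⟨α, hα, hαu⟩ := exists_ratF_eq_one hu hu0
      refine ⟨α, hα, α, hα, fun a b h _ => ?_⟩
      simp only [map_add, map_smul, hαu, smul_eq_mul, mul_one] at h
      rw [smul_smul, ← add_smul, h, zero_smul]
    · obtain ⟨β, hβ, hβu, hβv⟩ := exists_ratF_sep hv hu hu0 hv'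
      obtain ⟨α, hα, hαv, hαu⟩ := exists_ratF_sep hu hv
        (fun h => hv' (h ▸ Submodule.zero_mem _)) (fun h => hv' <| by
          obtain ⟨c, hc⟩ := Submodule.mem_span_singleton.1 h
          refine Submodule.mem_span_singleton.2 ⟨c⁻¹, ?_⟩
          have hc0 : c ≠ 0 := fun h0 => hu0 (by rw [← hc, h0, zero_smul])
          rw [← hc, inv_smul_smul₀ hc0])
      refine ⟨α, hα, β, hβ, fun a b h h' => ?_⟩
      simp only [map_add, map_smul, hαu, hαv, hβu, hβv, smul_eq_mul, mul_one, mul_zero, add_zero,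
        zero_add] at h h'
      rw [h, h', zero_smul, zero_smul, add_zero]
  obtain ⟨z, hz, hz0, hkill⟩ := exists_rat_kill (φ := Fin.cons α (Fin.cons β φ)) (by omega)
    (fun j => Fin.cases hα (fun j => Fin.cases hβ hφ j) j)
  refine ⟨z, hz, hz0, fun j => by simpa using hkill j.succ.succ, fun hmem => hz0 ?_⟩
  obtain ⟨a, b, rfl⟩ := Submodule.mem_span_pair.1 hmem
  exact hab a b (by simpa using hkill 0) (by simpa using hkill (Fin.succ 0))

/-- A rational partner. -/
lemma exists_rat_partner {e : ι → F} (he : Rat F₀ e) (he0 : e ≠ 0) :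
    ∃ e', Rat F₀ e' ∧ f e e' = 1 := by
  obtain ⟨φ, hφ, hφe⟩ := exists_ratF_eq_one he he0
  obtain ⟨e', he', he'f⟩ := exists_rat_flin hf hn hR hφ
  exact ⟨e', he', by rw [he'f]; exact hφe⟩

/-- A rational vector orthogonal to `u` pairing to one with `v`. -/
lemma exists_rat_sep_pair {u v : ι → F} (hu : Rat F₀ u) (hu0 : u ≠ 0) (hv : Rat F₀ v)
    (hind : v ∉ F ∙ u) : ∃ z, Rat F₀ z ∧ f u z = 0 ∧ f v z = 1 := by
  obtain ⟨α, hα, hαu, hαv⟩ := exists_ratF_sep hv hu hu0 hind
  obtain ⟨z, hz, hzf⟩ := exists_rat_flin hf hn hR hα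
  exact ⟨z, hz, by rw [hzf]; exact hαu, by rw [hzf]; exact hαv⟩

variable {M : Subgroup (GL ι F)} (hiso : M ≤ isoGroup f)
  (hM : Cfsg.Geo.subfieldSubgroup F₀ 1 ⊓ isoGroup f ≤ M)
include hM

lemma rat_st_mem {v : ι → F} (hv : Rat F₀ v) {c : F} (hc : c ∈ F₀) : st hf v c ∈ M :=
  hM ⟨st_mem_subfield hf hR hv hc, st_isIsom hf v c⟩

lemma rat_sh_mem {u v : ι → F} (hu : Rat F₀ u) (hv : Rat F₀ v) {c : F} (hc : c ∈ F₀) :
    sh hf u v c ∈ M :=
  mul_mem (mul_mem (rat_st_mem hf hn hR hM (hu.add hv) hc) (rat_st_mem hf hn hR hM hu (F₀.neg_mem hc)))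
    (rat_st_mem hf hn hR hM hv (F₀.neg_mem hc))

lemma long_of_one {a : F} {v : ι → F} (hv : Rat F₀ v) (hv0 : v ≠ 0) (h : st hf v a ∈ M) :
    LongScalar hf F₀ M a := by
  have move : ∀ x y, Rat F₀ x → Rat F₀ y → f x y ≠ 0 → st hf x a ∈ M → st hf y a ∈ M := by
    intro x y hx hy hxy hmem
    have hg := rat_st_mem hf hn hR hM (hy.sub hx) (F₀.inv_mem (hR x y hx hy))
    have hgx : app (st hf (y - x) (f x y)⁻¹) x = y := by
      rw [st_apply, f_sub_right hf, hf.alternating, sub_zero, inv_mul_cancel₀ hxy, one_smul]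
      abel
    have := mul_mem (mul_mem hg hmem) (inv_mem hg)
    rwa [st_conj hf (st_isIsom hf _ _), hgx] at this
  intro y hy
  by_cases hy0 : y = 0
  · rw [hy0, show st hf (0 : ι → F) a = 1 from gl_ext fun x => by rw [st_apply]; simp]
    exact one_mem _
  obtain ⟨z, hz, h1, h2⟩ : ∃ z, Rat F₀ z ∧ f v z ≠ 0 ∧ f z y ≠ 0 := by
    obtain ⟨a1, ha1, e1⟩ := exists_rat_partner hf hn hR hv hv0
    obtain ⟨b1, hb1, e2⟩ := exists_rat_partner hf hn hR hy hy0
    by_cases c1 : f a1 y = 0
    · by_cases c2 : f v b1 = 0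
      · refine ⟨a1 + b1, ha1.add hb1, by rw [f_add_right hf, e1, c2, add_zero]; exact one_ne_zero, ?_⟩
        rw [f_add_left hf, c1, hf.skew b1 y, e2, zero_add]
        exact neg_ne_zero.2 one_ne_zero
      · exact ⟨b1, hb1, c2, by rw [hf.skew, e2]; exact neg_ne_zero.2 one_ne_zero⟩
    · exact ⟨a1, ha1, by rw [e1]; exact one_ne_zero, c1⟩
  exact move z y hz hy h2 (move v z hv hz h1 h)

section Frames

variable (h2 : (2 : F) = 0)
include h2

/-- A hyperbolic frame through an orthogonal rational pair. -/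
lemma exists_frame {y e : ι → F} (hy : Rat F₀ y) (hy0 : y ≠ 0) (he : Rat F₀ e)
    (hind : e ∉ F ∙ y) (hye : f y e = 0) :
    ∃ d t, Rat F₀ d ∧ Rat F₀ t ∧ f y d = 0 ∧ f e d = 1 ∧ f y t = 1 ∧ f e t = 0 ∧ f d t = 0 := by
  have he0 : e ≠ 0 := fun h => hind (h ▸ Submodule.zero_mem _)
  obtain ⟨d, hd, d1, d2⟩ := exists_rat_sep_pair hf hn hR hy hy0 he hind
  obtain ⟨t, ht, t1, t2⟩ := exists_rat_sep_pair hf hn hR he he0 hy (fun h => by
    obtain ⟨c, hc⟩ := Submodule.mem_span_singleton.1 h
    refine hind (Submodule.mem_span_singleton.2 ⟨c⁻¹, ?_⟩)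
    rw [← hc, inv_smul_smul₀ fun h0 => hy0 (by rw [← hc, h0, zero_smul])])
  refine ⟨d, t + f d t • e, hd, ht.add (he.smul (hR d t hd ht)), d1, d2, ?_, ?_, ?_⟩
  · rw [f_add_right hf, f_smul_right hf, t2, hye, mul_zero, add_zero]
  · rw [f_add_right hf, f_smul_right hf, t1, hf.alternating, mul_zero, add_zero]
  · rw [f_add_right hf, f_smul_right hf, symm2 hf h2 d e, d2]
    linear_combination (f d t) * h2

lemma long_conj {a : F} {v : ι → F} {g : GL ι F} (hg : g ∈ M) (hgi : IsIsom f g)
    (h : st hf v a ∈ M) : st hf (app g v) a ∈ M := by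
  rw [← st_conj hf hgi]; exact mul_mem (mul_mem hg h) (inv_mem hg)

lemma sh_conj_mem {a : F} {u v : ι → F} {g : GL ι F} (hg : g ∈ M) (hgi : IsIsom f g)
    (h : sh hf u v a ∈ M) : sh hf (app g u) (app g v) a ∈ M := by
  rw [← sh_conj hf hgi]; exact mul_mem (mul_mem hg h) (inv_mem hg)

/-- Trading a mixed element of `Q_e` for the standard one with the other vector. -/
lemma mixed_swap {e y t : ι → F} (he : Rat F₀ e) (hy : Rat F₀ y) (ht : Rat F₀ t)
    (h1 : f e y = 0) (h3 : f e t = 0) (h4 : f y t = 1) {b s : F}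
    (h : sh hf e y b * st hf e s ∈ M) : sh hf e t b * st hf e (b * b) ∈ M := by
  have hg := rat_st_mem hf hn hR hM ht F₀.one_mem
  have hgi := st_isIsom hf t (1 : F)
  have hge : app (st hf t 1) e = e := by rw [st_apply, h3]; simp
  have hgy : app (st hf t 1) y = y + t := by rw [st_apply, h4]; simp
  have hc := mul_mem h (mul_mem (mul_mem hg h) (inv_mem hg))
  rw [show st hf t 1 * (sh hf e y b * st hf e s) * (st hf t 1)⁻¹ =
      st hf t 1 * sh hf e y b * (st hf t 1)⁻¹ * (st hf t 1 * st hf e s * (st hf t 1)⁻¹) by group,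
    sh_conj hf hgi, st_conj hf hgi, hge, hgy, sh_split hf h2 h1 h3, symm2 hf h2 t y, h4, mul_one]
    at hc
  have cm : Commute (sh hf e t b * st hf e (b * b)) (st hf e s) :=
    gl_ext fun x => by
      simp only [map_mul, LinearEquiv.mul_apply, sh_apply hf h3, st_apply, f_add_left hf,
        f_smul_left hf, hf.alternating, h3, symm2 hf h2 t e, mul_zero, add_zero]
      module
  have c2 : Commute (st hf e s) (sh hf e y b) :=
    gl_ext fun x => by
      simp only [map_mul, LinearEquiv.mul_apply, sh_apply hf h1, st_apply, f_add_left hf,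
        f_smul_left hf, hf.alternating, h1, symm2 hf h2 y e, mul_zero, add_zero]
      module
  convert hc using 1
  symm
  calc sh hf e y b * st hf e s * (sh hf e y b * sh hf e t b * st hf e (b * b) * st hf e s)
      = sh hf e y b * (st hf e s * sh hf e y b) * ((sh hf e t b * st hf e (b * b)) * st hf e s) := by
        group
    _ = sh hf e y b * (sh hf e y b * st hf e s) * (st hf e s * (sh hf e t b * st hf e (b * b))) := by
        rw [c2.eq, cm.eq]
    _ = (sh hf e y b * sh hf e y b) * (st hf e s * st hf e s) * (sh hf e t b * st hf e (b * b)) := by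
        group
    _ = _ := by rw [sh_self hf h2 h1, st_self hf h2, one_mul, one_mul]

end Frames

include hr hcard

/-- All long root groups give all transvections. -/
lemma all_centres_of_long (hall : ∀ a : F, LongScalar hf F₀ M a) : ∀ w, w ∈ centres hf M := by
  classical
  have hrat : ∀ x, Rat F₀ x → ∀ k : F, k • x ∈ centres hf M := fun x hx k =>
    centres_smul hf (fun c => hall c x hx) k
  have addr : ∀ (x : ι → F) (a : F) (e : ι → F), x ∈ centres hf M → Rat F₀ e →
      x + a • e ∈ centres hf M := by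
    intro x a e hx he
    have hce : e ∈ centres hf M := by simpa using hrat e he 1
    by_cases h1 : f x e ≠ 0
    · exact centres_step' hf hce hx h1 a
    push Not at h1
    by_cases ha : a = 0
    · rw [ha, zero_smul, add_zero]; exact hx
    by_cases he0 : e = 0
    · rw [he0, smul_zero, add_zero]; exact hx
    obtain ⟨z1, hz1, hez1⟩ := exists_rat_partner hf hn hR he he0
    by_cases hgood : ∃ z, Rat F₀ z ∧ f e z = 1 ∧ f x z ≠ 0 ∧ f x z + a ≠ 0
    · obtain ⟨z, hz, hez, hxz, hxaz⟩ := hgood
      have hcz : z ∈ centres hf M := by simpa using hrat z hz 1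
      have s1 := centres_step' hf hcz hx hxz 1
      have s2 := centres_step' hf hce s1 (by
        rw [f_add_left hf, f_smul_left hf, h1, hf.skew z e, hez]; simp) a
      have s3 := centres_step' hf hcz s2 (by
        rw [f_add_left hf, f_add_left hf, f_smul_left hf, f_smul_left hf, hf.alternating, hez,
          mul_zero, add_zero, mul_one]
        exact hxaz) (-1)
      convert s3 using 1
      module
    · push Not at hgood
      have hcase : ∀ z, Rat F₀ z → f e z = 1 → f x z = 0 ∨ f x z = -a := fun z hz hez => by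
        by_cases h : f x z = 0
        · exact Or.inl h
        · exact Or.inr (eq_neg_of_add_eq_zero_left (hgood z hz hez h))
      have hmem : ∀ z, Rat F₀ z → f e z = 1 → f x z * a⁻¹ ∈ F₀ := fun z hz hez => by
        rcases hcase z hz hez with h | h
        · rw [h, zero_mul]; exact F₀.zero_mem
        · rw [h, neg_mul, mul_inv_cancel₀ ha]; exact F₀.neg_mem F₀.one_mem
      have hφ : RatF F₀ (a⁻¹ • -(flin hf.bilinear x)) := fun z hz => by
        have h3 := hmem _ ((hz.sub (hz1.smul (hR e z he hz))).add hz1) (by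
          rw [f_add_right hf, f_sub_right hf, f_smul_right hf, hez1]; ring)
        rw [f_add_right hf, f_sub_right hf, f_smul_right hf] at h3
        have h4 := F₀.add_mem h3 (F₀.mul_mem (hmem z1 hz1 hez1) (F₀.sub_mem (hR e z he hz) F₀.one_mem))
        convert h4 using 1
        simp only [LinearMap.smul_apply, LinearMap.neg_apply, flin_apply, smul_eq_mul,
          hf.skew z x]
        ring
      obtain ⟨v0, hv0, hv0f⟩ := exists_rat_flin hf hn hR hφ
      have hx' : x = (-a) • v0 := by
        refine flin_injective hf.bilinear hf.nondegenerate (LinearMap.ext fun z => ?_)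
        rw [map_smul, LinearMap.smul_apply, flin_apply, flin_apply, hv0f]
        simp only [LinearMap.smul_apply, LinearMap.neg_apply, flin_apply, smul_eq_mul]
        field_simp
      have : x + a • e = a • (e - v0) := by rw [hx']; module
      rw [this]
      exact hrat _ (he.sub hv0) a
  intro w
  rw [pi_eq_sum_univ' w]
  suffices ∀ s : Finset ι, ∑ i ∈ s, w i • (Pi.single i 1 : ι → F) ∈ centres hf M from this _
  intro s
  induction s using Finset.induction_on with
  | empty => rw [Finset.sum_empty]; exact zero_mem_centres hf M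
  | insert i s hi ih =>
    rw [Finset.sum_insert hi, add_comm]
    exact addr _ _ _ ih (rat_single i)

variable (h2 : (2 : F) = 0) (hns : ¬ isoGroup f ≤ M)
include h2

include hns hiso

lemma long_mem {a : F} {v : ι → F} (hv : Rat F₀ v) (hv0 : v ≠ 0) (h : st hf v a ∈ M) : a ∈ F₀ := by
  classical
  by_contra ha
  have hLa := long_of_one hf hn hR hM hv hv0 h
  set A : Set F := {b | LongScalar hf F₀ M b} with hA
  have hF₀ : ∀ x ∈ F₀, x ∈ A := fun x hx y hy => rat_st_mem hf hn hR hM hy hx
  have hadd : ∀ x ∈ A, ∀ y ∈ A, x + y ∈ A := fun x hx y hy w hw => by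
    rw [← st_add hf]; exact mul_mem (hx w hw) (hy w hw)
  obtain ⟨e, he, he0, hk, hen⟩ := exists_rat_outside hf (φ := ![flin hf.bilinear v]) (by omega)
    (fun j => by fin_cases j; exact ratF_flin hf hn hR hv) hv hv0 hv
  have hve : f v e = 0 := by rw [symm2 hf h2]; exact hk 0
  have hev : f e v = 0 := hk 0
  have hind : e ∉ F ∙ v := fun h => hen (Submodule.span_mono (by simp) h)
  obtain ⟨d, t, hd, ht, d1, d2, t1, t2, t3⟩ :=
    exists_frame hf hn hR hM h2 hv hv0 he hind hve
  have hsh : ∀ x ∈ A, sh hf e t x ∈ M := fun x hx => by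
    rw [sh, neg2 h2]
    exact mul_mem (mul_mem (hx _ (he.add ht)) (hx _ he)) (hx _ ht)
  have hX : ∀ x ∈ A, ∀ s ∈ A, sh hf e v (x * s) * st hf e (x * (s * s)) ∈ M := fun x hx s hs => by
    have hgv : app (sh hf e t s) v = v + s • e := by
      rw [sh_apply hf t2, hve, t1]; simp
    have h1 := long_conj hf hn hR hM h2 (hsh s hs) (sh_isIsom hf _ _ _) (hx v hv)
    rw [hgv, st_add_smul hf hev] at h1
    exact (Subgroup.mul_mem_cancel_left M (hx v hv)).1 h1
  have hshv : ∀ x ∈ A, sh hf e v x ∈ M := fun x hx => by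
    rw [sh, neg2 h2]
    exact mul_mem (mul_mem (hx _ (he.add hv)) (hx _ he)) (hx _ hv)
  have hsqm : ∀ s ∈ A, s * s ∈ A := fun s hs => by
    have h1 := hX 1 (hF₀ 1 F₀.one_mem) s hs
    rw [one_mul, one_mul, Subgroup.mul_mem_cancel_left M (hshv s hs)] at h1
    exact long_of_one hf hn hR hM he he0 h1
  -- finite: every member is a square of a member
  have hroot : ∀ b ∈ A, ∃ s ∈ A, s * s = b := fun b hb => by
    have hinj : Function.Injective (fun s : A => (⟨(s : F) * s, hsqm s s.2⟩ : A)) := fun x y hxy => by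
      have hxy' : (x : F) * x = y * y := congrArg Subtype.val hxy
      refine Subtype.ext (sub_eq_zero.1 (mul_self_eq_zero.1 ?_))
      linear_combination hxy' + ((y : F) * y - x * y) * h2
    obtain ⟨s, hs⟩ := (Finite.injective_iff_surjective.1 hinj) ⟨b, hb⟩
    exact ⟨s, s.2, congrArg Subtype.val hs⟩
  have hkey : ∀ x ∈ A, ∀ b ∈ A, (x * x + x) * b ∈ A := fun x hx b hb => by
    obtain ⟨s, hs, rfl⟩ := hroot b hb
    have h1 := hX x hx s hs
    have h3 := mixed_swap hf hn hR hM h2 he hv ht hev t2 t1 h1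
    have h4 := mixed_swap hf hn hR hM h2 he ht hv t2 hev
      (by rw [symm2 hf h2]; exact t1) h3
    have h5 := mul_mem (inv_mem h4) h1
    rw [_root_.mul_inv_rev, mul_assoc, inv_mul_cancel_left, st_inv, neg2 h2, st_add] at h5
    refine long_of_one hf hn hR hM he he0 ?_
    convert h5 using 2
    ring
  set B : Set F := {x | ∀ b ∈ A, x * b ∈ A} with hB
  have hBF : ∀ x ∈ F₀, x ∈ B := fun x hx b hb w hw => by
    obtain ⟨l, hl, hll⟩ : ∃ l ∈ F₀, l * l = x := by
      have hinj : Function.Injective (fun s : F₀ => s * s) := fun p q hpq => by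
        have hpq' : (p : F) * p = q * q := congrArg Subtype.val hpq
        refine Subtype.ext (sub_eq_zero.1 (mul_self_eq_zero.1 ?_))
        linear_combination hpq' + ((q : F) * q - p * q) * h2
      obtain ⟨l, hl⟩ := (Finite.injective_iff_surjective.1 hinj) ⟨x, hx⟩
      exact ⟨l, l.2, congrArg Subtype.val hl⟩
    have := hb (l • w) (hw.smul hl)
    rwa [st_smul hf, hll, mul_comm] at this
  have hAall : ∀ y : F, y ∈ A := by
    intro y
    by_cases hB0 : ∃ x ∈ B, x ∉ F₀
    · obtain ⟨x, hx, hxn⟩ := hB0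
      have := mem_of_closed (S := B) hr hcard hBF
        (fun p hp q hq b hb => by rw [add_mul]; exact hadd _ (hp b hb) _ (hq b hb))
        (fun p hp q hq b hb => by rw [mul_assoc]; exact hp _ (hq b hb)) hx hxn y
      simpa using this 1 (hF₀ 1 F₀.one_mem)
    · push Not at hB0
      have hn2 : a * a + a ∈ F₀ := hB0 _ (hkey a hLa)
      obtain ⟨p, hp, q, hq, hy⟩ := mem_of_closed (S := {z | ∃ p ∈ F₀, ∃ q ∈ F₀, z = p + q * a}) hr hcard
        (fun x hx => ⟨x, hx, 0, F₀.zero_mem, by ring⟩)
        (by rintro _ ⟨p, hp, q, hq, rfl⟩ _ ⟨p', hp', q', hq', rfl⟩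
            exact ⟨p + p', F₀.add_mem hp hp', q + q', F₀.add_mem hq hq', by ring⟩)
        (by rintro _ ⟨p, hp, q, hq, rfl⟩ _ ⟨p', hp', q', hq', rfl⟩
            exact ⟨p * p' + q * q' * (a * a + a), F₀.add_mem (F₀.mul_mem hp hp')
                (F₀.mul_mem (F₀.mul_mem hq hq') hn2),
              p * q' + p' * q + q * q', F₀.add_mem (F₀.add_mem (F₀.mul_mem hp hq') (F₀.mul_mem hp' hq))
                (F₀.mul_mem hq hq'), by linear_combination -(q * q' * a) * h2⟩)
        ⟨0, F₀.zero_mem, 1, F₀.one_mem, by ring⟩ ha y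
      rw [hy]
      exact hadd _ (hF₀ p hp) _ (hBF q hq a hLa)
  exact hns fun g hg =>
    isometry_mem_of_centres hf M (all_centres_of_long hf hr hcard hn hR hM hAall) hg

/-- Removing a long root factor. -/
lemma purify {e v : ι → F} (he : Rat F₀ e) (he0 : e ≠ 0) (hv : Rat F₀ v) (hind : v ∉ F ∙ e)
    (hev : f e v = 0) {a s : F} (h : sh hf e v a * st hf e s ∈ M) : a ∈ F₀ := by
  by_contra ha
  -- rename: `y` is the centre, `(x, v)` the hyperbolic pair on the perp
  obtain ⟨x, t, hx, ht, d1, d2, t1, t2, t3⟩ :=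
    exists_frame hf hn hR hM h2 he he0 hv hind hev
  have h0 := mixed_swap hf hn hR hM h2 he hv hx hev d1 d2 h
  -- now `sh(e,x,a) * st(e,a²)`; move `e ↦ e + x` by a short root element
  have hxt : f x t = 0 := t3
  set g := sh hf x t 1 with hgdef
  have hg : g ∈ M := by
    rw [hgdef, sh, neg2 h2]
    exact mul_mem (mul_mem (rat_st_mem hf hn hR hM (hx.add ht) F₀.one_mem)
      (rat_st_mem hf hn hR hM hx F₀.one_mem)) (rat_st_mem hf hn hR hM ht F₀.one_mem)
  have hge : app g e = e + x := by rw [hgdef, sh_apply hf hxt, d1, t1]; simp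
  have hgx : app g x = x := by rw [hgdef, sh_apply hf hxt, hf.alternating, hxt]; simp
  set β := a * a with hβ
  have hL : sh hf e x β * st hf x β ∈ M := by
    have hc := mul_mem h0 (mul_mem (mul_mem hg h0) (inv_mem hg))
    rw [show g * (sh hf e x a * st hf e (a * a)) * g⁻¹ =
      g * sh hf e x a * g⁻¹ * (g * st hf e (a * a) * g⁻¹) by group,
      sh_conj hf (sh_isIsom hf _ _ _), st_conj hf (sh_isIsom hf _ _ _), hge, hgx] at hc
    convert hc using 1
    refine gl_ext fun w => ?_
    have k : f x e = 0 := by rw [symm2 hf h2]; exact d1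
    have k' : f (e + x) x = 0 := by rw [f_add_left hf, d1, hf.alternating, add_zero]
    simp only [map_mul, LinearEquiv.mul_apply, sh_apply hf d1, sh_apply hf k', st_apply, hβ]
    simp only [f_add_left hf, f_add_right hf, f_smul_left hf, hf.alternating, d1, k, mul_zero,
      add_zero, zero_add]
    match_scalars <;> linear_combination (norm := skip) (0 : F) * h2 <;> ring_nf <;> simp [h2]
  -- the swap of `e` and `x`
  have hS0 : f (e + x) (t + v) = 0 := by
    rw [f_add_left hf, f_add_right hf, f_add_right hf, t1, hev, hxt, symm2 hf h2 x v, d2]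
    linear_combination h2
  set S := sh hf (e + x) (t + v) 1 with hSdef
  have hS : S ∈ M := by
    rw [hSdef, sh, neg2 h2]
    exact mul_mem (mul_mem (rat_st_mem hf hn hR hM ((he.add hx).add (ht.add hv)) F₀.one_mem)
      (rat_st_mem hf hn hR hM (he.add hx) F₀.one_mem))
      (rat_st_mem hf hn hR hM (ht.add hv) F₀.one_mem)
  have hSe : app S e = x := by
    rw [hSdef, sh_apply hf hS0, f_add_right hf, f_add_right hf, hf.alternating, d1, t1, hev]
    simp only [mul_zero, zero_smul, add_zero, mul_one, one_smul]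
    rw [← add_assoc, vec_two h2, zero_add]
  have hSx : app S x = e := by
    rw [hSdef, sh_apply hf hS0, f_add_right hf, f_add_right hf, hf.alternating, symm2 hf h2 x e,
      d1, hxt, symm2 hf h2 x v, d2]
    simp only [add_zero, mul_zero, zero_smul, zero_add, mul_one, one_smul]
    rw [add_comm e x, ← add_assoc, vec_two h2, zero_add]
  have hL' : sh hf e x β * st hf e β ∈ M := by
    have hc := mul_mem (mul_mem hS hL) (inv_mem hS)
    rwa [show S * (sh hf e x β * st hf x β) * S⁻¹ =
      S * sh hf e x β * S⁻¹ * (S * st hf x β * S⁻¹) by group,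
      sh_conj hf (sh_isIsom hf _ _ _), st_conj hf (sh_isIsom hf _ _ _), hSe, hSx,
      sh_comm hf e x d1] at hc
  have hex : f x e = 0 := by rw [symm2 hf h2]; exact d1
  -- the product of two long root elements moves `v` to a new centre
  have hP : st hf e β * st hf x β ∈ M := by
    have hc := mul_mem (inv_mem hL') hL
    rwa [_root_.mul_inv_rev, mul_assoc, inv_mul_cancel_left, st_inv, neg2 h2] at hc
  have hW : st hf (v + β • x) 1 ∈ M := by
    have h1 := long_conj hf hn hR hM h2 hP ((st_isIsom hf _ _).mul (st_isIsom hf _ _))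
      (rat_st_mem hf hn hR hM hv F₀.one_mem)
    have hve : f v e = 0 := by rw [symm2 hf h2]; exact hev
    have himg : app (st hf e β * st hf x β) v = v + β • x := by
      rw [map_mul, LinearEquiv.mul_apply, st_apply, st_apply, f_add_left hf, f_smul_left hf, d2,
        hex, hve]
      simp
    rwa [himg] at h1
  set W := st hf (v + β • x) 1 with hWdef
  have hWe : app W e = e := by
    rw [hWdef, st_apply, f_add_right hf, f_smul_right hf, hev, d1]; simp
  have hWx : app W x = v + (1 + β) • x := by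
    rw [hWdef, st_apply, f_add_right hf, f_smul_right hf, hf.alternating, symm2 hf h2 x v, d2]
    match_scalars <;> ring
  have hWv : app W v = (1 + β) • v + (β * β) • x := by
    rw [hWdef, st_apply, f_add_right hf, f_smul_right hf, hf.alternating, d2]
    match_scalars <;> ring
  have hvx : f x v = 1 := by rw [symm2 hf h2]; exact d2
  have h1x := rat_sh_mem hf hn hR hM he hx F₀.one_mem
  have h1v := rat_sh_mem hf hn hR hM he hv F₀.one_mem
  -- `sh(e,x,β) * st(e,β²)`
  have hexv : f e ((1 + β) • x) = 0 := by rw [f_smul_right hf, d1, mul_zero]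
  have hA1 := sh_conj_mem hf hn hR hM h2 hW (st_isIsom hf _ _) h1x
  rw [hWe, hWx, sh_split hf h2 hev hexv, sh_smul_right hf d1, one_mul, f_smul_left hf, hvx, mul_one,
    mul_assoc, Subgroup.mul_mem_cancel_left M h1v] at hA1
  have hB := mixed_swap hf hn hR hM h2 he hx hv d1 hev hvx hA1
  have hB' := mixed_swap hf hn hR hM h2 he hv hx hev d1 d2 hB
  have hZ1 : sh hf e x 1 * st hf e (1 * 1) ∈ M :=
    mul_mem h1x (rat_st_mem hf hn hR hM he (F₀.mul_mem F₀.one_mem F₀.one_mem))
  have hcomm : ∀ p s' : F, st hf e s' * sh hf e x p = sh hf e x p * st hf e s' := fun p s' =>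
    gl_ext fun w => by
      simp only [map_mul, LinearEquiv.mul_apply, sh_apply hf d1, st_apply, f_add_left hf,
        f_smul_left hf, hf.alternating, d1, hex, mul_zero, add_zero]
      module
  have hZb : sh hf e x β * st hf e (β * β) ∈ M := by
    have hc := mul_mem hB' hZ1
    rw [mul_assoc, ← mul_assoc (st hf e _), hcomm, mul_assoc, st_add hf, ← mul_assoc, sh_add hf d1] at hc
    convert hc using 3
    · linear_combination -h2
    · linear_combination -(1 + β) * h2
  -- first relation
  have hn' : β * β + β ∈ F₀ := by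
    have hc := mul_mem (inv_mem hL') hZb
    rw [_root_.mul_inv_rev, mul_assoc, inv_mul_cancel_left, st_inv, neg2 h2, st_add] at hc
    have := long_mem hf hr hcard hn hR hiso hM h2 hns he he0 hc
    rwa [add_comm] at this
  -- second relation
  have hAv : f e ((1 + β) • v) = 0 := by rw [f_smul_right hf, hev, mul_zero]
  have hBx : f e ((β * β) • x) = 0 := by rw [f_smul_right hf, d1, mul_zero]
  have hC := sh_conj_mem hf hn hR hM h2 hW (st_isIsom hf _ _) h1v
  rw [hWe, hWv, sh_split hf h2 hAv hBx, sh_smul_right hf hev, sh_smul_right hf d1, one_mul, one_mul,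
    f_smul_left hf, f_smul_right hf, hvx] at hC
  have hnB : β * β + β ∈ F₀ := hn'
  have hZn : sh hf e x (β * β + β) * st hf e ((β * β + β) * (β * β + β)) ∈ M :=
    mul_mem (rat_sh_mem hf hn hR hM he hx hnB) (rat_st_mem hf hn hR hM he (F₀.mul_mem hnB hnB))
  have hZB : sh hf e x (β * β) * st hf e (β * β * (β * β)) ∈ M := by
    have hc := mul_mem hZb hZn
    rw [mul_assoc, ← mul_assoc (st hf e _), hcomm, mul_assoc, st_add hf, ← mul_assoc, sh_add hf d1]
      at hc
    convert hc using 3
    · linear_combination -β * h2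
    · linear_combination -(β * β + β * β * β) * h2
  have hc := mul_mem (inv_mem hB) hC
  rw [_root_.mul_inv_rev, st_inv, neg2 h2, mul_assoc (st hf e _), mul_assoc (sh hf e v (1 + β)),
    inv_mul_cancel_left, ← mul_assoc, hcomm, mul_assoc, st_add hf] at hc
  have hd := mul_mem (inv_mem hZB) hc
  rw [_root_.mul_inv_rev, st_inv, neg2 h2, mul_assoc, inv_mul_cancel_left, st_add hf] at hd
  have hT := long_mem hf hr hcard hn hR hiso hM h2 hns he he0 hd
  set n := β * β + β with hndef
  have hm : β * β * n ∈ F₀ := by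
    have h1 : β * β * n + 1 ∈ F₀ := by
      convert hT using 1
      rw [hndef]
      linear_combination -(β + β * β) * h2
    have := F₀.sub_mem h1 F₀.one_mem
    rwa [add_sub_cancel_right] at this
  by_cases hn0 : n = 0
  · have hb01 : β * (β + 1) = 0 := by linear_combination hn0
    rcases mul_eq_zero.1 hb01 with h | h
    · exact ha (by rw [mul_self_eq_zero.1 h]; exact F₀.zero_mem)
    · refine ha ?_
      have : (a + 1) * (a + 1) = 0 := by linear_combination h + a * h2
      have ha1 : a = -1 := eq_neg_of_add_eq_zero_left (mul_self_eq_zero.1 this)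
      rw [ha1]
      exact F₀.neg_mem F₀.one_mem
  have hbb : β * β ∈ F₀ := by
    have := F₀.mul_mem hm (F₀.inv_mem hnB)
    rwa [mul_assoc, mul_inv_cancel₀ hn0, mul_one] at this
  refine ha ?_
  have hβF : β ∈ F₀ := by
    have := F₀.sub_mem hnB hbb
    rwa [hndef, add_sub_cancel_left] at this
  obtain ⟨l, hl⟩ : ∃ l : F₀, l * l = ⟨β, hβF⟩ := by
    have hinj : Function.Injective (fun s : F₀ => s * s) := fun p q hpq => by
      have hpq' : (p : F) * p = q * q := congrArg Subtype.val hpq
      refine Subtype.ext (sub_eq_zero.1 (mul_self_eq_zero.1 ?_))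
      linear_combination hpq' + ((q : F) * q - p * q) * h2
    exact (Finite.injective_iff_surjective.1 hinj) _
  have hl' : (l : F) * l = a * a := congrArg Subtype.val hl
  have : (a + l) * (a + l) = 0 := by linear_combination hl' + (a * a + a * l) * h2
  rw [eq_neg_of_add_eq_zero_left (mul_self_eq_zero.1 this)]
  exact F₀.neg_mem l.2


/-- A short root element at a rational vector has a rational second vector modulo the first. -/
lemma rat_mod_of_sh {e y : ι → F} (he : Rat F₀ e) (he0 : e ≠ 0) (hey : f e y = 0)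
    (h : sh hf e y 1 ∈ M) : ∃ s : F, Rat F₀ (y - s • e) := by
  have hval : ∀ v, Rat F₀ v → f e v = 0 → f y v ∈ F₀ := by
    intro v hv hev
    by_cases hind : v ∈ F ∙ e
    · obtain ⟨c, rfl⟩ := Submodule.mem_span_singleton.1 hind
      rw [f_smul_right hf, hf.skew y e, hey, neg_zero, mul_zero]
      exact F₀.zero_mem
    set a := f y v with ha
    have hg := rat_st_mem hf hn hR hM hv F₀.one_mem
    have hge : app (st hf v 1) e = e := by rw [st_apply, hev]; simp
    have hgy : app (st hf v 1) y = y + a • v := by rw [st_apply, one_mul]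
    have hconj := mul_mem (inv_mem h) (mul_mem (mul_mem hg h) (inv_mem hg))
    rw [sh_conj hf (st_isIsom hf _ _), hge, hgy] at hconj
    have key := sh_mul_sh hf hey (v' := a • v) (by rw [f_smul_right hf, hev, mul_zero]) 1
    have e2 : sh hf e (y + a • v) 1 =
        sh hf e y 1 * sh hf e (a • v) 1 * (st hf e (1 * 1 * f (a • v) y))⁻¹ := by
      rw [key, mul_inv_cancel_right]
    rw [e2, ← mul_assoc, ← mul_assoc, inv_mul_cancel, one_mul, sh_smul_right hf hev, one_mul,
      st_inv] at hconj
    exact purify hf hr hcard hn hR hiso hM h2 hns he he0 hv hind hev hconj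
  obtain ⟨e', he', hee'⟩ := exists_rat_partner hf hn hR he he0
  refine ⟨f y e', ?_⟩
  set y' := y - f y e' • e with hy'
  obtain ⟨v0, hv0, hv0f⟩ := exists_rat_flin hf hn hR (φ := flin hf.bilinear y') fun u hu => by
    have h1 := hval (u - f e u • e') (hu.sub (he'.smul (hR e u he hu)))
      (by rw [f_sub_right hf, f_smul_right hf, hee']; ring)
    rw [f_sub_right hf, f_smul_right hf] at h1
    have hb2 := F₀.neg_mem h1
    convert hb2 using 1
    rw [flin_apply, hy', hf.skew u, f_sub_left hf, f_smul_left hf]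
    ring
  have : y' = v0 := flin_injective hf.bilinear hf.nondegenerate
    (LinearMap.ext fun x => (hv0f x).symm)
  rw [this]; exact hv0

/-- An element of `M` mapping a rational point to one respects the rational vectors orthogonal
to it. -/
lemma map_perp {g : GL ι F} (hg : g ∈ M) {e e' : ι → F} (he : Rat F₀ e) (he0 : e ≠ 0)
    (he' : Rat F₀ e') {c : F} (hge : app g e = c • e') {u : ι → F} (hu : Rat F₀ u)
    (heu : f e u = 0) : Rat F₀ (c⁻¹ • app g u) := by
  have hgi : IsIsom f g := hiso hg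
  have hne : app g e ≠ 0 := fun h => he0 ((app g).map_eq_zero_iff.1 h)
  have hc : c ≠ 0 := fun h => hne (by rw [hge, h, zero_smul])
  have he'0 : e' ≠ 0 := fun h => hne (by rw [hge, h, smul_zero])
  have hc2 : c * c ∈ F₀ := by
    have h1 := mul_mem (mul_mem hg (rat_st_mem hf hn hR hM he F₀.one_mem)) (inv_mem hg)
    rw [st_conj hf hgi, hge, st_smul, one_mul] at h1
    exact long_mem hf hr hcard hn hR hiso hM h2 hns he' he'0 h1
  set y := c • app g u with hy
  have hey : f e' y = 0 := by
    have h1 : f (app g e) (app g u) = 0 := by rw [hgi, heu]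
    rw [hge, f_smul_left hf, mul_eq_zero] at h1
    rw [hy, f_smul_right hf, h1.resolve_left hc, mul_zero]
  have hgu' : f e' (app g u) = 0 := by
    rw [hy, f_smul_right hf, mul_eq_zero] at hey; exact hey.resolve_left hc
  have hsh : sh hf e' y 1 ∈ M := by
    have h1 := mul_mem (mul_mem hg (rat_sh_mem hf hn hR hM he hu F₀.one_mem)) (inv_mem hg)
    rw [sh_conj hf hgi, hge, sh_smul_left hf hgu', one_mul] at h1
    rwa [hy, sh_smul_right hf hgu', one_mul]
  obtain ⟨s, hs⟩ := rat_mod_of_sh hf hr hcard hn hR hiso hM h2 hns he' he'0 hey hsh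
  have hyr : Rat F₀ y := by
    by_cases hy0 : y - s • e' ∈ F ∙ e'
    · -- then `u` is a rational multiple of `e`
      obtain ⟨k, hk⟩ := Submodule.mem_span_singleton.1 hy0
      have hy1 : y = (k + s) • e' := by rw [add_smul, hk, sub_add_cancel]
      have hu' : u = ((k + s) / (c * c)) • e := (app g).injective <| by
        rw [map_smul, hge, smul_smul, ← smul_right_inj hc]
        rw [← hy, hy1, smul_smul]
        congr 1
        field_simp
      have hkF : (k + s) / (c * c) ∈ F₀ := mem_of_smul_rat he he0 (hu' ▸ hu)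
      rw [hy1]
      exact he'.smul (by simpa [hc] using F₀.mul_mem hkF hc2)
    · set y0 := y - s • e' with hy0def
      have hey0 : f e' y0 = 0 := by
        rw [hy0def, f_sub_right hf, hey, f_smul_right hf, hf.alternating, mul_zero, sub_zero]
      have hst : st hf (y0 + s • e') (c * c)⁻¹ ∈ M := by
        have h1 := mul_mem (mul_mem hg (rat_st_mem hf hn hR hM hu F₀.one_mem)) (inv_mem hg)
        rw [st_conj hf hgi] at h1
        rwa [hy0def, sub_add_cancel, hy, st_smul, inv_mul_cancel₀ (mul_ne_zero hc hc)]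
      rw [st_add_smul hf hey0] at hst
      have hb2 := (Subgroup.mul_mem_cancel_left M
        (rat_st_mem hf hn hR hM hs (F₀.inv_mem hc2))).1 hst
      have h3 := purify hf hr hcard hn hR hiso hM h2 hns he' he'0 hs hy0 hey0 hb2
      have hsF : s ∈ F₀ := by
        have := F₀.mul_mem hc2 h3
        rwa [← mul_assoc, mul_inv_cancel₀ (mul_ne_zero hc hc), one_mul] at this
      have := hs.add (he'.smul hsF)
      rwa [sub_add_cancel] at this
  have := hyr.smul (F₀.inv_mem hc2)
  rwa [hy, smul_smul, mul_inv, mul_assoc, inv_mul_cancel₀ hc, mul_one] at this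

lemma mem_of_map_rat_symp {g : GL ι F} (hg : g ∈ M) {e : ι → F} (he : Rat F₀ e) (he0 : e ≠ 0)
    (h : RatLine F₀ (app g e)) : g ∈ Cfsg.Geo.subfieldSubgroup F₀ 1 := by
  obtain ⟨c, e', he', hge⟩ := h
  have hne : app g e ≠ 0 := fun h => he0 ((app g).map_eq_zero_iff.1 h)
  have hc : c ≠ 0 := fun h => hne (by rw [hge, h, zero_smul])
  refine ratLine_mem_iff.2 ⟨c, hc, fun u hu => ?_⟩
  have hperp := fun v hv hev => map_perp hf hr hcard hn hR hiso hM h2 hns hg he he0 he' hge
    (u := v) hv hev
  obtain ⟨e2, he2, he20, hk, he2n⟩ := exists_rat_outside hf (φ := ![flin hf.bilinear e]) (by omega)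
    (fun j => by fin_cases j; exact ratF_flin hf hn hR he) he he0 he
  have h2e : f e2 e = 0 := hk 0
  have hn' : e2 ∉ F ∙ e := fun h => he2n (Submodule.span_mono (by simp) h)
  have hen : e ∉ F ∙ e2 := fun h => by
    obtain ⟨k, hk'⟩ := Submodule.mem_span_singleton.1 h
    refine hn' (Submodule.mem_span_singleton.2 ⟨k⁻¹, ?_⟩)
    rw [← hk', inv_smul_smul₀ fun h0 => he0 (by rw [← hk', h0, zero_smul])]
  obtain ⟨v0, hv0, g1, g2⟩ := exists_rat_sep_pair hf hn hR he2 he20 he hen
  have h1 := hperp (u - f e u • v0) (hu.sub (hv0.smul (hR e u he hu)))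
    (by rw [f_sub_right hf, f_smul_right hf, g2]; ring)
  have hb2 := hperp e2 he2 (by rw [hf.skew, h2e, neg_zero])
  have h3 := map_perp hf hr hcard hn hR hiso hM h2 hns hg he2 he20 hb2
    (c := c) (by rw [smul_smul, mul_inv_cancel₀ hc, one_smul]) hv0 g1
  have := h1.add (h3.smul (hR e u he hu))
  rwa [smul_comm, ← smul_add, ← map_smul (app g), ← map_add, sub_add_cancel] at this

lemma ratLine_or_generic_symp {g : GL ι F} (hg : g ∈ M) {e : ι → F} (he : Rat F₀ e) (he0 : e ≠ 0) :
    RatLine F₀ (app g e) ∨ Generic F₀ (app g e) := by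
  refine or_iff_not_imp_right.2 fun hgen => ?_
  set w := app g e with hw
  obtain ⟨φ, hφ, hφw, hφ0⟩ : ∃ φ : (ι → F) →ₗ[F] F, RatF F₀ φ ∧ φ w = 0 ∧ φ ≠ 0 := by
    simpa [Generic] using hgen
  obtain ⟨v, hv, hvf⟩ := exists_rat_flin hf hn hR hφ
  have hv0 : v ≠ 0 := fun h => hφ0 (LinearMap.ext fun x => by
    rw [← hvf, h, f_zero_right hf]; rfl)
  have hst : st hf w 1 ∈ M := by
    have h1 := mul_mem (mul_mem hg (rat_st_mem hf hn hR hM he F₀.one_mem)) (inv_mem hg)
    rwa [st_conj hf (hiso hg)] at h1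
  have hfix : app (st hf w 1) v = v := by
    rw [st_apply, hf.skew v w, show f w v = 0 from (hvf w).trans hφw]; simp
  obtain ⟨l, hl, hlr⟩ := ratLine_mem_iff.1
    (mem_of_map_rat_symp hf hr hcard hn hR hiso hM h2 hns hst hv hv0
      ⟨1, v, hv, by rw [hfix, one_smul]⟩)
  have hlF : l⁻¹ ∈ F₀ := mem_of_smul_rat hv hv0 (by
    have := hlr v hv
    rwa [hfix] at this)
  have hw0 : w ≠ 0 := fun h => he0 ((app g).map_eq_zero_iff.1 h)
  obtain ⟨u, hu, huw⟩ := exists_rat_ne_zero (F₀ := F₀)
    (show flin hf.bilinear w ≠ 0 from fun h => hw0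
      (flin_injective hf.bilinear hf.nondegenerate (h.trans (map_zero _).symm)))
  have h3 := (hlr u hu).smul (F₀.inv_mem hlF)
  rw [smul_smul, inv_mul_cancel₀ (inv_ne_zero hl), one_smul, st_apply, one_mul] at h3
  have h4 := h3.sub hu
  rw [add_sub_cancel_left] at h4
  exact RatLine.of_smul huw ⟨1, f u w • w, h4, (one_smul _ _).symm⟩

omit hns in
/-- An overgroup of the subfield group with a further element contains all isometries. -/
theorem isoGroup_le_of_not_mem {g : GL ι F} (hg : g ∈ M)
    (hgn : g ∉ Cfsg.Geo.subfieldSubgroup F₀ 1) : isoGroup f ≤ M := by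
  by_contra hns
  obtain ⟨e, he, he0, -⟩ := exists_rat_kill (F₀ := F₀) (ι := ι) (k := 0) (φ := ![]) (by omega)
    (fun j => j.elim0)
  set w := app g e with hwdef
  have hw : Generic F₀ w :=
    (ratLine_or_generic_symp hf hr hcard hn hR hiso hM h2 hns hg he he0).resolve_left
      fun h => hgn (mem_of_map_rat_symp hf hr hcard hn hR hiso hM h2 hns hg he he0 h)
  have hew : f e w ≠ 0 := fun h =>
    he0 (generic_pair hf hR hw he (by rw [hf.skew, h, neg_zero]))
  obtain ⟨u0, hu0, hu00, hk, hu0n⟩ := exists_rat_outside hf (φ := ![flin hf.bilinear e]) (by omega)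
    (fun j => by fin_cases j; exact ratF_flin hf hn hR he) he he0 he
  have hu0e : f u0 e = 0 := hk 0
  have heu0 : f e u0 = 0 := by rw [hf.skew, hu0e, neg_zero]
  have hn0 : u0 ∉ F ∙ e := fun h => hu0n (Submodule.span_mono (by simp) h)
  set μ := f u0 w / f e w with hμdef
  have hμ : μ ∉ F₀ := fun h => hn0 <| by
    have := generic_pair hf hR hw (hu0.sub (he.smul h)) (by
      rw [hf.skew, f_sub_left hf, f_smul_left hf, hμdef, div_mul_cancel₀ _ hew, sub_self, neg_zero])
    exact Submodule.mem_span_singleton.2 ⟨μ, (sub_eq_zero.1 this).symm⟩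
  set z := u0 - μ • e with hz
  set U := Submodule.span F ({e, u0, w} : Set (ι → F)) with hU
  have heU : e ∈ U := Submodule.subset_span (by simp)
  have hu0U : u0 ∈ U := Submodule.subset_span (by simp)
  have hwU : w ∈ U := Submodule.subset_span (by simp)
  have hzU : z ∈ U := U.sub_mem hu0U (U.smul_mem _ heU)
  have hzrad : ∀ y ∈ U, f z y = 0 := by
    intro y hy
    obtain ⟨a, b, c, rfl⟩ := Submodule.mem_span_triple.1 hy
    simp only [hz, f_add_right hf, f_smul_right hf, f_sub_left hf, f_smul_left hf, hf.alternating,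
      hu0e, heu0, hμdef, div_mul_cancel₀ _ hew, mul_zero, sub_zero, sub_self, add_zero]
  have hrad : ∀ y ∈ U, (∀ y' ∈ U, f y y' = 0) → y ∈ F ∙ z := by
    intro y hy hall
    obtain ⟨a, b, c, rfl⟩ := Submodule.mem_span_triple.1 hy
    have h1 := hall e heU
    have hb2 := hall w hwU
    simp only [f_add_left hf, f_smul_left hf, hf.alternating, hu0e, mul_zero, zero_add,
      hf.skew w e, mul_neg, neg_eq_zero, mul_eq_zero] at h1
    have hc := h1.resolve_right hew
    simp only [f_add_left hf, f_smul_left hf, hf.alternating, mul_zero, add_zero] at hb2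
    refine Submodule.mem_span_singleton.2 ⟨b, ?_⟩
    have ha : a = -(b * μ) := by
      rw [hμdef, mul_div_assoc', eq_neg_iff_add_eq_zero, add_comm, div_add' _ _ _ hew, div_eq_zero_iff]
      exact Or.inl (by linear_combination hb2)
    rw [hz, hc, ha]
    module
  obtain ⟨α, hα, hαu, hαe⟩ := exists_ratF_sep he hu0 hu00 (fun h => by
    obtain ⟨k, hk'⟩ := Submodule.mem_span_singleton.1 h
    refine hn0 (Submodule.mem_span_singleton.2 ⟨k⁻¹, ?_⟩)
    rw [← hk', inv_smul_smul₀ fun h0 => he0 (by rw [← hk', h0, zero_smul])])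
  obtain ⟨β, hβ, hβe, hβu⟩ := exists_ratF_sep hu0 he he0 hn0
  have hratU : ∀ v ∈ U, Rat F₀ v → ∃ a ∈ F₀, ∃ b ∈ F₀, v = a • e + b • u0 := by
    intro v hv hvr
    obtain ⟨a, b, c, rfl⟩ := Submodule.mem_span_triple.1 hv
    have hc : c = 0 := by
      by_contra hc
      obtain ⟨θ, hθ, hθ0, hkill⟩ := exists_ratF_kill (v := ![e, u0, a • e + b • u0 + c • w]) (by omega)
        (fun j => by fin_cases j <;> assumption)
      refine hθ0 (hw θ hθ ?_)
      have h3 : θ (a • e + b • u0 + c • w) = 0 := hkill 2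
      simp only [map_add, map_smul, show θ e = 0 from hkill 0, show θ u0 = 0 from hkill 1,
        smul_eq_mul, mul_zero, zero_add, mul_eq_zero] at h3
      exact h3.resolve_left hc
    subst hc
    rw [zero_smul, add_zero] at hvr ⊢
    refine ⟨a, ?_, b, ?_, rfl⟩
    · simpa [hαe, hαu] using hα _ hvr
    · simpa [hβe, hβu] using hβ _ hvr
  have hr3 := three_le_degree (r := r) hcard (by omega) hw
  let S := M ⊓ Cfsg.Geo.subspaceStabilizer U
  have hstabT : ∀ (v : ι → F) (a : F), v ∈ U → st hf v a ∈ M → st hf v a ∈ S :=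
    fun v a hv h => ⟨h, mem_stab_of_le fun x hx => by
      rw [st_apply]; exact U.add_mem hx (U.smul_mem _ hv)⟩
  obtain ⟨t, ht, het⟩ := exists_rat_partner hf hn hR he he0
  obtain ⟨p, hp⟩ := CharP.exists F
  have hpp : p.Prime := (CharP.char_is_prime_or_zero F p).resolve_right (CharP.char_ne_zero_of_finite F p)
  refine false_of_two_point S he0 ?_ ?_ hpp (x := st hf e 1) (y := sh hf e u0 1)
    (hstabT e 1 heU (rat_st_mem hf hn hR hM he F₀.one_mem))
    ⟨rat_sh_mem hf hn hR hM he hu0 F₀.one_mem, mem_stab_of_le fun x hx => by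
      rw [sh_apply hf heu0]; exact U.add_mem (U.add_mem hx (U.smul_mem _ hu0U)) (U.smul_mem _ heU)⟩
    (by rw [st_apply, hf.alternating]; simp)
    (by rw [sh_apply hf heu0, hf.alternating, heu0]; simp)
    (by rw [st_pow, CharP.cast_eq_zero, zero_mul, st_zero])
    (by rw [sh_pow hf heu0, CharP.cast_eq_zero, zero_mul, sh_zero hf heu0]) ?_ ?_ ?_
  · refine ⟨st hf w 1, hstabT w 1 hwU ?_, fun h => ?_⟩
    · have h1 := mul_mem (mul_mem hg (rat_st_mem hf hn hR hM he F₀.one_mem)) (inv_mem hg)
      rwa [st_conj hf (hiso hg)] at h1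
    · rw [st_apply, one_mul] at h
      have h1 := (Submodule.add_mem_iff_right _ (Submodule.mem_span_singleton_self e)).1 h
      obtain ⟨c, hc⟩ := Submodule.mem_span_singleton.1 (((F ∙ e).smul_mem_iff hew).1 h1)
      exact hw.not_ratLine (by omega) ⟨c, e, he, hc.symm⟩
  · intro s hs k hk2 hse a b hka hkb
    have hgen : Generic F₀ (app s e) := by
      refine (ratLine_or_generic_symp hf hr hcard hn hR hiso hM h2 hns hs.1 he he0).resolve_left
        fun hrl => ?_
      obtain ⟨l, hl, hlr⟩ := ratLine_mem_iff.1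
        (mem_of_map_rat_symp hf hr hcard hn hR hiso hM h2 hns hs.1 he he0 hrl)
      obtain ⟨a1, ha1, b1, hb1, hv⟩ := hratU _ (U.smul_mem _ ((mem_stab_iff.1 hs.2) e heU)) (hlr e he)
      obtain ⟨c1, hc1, d1, hd1, hv'⟩ :=
        hratU _ (U.smul_mem _ ((mem_stab_iff.1 hs.2) u0 hu0U)) (hlr u0 hu0)
      obtain ⟨k1, hk1⟩ := Submodule.mem_span_singleton.1
        (hrad (app s z) ((mem_stab_iff.1 hs.2) z hzU) fun y hy => by
          rw [← app_app_inv s y, hiso hs.1]
          exact hzrad _ ((mem_stab_iff.1 ((Cfsg.Geo.subspaceStabilizer U).inv_mem hs.2)) y hy))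
      have hk1' : (l⁻¹ * k1) • z = (c1 - μ * a1) • e + (d1 - μ * b1) • u0 := by
        rw [← smul_smul, hk1, hz, map_sub, map_smul, smul_sub, smul_comm, hv, hv']
        module
      have eα := congrArg α hk1'
      have eβ := congrArg β hk1'
      simp only [hz, map_add, map_sub, map_smul, hαe, hαu, hβe, hβu, smul_eq_mul, mul_one,
        mul_zero, sub_zero, zero_sub, add_zero, zero_add] at eα eβ
      obtain ⟨-, -, hb⟩ := quad_zero hr hr3 hcard hμ hc1 (F₀.sub_mem hd1 ha1) (F₀.neg_mem hb1)
        (by rw [eβ] at eα; linear_combination -eα)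
      refine hse (Submodule.mem_span_singleton.2 ⟨l * a1, ?_⟩)
      rw [neg_eq_zero.1 hb, zero_smul, add_zero] at hv
      rw [← smul_smul, ← hv, smul_smul, mul_inv_cancel₀ hl, one_smul]
    exact scalar_of_fix (mem_of_map_rat_symp hf hr hcard hn hR hiso hM h2 hns hk2.1 he he0
      ⟨a, e, he, hka⟩) he he0 hgen hka hkb
  · refine gl_ext fun x => ?_
    rw [map_mul, map_mul, LinearEquiv.mul_apply, LinearEquiv.mul_apply, st_apply, st_apply,
      sh_apply hf heu0, sh_apply hf heu0]
    simp only [f_add_left hf, f_smul_left hf, hf.alternating, heu0, hu0e, mul_zero, add_zero]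
    module
  · intro h
    have h1 := sh_apply hf heu0 1 t
    rw [h, map_one] at h1
    have hb2 := congrArg β h1
    simp [hβe, hβu, hf.skew t e, het] at hb2
  · intro i h
    rw [sh_zpow hf heu0] at h
    have h1 := st_apply hf e 1 t
    rw [h, sh_apply hf heu0] at h1
    have hb2 := congrArg β h1
    have h3 := congrArg α h1
    simp [hβe, hβu, hαe, hαu, hf.skew t e, het] at hb2 h3
    simp [hb2] at h3

end Cfsg.Agent.C5Four
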