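import Cfsg.Agent.Lib.C5.Linear
import Cfsg.Agent.Lib.Transvect.Symp

/-!
# Subfield subgroups of symplectic groups are maximal

The form takes values in `F₀` on rational vectors. An element outside the subfield group maps a
rational point to a generic one; the stabiliser of a three dimensional subspace with one-dimensional
radical then contradicts the structure of Frobenius complements.
-/

set_option autoImplicit false
set_option linter.unusedSectionVars false

namespace Cfsg.Agent.C5

open Matrix Cfsg.Agent.Transvect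

variable {ι : Type} [Fintype ι] [DecidableEq ι] {F : Type*} [Field F] {F₀ : Subfield F}
variable {f : (ι → F) → (ι → F) → F}

/-- The form takes values in `F₀` on rational vectors. -/
def RatForm (F₀ : Subfield F) (f : (ι → F) → (ι → F) → F) : Prop :=
  ∀ u v, Rat F₀ u → Rat F₀ v → f u v ∈ F₀

/-- The isometry group of a form. -/
def isoGroup (f : (ι → F) → (ι → F) → F) : Subgroup (GL ι F) where
  carrier := {g | IsIsom f g}
  one_mem' := fun x y => by simp
  mul_mem' := fun h h' => h.mul h'
  inv_mem' := fun h => h.inv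

lemma mem_isoGroup {g : GL ι F} : g ∈ isoGroup f ↔ IsIsom f g := Iff.rfl

variable (hf : Cfsg.Geo.IsSymplecticForm f)
include hf

lemma f_add_left (x y z : ι → F) : f (x + y) z = f x z + f y z := hf.bilinear.add_left x y z

lemma f_add_right (x y z : ι → F) : f x (y + z) = f x y + f x z := hf.bilinear.add_right x y z

lemma f_smul_left (c : F) (x y : ι → F) : f (c • x) y = c * f x y := hf.bilinear.smul_left c x y

lemma f_smul_right (c : F) (x y : ι → F) : f x (c • y) = c * f x y := hf.bilinear.smul_right c x y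

lemma f_sub_left (x y z : ι → F) : f (x - y) z = f x z - f y z := by
  rw [sub_eq_add_neg, f_add_left hf, ← neg_one_smul F y, f_smul_left hf]; ring

lemma f_sub_right (x y z : ι → F) : f x (y - z) = f x y - f x z := by
  rw [sub_eq_add_neg, f_add_right hf, ← neg_one_smul F z, f_smul_right hf]; ring

lemma f_zero_left (y : ι → F) : f 0 y = 0 := by
  have := f_smul_left hf 0 0 y
  simpa using this

lemma f_zero_right (y : ι → F) : f y 0 = 0 := by
  have := f_smul_right hf 0 y 0
  simpa using this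

/-- The short root element of an orthogonal pair. -/
noncomputable def sh (u v : ι → F) (c : F) : GL ι F :=
  st hf (u + v) c * st hf u (-c) * st hf v (-c)

lemma sh_apply {u v : ι → F} (h : f u v = 0) (c : F) (x : ι → F) :
    app (sh hf u v c) x = x + (c * f x u) • v + (c * f x v) • u := by
  have h' : f v u = 0 := by rw [hf.skew, h, neg_zero]
  rw [sh, map_mul, map_mul, LinearEquiv.mul_apply, LinearEquiv.mul_apply, st_apply, st_apply,
    st_apply]
  simp only [f_add_left hf, f_add_right hf, f_smul_left hf, hf.alternating, h, h', mul_zero,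
    add_zero, zero_add]
  module

lemma sh_isIsom (u v : ι → F) (c : F) : IsIsom f (sh hf u v c) :=
  ((st_isIsom hf _ _).mul (st_isIsom hf _ _)).mul (st_isIsom hf _ _)

lemma sh_conj {g : GL ι F} (hg : IsIsom f g) (u v : ι → F) (c : F) :
    g * sh hf u v c * g⁻¹ = sh hf (app g u) (app g v) c := by
  rw [sh, sh, ← map_add, ← st_conj hf hg, ← st_conj hf hg u, ← st_conj hf hg v]
  group

lemma st_add (v : ι → F) (a b : F) : st hf v a * st hf v b = st hf v (a + b) := gl_ext fun x => by
  rw [map_mul, LinearEquiv.mul_apply, st_apply, st_apply, st_apply, f_add_left hf, f_smul_left hf,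
    hf.alternating]
  module

lemma st_zero (v : ι → F) : st hf v 0 = 1 := gl_ext fun x => by rw [st_apply]; simp

lemma st_inv (v : ι → F) (a : F) : (st hf v a)⁻¹ = st hf v (-a) :=
  inv_eq_of_mul_eq_one_right (by rw [st_add, add_neg_cancel, st_zero])

lemma st_smul (v : ι → F) (k a : F) : st hf (k • v) a = st hf v (a * (k * k)) := gl_ext fun x => by
  rw [st_apply, st_apply, f_smul_right hf]; module

lemma sh_add {u v : ι → F} (h : f u v = 0) (a b : F) :
    sh hf u v a * sh hf u v b = sh hf u v (a + b) := gl_ext fun x => by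
  have h' : f v u = 0 := by rw [hf.skew, h, neg_zero]
  rw [map_mul, LinearEquiv.mul_apply, sh_apply hf h, sh_apply hf h, sh_apply hf h]
  simp only [f_add_left hf, f_smul_left hf, hf.alternating, h, h', mul_zero, add_zero]
  module

lemma sh_zero {u v : ι → F} (h : f u v = 0) : sh hf u v 0 = 1 := gl_ext fun x => by
  rw [sh_apply hf h]; simp

lemma sh_inv {u v : ι → F} (h : f u v = 0) (a : F) : (sh hf u v a)⁻¹ = sh hf u v (-a) :=
  inv_eq_of_mul_eq_one_right (by rw [sh_add hf h, add_neg_cancel, sh_zero hf h])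

lemma sh_comm (u v : ι → F) (h : f u v = 0) (c : F) : sh hf v u c = sh hf u v c := gl_ext fun x => by
  rw [sh_apply hf h, sh_apply hf (by rw [hf.skew, h, neg_zero])]; module

lemma sh_smul_right {u v : ι → F} (h : f u v = 0) (k a : F) :
    sh hf u (k • v) a = sh hf u v (a * k) := gl_ext fun x => by
  rw [sh_apply hf (by rw [f_smul_right hf, h, mul_zero]), sh_apply hf h, f_smul_right hf]; module

lemma sh_smul_left {u v : ι → F} (h : f u v = 0) (k a : F) :
    sh hf (k • u) v a = sh hf u v (a * k) := gl_ext fun x => by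
  rw [sh_apply hf (by rw [f_smul_left hf, h, mul_zero]), sh_apply hf h, f_smul_right hf]; module

/-- Composition in the second slot. -/
lemma sh_mul_sh {u v v' : ι → F} (h : f u v = 0) (h' : f u v' = 0) (c : F) :
    sh hf u v c * sh hf u v' c = sh hf u (v + v') c * st hf u (c * c * f v' v) := gl_ext fun x => by
  have e : f u (v + v') = 0 := by rw [f_add_right hf, h, h', add_zero]
  have k : f v' u = 0 := by rw [hf.skew, h', neg_zero]
  have k' : f v u = 0 := by rw [hf.skew, h, neg_zero]
  rw [map_mul, map_mul, LinearEquiv.mul_apply, LinearEquiv.mul_apply, sh_apply hf h, sh_apply hf h',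
    sh_apply hf e, st_apply]
  simp only [f_add_left hf, f_add_right hf, f_smul_left hf, hf.alternating, h, h', k, k', mul_zero,
    add_zero]
  module

lemma st_add_smul {e y : ι → F} (h : f e y = 0) (s d : F) :
    st hf (y + s • e) d = st hf y d * (sh hf e y (d * s) * st hf e (d * (s * s))) :=
  gl_ext fun x => by
  have k : f y e = 0 := by rw [hf.skew, h, neg_zero]
  rw [map_mul, map_mul, LinearEquiv.mul_apply, LinearEquiv.mul_apply, st_apply, st_apply,
    sh_apply hf h, st_apply]
  simp only [f_add_left hf, f_add_right hf, f_smul_left hf, f_smul_right hf, hf.alternating, h, k,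
    mul_zero, add_zero]
  module

lemma sh_pow {u v : ι → F} (h : f u v = 0) (a : F) (k : ℕ) :
    sh hf u v a ^ k = sh hf u v ((k : F) * a) := by
  induction k with
  | zero => simp [sh_zero hf h]
  | succ k ih => rw [pow_succ, ih, sh_add hf h]; push_cast; ring_nf

lemma st_pow (v : ι → F) (a : F) (k : ℕ) : st hf v a ^ k = st hf v ((k : F) * a) := by
  induction k with
  | zero => simp [st_zero hf]
  | succ k ih => rw [pow_succ, ih, st_add hf]; push_cast; ring_nf

lemma sh_zpow {u v : ι → F} (h : f u v = 0) (a : F) (k : ℤ) :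
    sh hf u v a ^ k = sh hf u v ((k : F) * a) := by
  cases k with
  | ofNat n => simp [sh_pow hf h]
  | negSucc n =>
    rw [zpow_negSucc, sh_pow hf h, sh_inv hf h]
    push_cast
    ring_nf

lemma st_mem_subfield (hR : RatForm F₀ f) {v : ι → F} (hv : Rat F₀ v) {c : F} (hc : c ∈ F₀) :
    st hf v c ∈ Cfsg.Geo.subfieldSubgroup F₀ 1 :=
  tv_mem_subfield hv (fun u hu => by
    rw [LinearMap.smul_apply, flin_apply, smul_eq_mul]; exact F₀.mul_mem hc (hR u v hu hv))
    (by simp [hf.alternating])

variable [Fintype F] {r : ℕ} (hr : r.Prime) (hcard : Fintype.card F = Nat.card F₀ ^ r)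
  (hn : 6 ≤ Fintype.card ι ∨ 4 ≤ Fintype.card ι ∧ (2 : F) ≠ 0) (hR : RatForm F₀ f)
include hR hn

lemma ratF_flin {v : ι → F} (hv : Rat F₀ v) : RatF F₀ (flin hf.bilinear v) :=
  fun u hu => hR u v hu hv

/-- Rational functionals are given by rational vectors. -/
lemma exists_rat_flin {φ : (ι → F) →ₗ[F] F} (hφ : RatF F₀ φ) :
    ∃ v, Rat F₀ v ∧ ∀ x, f x v = φ x := by
  classical
  have hv' : ∀ v : ι → F₀, Rat F₀ (fun j => (v j : F)) := fun v j => (v j).2
  let L : (ι → F₀) →ₗ[F₀] (ι → F₀) :=
    { toFun := fun v i => ⟨_, hR (Pi.single i 1) _ (rat_single i) (hv' v)⟩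
      map_add' := fun v w => funext fun i => Subtype.ext
        (f_add_right hf _ (fun j => (v j : F)) (fun j => (w j : F)))
      map_smul' := fun c v => funext fun i => Subtype.ext
        (f_smul_right hf (c : F) _ (fun j => (v j : F))) }
  have key : ∀ (v : ι → F₀) (ψ : (ι → F) →ₗ[F] F),
      (∀ i, (L v i : F) = ψ (Pi.single i 1)) → flin hf.bilinear (fun j => (v j : F)) = ψ :=
    fun v ψ h => LinearMap.ext fun x => by
      rw [pi_eq_sum_univ' x, map_sum, map_sum]
      exact Finset.sum_congr rfl fun i _ => by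
        rw [map_smul, map_smul, flin_apply, ← h i]; rfl
  have hinj : Function.Injective L := fun v w h => by
    have := flin_injective hf.bilinear hf.nondegenerate ((key v _ fun i => by rw [h]; rfl).trans
      (key w (flin hf.bilinear fun j => (w j : F)) fun i => rfl).symm)
    exact funext fun j => Subtype.ext (congrFun this j)
  obtain ⟨v, hv⟩ := (LinearMap.injective_iff_surjective.1 hinj)
    fun i => ⟨_, hφ _ (rat_single i)⟩
  exact ⟨_, hv' v, LinearMap.congr_fun (key v φ fun i => by rw [hv])⟩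

omit hn in
lemma generic_pair {w : ι → F} (hw : Generic F₀ w) {v : ι → F} (hv : Rat F₀ v)
    (h : f w v = 0) : v = 0 := by
  have := hw (flin hf.bilinear v) (fun u hu => hR u v hu hv) h
  exact flin_injective hf.bilinear hf.nondegenerate (this.trans (map_zero _).symm)

omit hR hn in
/-- A rational vector killed by some functionals, outside a given rational plane. -/
lemma exists_rat_outside {k : ℕ} (hk : k + 2 < Fintype.card ι) {φ : Fin k → ((ι → F) →ₗ[F] F)}
    (hφ : ∀ j, RatF F₀ (φ j)) {u v : ι → F} (hu : Rat F₀ u) (hu0 : u ≠ 0) (hv : Rat F₀ v) :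
    ∃ z, Rat F₀ z ∧ z ≠ 0 ∧ (∀ j, φ j z = 0) ∧ z ∉ Submodule.span F ({u, v} : Set (ι → F)) := by
  obtain ⟨α, hα, β, hβ, hab⟩ : ∃ α : (ι → F) →ₗ[F] F, RatF F₀ α ∧ ∃ β : (ι → F) →ₗ[F] F,
      RatF F₀ β ∧ ∀ a b : F, α (a • u + b • v) = 0 → β (a • u + b • v) = 0 → a • u + b • v = 0 := by
    by_cases hv' : v ∈ F ∙ u
    · obtain ⟨c, rfl⟩ := Submodule.mem_span_singleton.1 hv'
      obtain ⟨α, hα, hαu⟩ := exists_ratF_eq_one hu hu0
      refine ⟨α, hα, α, hα, fun a b h _ => ?_⟩
      simp only [map_add, map_smul, hαu, smul_eq_mul, mul_one] at h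
      rw [smul_smul, ← add_smul, h, zero_smul]
    · obtain ⟨β, hβ, hβu, hβv⟩ := exists_ratF_sep hv hu hu0 hv'
      obtain ⟨α, hα, hαv, hαu⟩ := exists_ratF_sep hu hv
        (fun h => hv' (h ▸ Submodule.zero_mem _)) (fun h => hv' <| by
          obtain ⟨c, hc⟩ := Submodule.mem_span_singleton.1 h
          refine Submodule.mem_span_singleton.2 ⟨c⁻¹, ?_⟩
          have hc0 : c ≠ 0 := fun h0 => hu0 (by rw [← hc, h0, zero_smul])
          rw [← hc, inv_smul_smul₀ hc0])
      refine ⟨α, hα, β, hβ, fun a b h h' => ?_⟩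
      simp only [map_add, map_smul, hαu, hαv, hβu, hβv, smul_eq_mul, mul_one, mul_zero, add_zero,
        zero_add] at h h'
      rw [h, h', zero_smul, zero_smul, add_zero]
  obtain ⟨z, hz, hz0, hkill⟩ := exists_rat_kill (φ := Fin.cons α (Fin.cons β φ)) (by omega)
    (fun j => Fin.cases hα (fun j => Fin.cases hβ hφ j) j)
  refine ⟨z, hz, hz0, fun j => by simpa using hkill j.succ.succ, fun hmem => hz0 ?_⟩
  obtain ⟨a, b, rfl⟩ := Submodule.mem_span_pair.1 hmem
  exact hab a b (by simpa using hkill 0) (by simpa using hkill (Fin.succ 0))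

/-- A rational partner. -/
lemma exists_rat_partner {e : ι → F} (he : Rat F₀ e) (he0 : e ≠ 0) :
    ∃ e', Rat F₀ e' ∧ f e e' = 1 := by
  obtain ⟨φ, hφ, hφe⟩ := exists_ratF_eq_one he he0
  obtain ⟨e', he', he'f⟩ := exists_rat_flin hf hn hR hφ
  exact ⟨e', he', by rw [he'f]; exact hφe⟩

/-- A rational vector orthogonal to `u` pairing to one with `v`. -/
lemma exists_rat_sep_pair {u v : ι → F} (hu : Rat F₀ u) (hu0 : u ≠ 0) (hv : Rat F₀ v)
    (hind : v ∉ F ∙ u) : ∃ z, Rat F₀ z ∧ f u z = 0 ∧ f v z = 1 := by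
  obtain ⟨α, hα, hαu, hαv⟩ := exists_ratF_sep hv hu hu0 hind
  obtain ⟨z, hz, hzf⟩ := exists_rat_flin hf hn hR hα
  exact ⟨z, hz, by rw [hzf]; exact hαu, by rw [hzf]; exact hαv⟩

variable {M : Subgroup (GL ι F)} (hiso : M ≤ isoGroup f)
  (hM : Cfsg.Geo.subfieldSubgroup F₀ 1 ⊓ isoGroup f ≤ M)
include hM

lemma rat_st_mem {v : ι → F} (hv : Rat F₀ v) {c : F} (hc : c ∈ F₀) : st hf v c ∈ M :=
  hM ⟨st_mem_subfield hf hR hv hc, st_isIsom hf v c⟩

lemma rat_sh_mem {u v : ι → F} (hu : Rat F₀ u) (hv : Rat F₀ v) {c : F} (hc : c ∈ F₀) :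
    sh hf u v c ∈ M :=
  mul_mem (mul_mem (rat_st_mem hf hn hR hM (hu.add hv) hc) (rat_st_mem hf hn hR hM hu (F₀.neg_mem hc)))
    (rat_st_mem hf hn hR hM hv (F₀.neg_mem hc))

omit hM in
/-- `a` multiplies every rational long root group into `M`. -/
def LongScalar (hf : Cfsg.Geo.IsSymplecticForm f) (F₀ : Subfield F) (M : Subgroup (GL ι F))
    (a : F) : Prop := ∀ v, Rat F₀ v → st hf v a ∈ M

omit hM in
/-- `a` multiplies every rational short root group into `M`. -/
def ShortScalar (hf : Cfsg.Geo.IsSymplecticForm f) (F₀ : Subfield F) (M : Subgroup (GL ι F))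
    (a : F) : Prop :=
  ∀ u v, Rat F₀ u → Rat F₀ v → u ≠ 0 → v ∉ F ∙ u → f u v = 0 → sh hf u v a ∈ M

lemma long_of_one {a : F} {v : ι → F} (hv : Rat F₀ v) (hv0 : v ≠ 0) (h : st hf v a ∈ M) :
    LongScalar hf F₀ M a := by
  have move : ∀ x y, Rat F₀ x → Rat F₀ y → f x y ≠ 0 → st hf x a ∈ M → st hf y a ∈ M := by
    intro x y hx hy hxy hmem
    have hg := rat_st_mem hf hn hR hM (hy.sub hx) (F₀.inv_mem (hR x y hx hy))
    have hgx : app (st hf (y - x) (f x y)⁻¹) x = y := by
      rw [st_apply, f_sub_right hf, hf.alternating, sub_zero, inv_mul_cancel₀ hxy, one_smul]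
      abel
    have := mul_mem (mul_mem hg hmem) (inv_mem hg)
    rwa [st_conj hf (st_isIsom hf _ _), hgx] at this
  intro y hy
  by_cases hy0 : y = 0
  · rw [hy0, show st hf (0 : ι → F) a = 1 from gl_ext fun x => by rw [st_apply]; simp]
    exact one_mem _
  obtain ⟨z, hz, h1, h2⟩ : ∃ z, Rat F₀ z ∧ f v z ≠ 0 ∧ f z y ≠ 0 := by
    obtain ⟨a1, ha1, e1⟩ := exists_rat_partner hf hn hR hv hv0
    obtain ⟨b1, hb1, e2⟩ := exists_rat_partner hf hn hR hy hy0
    by_cases c1 : f a1 y = 0
    · by_cases c2 : f v b1 = 0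
      · refine ⟨a1 + b1, ha1.add hb1, by rw [f_add_right hf, e1, c2, add_zero]; exact one_ne_zero, ?_⟩
        rw [f_add_left hf, c1, hf.skew b1 y, e2, zero_add]
        exact neg_ne_zero.2 one_ne_zero
      · exact ⟨b1, hb1, c2, by rw [hf.skew, e2]; exact neg_ne_zero.2 one_ne_zero⟩
    · exact ⟨a1, ha1, by rw [e1]; exact one_ne_zero, c1⟩
  exact move z y hz hy h2 (move v z hv hz h1 h)

lemma short_of_one {a : F} {u v : ι → F} (hu : Rat F₀ u) (hv : Rat F₀ v) (hu0 : u ≠ 0)
    (hind : v ∉ F ∙ u) (huv : f u v = 0) (h : sh hf u v a ∈ M) : ShortScalar hf F₀ M a := by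
  have move : ∀ x y y', Rat F₀ x → Rat F₀ y → Rat F₀ y' → f x y = 0 → f x y' = 0 → f y y' ≠ 0 →
      sh hf x y a ∈ M → sh hf x y' a ∈ M := by
    intro x y y' hx hy hy' hxy hxy' hyy hmem
    have hg := rat_st_mem hf hn hR hM (hy'.sub hy) (F₀.inv_mem (hR y y' hy hy'))
    have hgy : app (st hf (y' - y) (f y y')⁻¹) y = y' := by
      rw [st_apply, f_sub_right hf, hf.alternating, sub_zero, inv_mul_cancel₀ hyy, one_smul]
      abel
    have hgx : app (st hf (y' - y) (f y y')⁻¹) x = x := by
      rw [st_apply, f_sub_right hf, hxy, hxy', sub_zero, mul_zero, zero_smul, add_zero]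
    have := mul_mem (mul_mem hg hmem) (inv_mem hg)
    rwa [sh_conj hf (st_isIsom hf _ _), hgx, hgy] at this
  have second : ∀ x y y', Rat F₀ x → x ≠ 0 → Rat F₀ y → Rat F₀ y' → y ∉ F ∙ x → y' ∉ F ∙ x →
      f x y = 0 → f x y' = 0 → sh hf x y a ∈ M → sh hf x y' a ∈ M := by
    intro x y y' hx hx0 hy hy' hyx hy'x hxy hxy' hmem
    obtain ⟨a1, ha1, e1, e1'⟩ := exists_rat_sep_pair hf hn hR hx hx0 hy hyx
    obtain ⟨b1, hb1, e2, e2'⟩ := exists_rat_sep_pair hf hn hR hx hx0 hy' hy'x
    obtain ⟨z, hz, hxz, h1, h2⟩ : ∃ z, Rat F₀ z ∧ f x z = 0 ∧ f y z ≠ 0 ∧ f z y' ≠ 0 := by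
      by_cases c1 : f a1 y' = 0
      · by_cases c2 : f y b1 = 0
        · refine ⟨a1 + b1, ha1.add hb1, by rw [f_add_right hf, e1, e2, add_zero],
            by rw [f_add_right hf, e1', c2, add_zero]; exact one_ne_zero, ?_⟩
          rw [f_add_left hf, c1, hf.skew b1 y', e2', zero_add]
          exact neg_ne_zero.2 one_ne_zero
        · exact ⟨b1, hb1, e2, c2, by rw [hf.skew, e2']; exact neg_ne_zero.2 one_ne_zero⟩
      · exact ⟨a1, ha1, e1, by rw [e1']; exact one_ne_zero, c1⟩
    exact move x z y' hx hz hy' hxz hxy' h2 (move x y z hx hy hz hxy hxz h1 hmem)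
  intro u' v' hu' hv' hu'0 hind' huv'
  have flip : ∀ {p q : ι → F}, p ≠ 0 → q ∉ F ∙ p → p ∉ F ∙ q := fun {p q} hp hq h => by
    obtain ⟨c, hc⟩ := Submodule.mem_span_singleton.1 h
    refine hq (Submodule.mem_span_singleton.2 ⟨c⁻¹, ?_⟩)
    rw [← hc, inv_smul_smul₀ fun h0 => hp (by rw [← hc, h0, zero_smul])]
  by_cases hpar : u' ∈ F ∙ u
  · obtain ⟨c, rfl⟩ := Submodule.mem_span_singleton.1 hpar
    have hc : c ≠ 0 := fun h0 => hu'0 (by rw [h0, zero_smul])
    have hcF : c ∈ F₀ := mem_of_smul_rat hu hu0 hu'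
    have huv'' : f u v' = 0 := by
      rw [f_smul_left hf, mul_eq_zero] at huv'; exact huv'.resolve_left hc
    have h1 := second u v (c • v') hu hu0 hv (hv'.smul hcF) hind (fun h => hind' (by
      obtain ⟨k, hk⟩ := Submodule.mem_span_singleton.1 h
      refine Submodule.mem_span_singleton.2 ⟨k / (c * c), ?_⟩
      rw [smul_smul, show k / (c * c) * c = c⁻¹ * k by field_simp, ← smul_smul, hk,
        inv_smul_smul₀ hc])) huv (by rw [f_smul_right hf, huv'', mul_zero]) h
    rw [sh_smul_right hf huv''] at h1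
    rwa [sh_smul_left hf huv'']
  by_cases h0 : f u u' = 0
  · have h1 : sh hf u u' a ∈ M := second u v u' hu hu0 hv hu' hind hpar huv h0 h
    refine second u' u v' hu' hu'0 hu hv' (flip hu0 hpar) hind' (by rw [hf.skew, h0, neg_zero]) huv' ?_
    rwa [sh_comm hf u u' h0]
  obtain ⟨w, hw, hw0, hk⟩ := exists_rat_kill (φ := ![flin hf.bilinear u, flin hf.bilinear u'])
    (by omega) (fun j => by fin_cases j <;> exact ratF_flin hf hn hR ‹_›)
  have hkw : f w u = 0 := hk 0
  have hwu : f u w = 0 := by rw [hf.skew, hkw, neg_zero]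
  have hwu' : f w u' = 0 := hk 1
  have n1 : w ∉ F ∙ u := fun h => by
    obtain ⟨c, rfl⟩ := Submodule.mem_span_singleton.1 h
    rw [f_smul_left hf, mul_eq_zero] at hwu'
    exact hw0 (by rw [hwu'.resolve_right h0, zero_smul])
  have n2 : w ∉ F ∙ u' := fun h => by
    obtain ⟨c, rfl⟩ := Submodule.mem_span_singleton.1 h
    rw [f_smul_left hf, hf.skew u' u, mul_eq_zero, neg_eq_zero] at hkw
    exact hw0 (by rw [hkw.resolve_right h0, zero_smul])
  have h1 : sh hf w u a ∈ M := by
    rw [sh_comm hf u w hwu]; exact second u v w hu hu0 hv hw hind n1 huv hwu h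
  have h2 := second w u u' hw hw0 hu hu' (flip hu0 n1) (flip hu'0 n2) hkw hwu' h1
  refine second u' w v' hu' hu'0 hw hv' n2 hind' (by rw [hf.skew, hwu', neg_zero]) huv' ?_
  rwa [sh_comm hf w u' hwu']

include hr hcard

/-- All short root groups give all transvections. -/
lemma all_centres (hB : ∀ b, ShortScalar hf F₀ M b) : ∀ w, w ∈ centres hf M := by
  classical
  obtain ⟨u, hu, hu0, -⟩ := exists_rat_kill (F₀ := F₀) (ι := ι) (k := 0) (φ := ![]) (by omega)
    (fun j => j.elim0)
  obtain ⟨v, hv, hv0, hk, hvn⟩ := exists_rat_outside hf (φ := ![flin hf.bilinear u]) (by omega)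
    (fun j => by fin_cases j; exact ratF_flin hf hn hR hu) hu hu0 hu
  have hvu : f u v = 0 := by rw [hf.skew, show f v u = 0 from hk 0, neg_zero]
  have hvn' : v ∉ F ∙ u := fun h => hvn (Submodule.span_mono (by simp) h)
  obtain ⟨v', hv', e1, e2⟩ := exists_rat_sep_pair hf hn hR hu hu0 hv hvn'
  have hv'n : v' ∉ F ∙ u := fun h => by
    obtain ⟨c, rfl⟩ := Submodule.mem_span_singleton.1 h
    rw [f_smul_right hf, show f v u = 0 from hk 0, mul_zero] at e2
    exact zero_ne_one e2
  have hsum : v + v' ∉ F ∙ u := fun h => by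
    obtain ⟨c, hc⟩ := Submodule.mem_span_singleton.1 h
    have h1 := f_smul_right hf c v u
    rw [hc, f_add_right hf, hf.alternating, e2, show f v u = 0 from hk 0, mul_zero, zero_add] at h1
    exact one_ne_zero h1
  -- negated squares are long scalars
  have hsq : ∀ b : F, LongScalar hf F₀ M (-(b * b)) := fun b => by
    refine long_of_one hf hn hR hM hu hu0 ?_
    have h1 := mul_mem (hB b u v hu hv hu0 hvn' hvu) (hB b u v' hu hv' hu0 hv'n e1)
    rw [sh_mul_sh hf hvu e1, hf.skew v' v, e2, mul_neg_one] at h1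
    exact (Subgroup.mul_mem_cancel_left _
      (hB b u (v + v') hu (hv.add hv') hu0 hsum (by rw [f_add_right hf, hvu, e1, add_zero]))).1 h1
  have hall : ∀ a : F, LongScalar hf F₀ M a := by
    intro a x hx
    by_cases h2 : (2 : F) = 0
    · obtain ⟨b, hb⟩ := FiniteField.isSquare_of_char_two
        (CharP.ringChar_of_prime_eq_zero Nat.prime_two (by exact_mod_cast h2)) (-a)
      have := hsq b x hx
      rwa [← hb, neg_neg] at this
    · set b := -a / 2
      have h1 := hsq (b + 1) x hx
      have h3 := hsq b x hx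
      have h4 := hsq 1 x hx
      have := mul_mem (mul_mem h1 (inv_mem h3)) (inv_mem h4)
      rw [st_inv, st_inv, st_add, st_add] at this
      convert this using 2
      simp only [b]
      field_simp
      ring
  have hrat : ∀ x, Rat F₀ x → ∀ k : F, k • x ∈ centres hf M := fun x hx k =>
    centres_smul hf (fun c => hall c x hx) k
  have addr : ∀ (x : ι → F) (a : F) (e : ι → F), x ∈ centres hf M → Rat F₀ e →
      x + a • e ∈ centres hf M := by
    intro x a e hx he
    have hce : e ∈ centres hf M := by simpa using hrat e he 1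
    by_cases h1 : f x e ≠ 0
    · exact centres_step' hf hce hx h1 a
    push Not at h1
    by_cases ha : a = 0
    · rw [ha, zero_smul, add_zero]; exact hx
    by_cases he0 : e = 0
    · rw [he0, smul_zero, add_zero]; exact hx
    obtain ⟨z1, hz1, hez1⟩ := exists_rat_partner hf hn hR he he0
    by_cases hgood : ∃ z, Rat F₀ z ∧ f e z = 1 ∧ f x z ≠ 0 ∧ f x z + a ≠ 0
    · obtain ⟨z, hz, hez, hxz, hxaz⟩ := hgood
      have hcz : z ∈ centres hf M := by simpa using hrat z hz 1
      have s1 := centres_step' hf hcz hx hxz 1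
      have s2 := centres_step' hf hce s1 (by
        rw [f_add_left hf, f_smul_left hf, h1, hf.skew z e, hez]; simp) a
      have s3 := centres_step' hf hcz s2 (by
        rw [f_add_left hf, f_add_left hf, f_smul_left hf, f_smul_left hf, hf.alternating, hez,
          mul_zero, add_zero, mul_one]
        exact hxaz) (-1)
      convert s3 using 1
      module
    · push Not at hgood
      have hcase : ∀ z, Rat F₀ z → f e z = 1 → f x z = 0 ∨ f x z = -a := fun z hz hez => by
        by_cases h : f x z = 0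
        · exact Or.inl h
        · exact Or.inr (eq_neg_of_add_eq_zero_left (hgood z hz hez h))
      have hmem : ∀ z, Rat F₀ z → f e z = 1 → f x z * a⁻¹ ∈ F₀ := fun z hz hez => by
        rcases hcase z hz hez with h | h
        · rw [h, zero_mul]; exact F₀.zero_mem
        · rw [h, neg_mul, mul_inv_cancel₀ ha]; exact F₀.neg_mem F₀.one_mem
      have hφ : RatF F₀ (a⁻¹ • -(flin hf.bilinear x)) := fun z hz => by
        have h3 := hmem _ ((hz.sub (hz1.smul (hR e z he hz))).add hz1) (by
          rw [f_add_right hf, f_sub_right hf, f_smul_right hf, hez1]; ring)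
        rw [f_add_right hf, f_sub_right hf, f_smul_right hf] at h3
        have h4 := F₀.add_mem h3 (F₀.mul_mem (hmem z1 hz1 hez1) (F₀.sub_mem (hR e z he hz) F₀.one_mem))
        convert h4 using 1
        simp only [LinearMap.smul_apply, LinearMap.neg_apply, flin_apply, smul_eq_mul,
          hf.skew z x]
        ring
      obtain ⟨v0, hv0, hv0f⟩ := exists_rat_flin hf hn hR hφ
      have hx' : x = (-a) • v0 := by
        refine flin_injective hf.bilinear hf.nondegenerate (LinearMap.ext fun z => ?_)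
        rw [map_smul, LinearMap.smul_apply, flin_apply, flin_apply, hv0f]
        simp only [LinearMap.smul_apply, LinearMap.neg_apply, flin_apply, smul_eq_mul]
        field_simp
      have : x + a • e = a • (e - v0) := by rw [hx']; module
      rw [this]
      exact hrat _ (he.sub hv0) a
  intro w
  rw [pi_eq_sum_univ' w]
  suffices ∀ s : Finset ι, ∑ i ∈ s, w i • (Pi.single i 1 : ι → F) ∈ centres hf M from this _
  intro s
  induction s using Finset.induction_on with
  | empty => rw [Finset.sum_empty]; exact zero_mem_centres hf M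
  | insert i s hi ih =>
    rw [Finset.sum_insert hi, add_comm]
    exact addr _ _ _ ih (rat_single i)

omit hr hcard in
/-- In odd characteristic two short scalars multiply to a short scalar. -/
lemma short_mul (hF2 : (2 : F) ≠ 0) {e v t : ι → F} (he : Rat F₀ e) (hv : Rat F₀ v) (he0 : e ≠ 0)
    (hind : v ∉ F ∙ e) (hev : f e v = 0) (ht : Rat F₀ t) (g1 : f e t = 0) (g2 : f v t = 1)
    {x y : F} (hx : ShortScalar hf F₀ M x) (hy : ShortScalar hf F₀ M y) :
    ShortScalar hf F₀ M (x * y) := by
  have htn : t ∉ F ∙ e := fun h => by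
    obtain ⟨c, rfl⟩ := Submodule.mem_span_singleton.1 h
    rw [f_smul_right hf, hf.skew v e, hev, neg_zero, mul_zero] at g2
    exact zero_ne_one g2
  have hA := hx e v he hv he0 hind hev
  have hB := hy e t he ht he0 htn g1
  have key : sh hf e v x * sh hf e t y * (sh hf e v x)⁻¹ * (sh hf e t y)⁻¹ =
      st hf e (-(2 * (x * y))) := by
    refine gl_ext fun z => ?_
    rw [sh_inv hf hev, sh_inv hf g1]
    simp only [map_mul, LinearEquiv.mul_apply, sh_apply hf hev, sh_apply hf g1, st_apply,
      f_add_left hf, f_smul_left hf, hf.alternating, hev, g1, g2, hf.skew t e, hf.skew v e,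
      hf.skew t v, mul_zero, neg_zero, add_zero]
    module
  have hl := long_of_one hf hn hR hM he he0
    (key ▸ mul_mem (mul_mem (mul_mem hA hB) (inv_mem hA)) (inv_mem hB))
  obtain ⟨p, hp⟩ := CharP.exists F
  obtain ⟨k, hk⟩ : ∃ k : ℕ, (k : F) * (-(2 * (x * y))) = x * y := by
    have h2 : -(2 : F) ≠ 0 := neg_ne_zero.2 hF2
    haveI : Fact p.Prime := ⟨(CharP.char_is_prime_or_zero F p).resolve_right
      (CharP.char_ne_zero_of_finite F p)⟩
    refine ⟨((-(2 : ZMod p))⁻¹).val, ?_⟩
    have e1 : ((((-(2 : ZMod p))⁻¹).val : ℕ) : F) = (-(2 : F))⁻¹ := by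
      have hc : ∀ z : ZMod p, ((z.val : ℕ) : F) = ZMod.castHom (dvd_refl p) F z := fun z => by
        rw [ZMod.castHom_apply, ZMod.natCast_val]
      rw [hc, map_inv₀, map_neg, map_ofNat]
    rw [e1]
    field_simp
  have hlong : LongScalar hf F₀ M (x * y) := fun w hw => by
    have := pow_mem (hl w hw) k
    rwa [st_pow, hk] at this
  intro u' v' hu' hv' _ _ _
  rw [sh, ← st_inv hf u', ← st_inv hf v']
  exact mul_mem (mul_mem (hlong _ (hu'.add hv')) (inv_mem (hlong _ hu'))) (inv_mem (hlong _ hv'))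

variable (hns : ¬ isoGroup f ≤ M)
include hns

lemma short_mem {a : F} (h : ShortScalar hf F₀ M a) : a ∈ F₀ := by
  by_contra ha
  have hall := mem_of_closed (S := {b | ShortScalar hf F₀ M b}) hr hcard
    (fun b hb u v hu hv _ _ _ => rat_sh_mem hf hn hR hM hu hv hb)
    (fun x hx y hy u v hu hv hu0 hind huv => by
      rw [← sh_add hf huv]
      exact mul_mem (hx u v hu hv hu0 hind huv) (hy u v hu hv hu0 hind huv))
    (fun x hx y hy => by
      obtain ⟨e1, he1, he10, -⟩ := exists_rat_kill (F₀ := F₀) (ι := ι) (k := 0) (φ := ![]) (by omega)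
        (fun j => j.elim0)
      obtain ⟨e2, he2, he20, hk2, hn2⟩ := exists_rat_outside hf (φ := ![flin hf.bilinear e1]) (by omega)
        (fun j => by fin_cases j; exact ratF_flin hf hn hR he1) he1 he10 he1
      have h12 : f e1 e2 = 0 := by rw [hf.skew, show f e2 e1 = 0 from hk2 0, neg_zero]
      have n2 : e2 ∉ F ∙ e1 := fun h => hn2 (Submodule.span_mono (by simp) h)
      obtain ⟨f2, hf2, g1, g2⟩ := exists_rat_sep_pair hf hn hR he1 he10 he2 n2
      have hf20 : f2 ≠ 0 := fun h => by rw [h, f_zero_right hf] at g2; exact zero_ne_one g2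
      rcases id hn with hn6 | ⟨hn4, hF2⟩
      swap
      · exact short_mul hf hn hR hM hF2 he1 he2 he10 n2 h12 hf2 g1 g2 hx hy
      obtain ⟨e3, he3, he30, hk3, hn3⟩ := exists_rat_outside hf
        (φ := ![flin hf.bilinear e1, flin hf.bilinear e2, flin hf.bilinear f2]) (by omega)
        (fun j => by fin_cases j <;> exact ratF_flin hf hn hR ‹_›) hf2 hf20 he1
      have c1 : f e3 e1 = 0 := hk3 0
      have c2 : f e3 e2 = 0 := hk3 1
      have c3 : f f2 e3 = 0 := by rw [hf.skew, show f e3 f2 = 0 from hk3 2, neg_zero]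
      have c1' : f e1 e3 = 0 := by rw [hf.skew, c1, neg_zero]
      have c2' : f e2 e3 = 0 := by rw [hf.skew, c2, neg_zero]
      have n3 : e3 ∉ F ∙ e1 := fun h => hn3 (Submodule.span_mono (by simp) h)
      have n3' : e3 ∉ F ∙ f2 := fun h => hn3 (Submodule.span_mono (by simp) h)
      have hgM := hy f2 e3 hf2 he3 hf20 n3' c3
      have hconj := mul_mem (mul_mem hgM (hx e1 e2 he1 he2 he10 n2 h12)) (inv_mem hgM)
      rw [sh_conj hf (sh_isIsom hf _ _ _), sh_apply hf c3, sh_apply hf c3, g1, c1', g2, c2'] at hconj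
      simp only [mul_zero, mul_one, zero_smul, add_zero] at hconj
      have h3 := mul_mem (inv_mem (hx e1 e2 he1 he2 he10 n2 h12)) hconj
      rw [sh_inv hf h12] at h3
      have key : sh hf e1 (e2 + y • e3) x =
          sh hf e1 e2 x * sh hf e1 e3 (x * y) := by
        rw [← sh_smul_right hf c1' y x, sh_mul_sh hf h12 (by rw [f_smul_right hf, c1', mul_zero]),
          f_smul_left hf, c2, mul_zero, mul_zero, st_zero hf, mul_one]
      rw [key, ← mul_assoc, sh_add hf h12, neg_add_cancel, sh_zero hf h12, one_mul] at h3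
      exact short_of_one hf hn hR hM he1 he3 he10 n3 c1' h3)
    (x := a) h ha
  exact hns fun g hg => isometry_mem_of_centres hf M (all_centres hf hr hcard hn hR hM hall) hg

lemma long_mem {a : F} {v : ι → F} (hv : Rat F₀ v) (hv0 : v ≠ 0) (h : st hf v a ∈ M) : a ∈ F₀ := by
  have hall := long_of_one hf hn hR hM hv hv0 h
  refine short_mem hf hr hcard hn hR hM hns fun x y hx hy _ _ _ => ?_
  rw [sh, ← st_inv hf x, ← st_inv hf y]
  exact mul_mem (mul_mem (hall _ (hx.add hy)) (inv_mem (hall _ hx))) (inv_mem (hall _ hy))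

lemma sh_scalar {a : F} {u v : ι → F} (hu : Rat F₀ u) (hv : Rat F₀ v) (hu0 : u ≠ 0)
    (hind : v ∉ F ∙ u) (huv : f u v = 0) (h : sh hf u v a ∈ M) : a ∈ F₀ :=
  short_mem hf hr hcard hn hR hM hns (short_of_one hf hn hR hM hu hv hu0 hind huv h)

/-- Removing a long root factor in odd characteristic. -/
lemma purify_four (hF2 : (2 : F) ≠ 0) {e v : ι → F} (he : Rat F₀ e) (he0 : e ≠ 0)
    (hv : Rat F₀ v) (hind : v ∉ F ∙ e) (hev : f e v = 0) {a s : F}
    (h : sh hf e v a * st hf e s ∈ M) : a ∈ F₀ := by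
  obtain ⟨t, ht, g1, g2⟩ := exists_rat_sep_pair hf hn hR he he0 hv hind
  obtain ⟨k, hk⟩ : ∃ k, k = st hf v 1 * st hf t 1 * st hf v 1 := ⟨_, rfl⟩
  have hkM : k * k ∈ M := by
    rw [hk]
    have h1 := mul_mem (mul_mem (rat_st_mem hf hn hR hM hv F₀.one_mem)
      (rat_st_mem hf hn hR hM ht F₀.one_mem)) (rat_st_mem hf hn hR hM hv F₀.one_mem)
    exact mul_mem h1 h1
  have hki : IsIsom f k := hk ▸ ((st_isIsom hf v 1).mul (st_isIsom hf t 1)).mul (st_isIsom hf v 1)
  have htv : f t v = -1 := by rw [hf.skew, g2]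
  have hke : app k e = e := by
    simp only [hk, map_mul, LinearEquiv.mul_apply, st_apply, hev, g1, mul_zero, zero_smul, add_zero]
  have hkv : app k v = t := by
    simp only [hk, map_mul, LinearEquiv.mul_apply, st_apply, hf.alternating, f_add_left hf, g2, htv, mul_zero, zero_smul, add_zero, zero_add, one_mul, mul_one, one_smul, neg_smul]
    try module
  have hnl : ∀ y x, f (-y) x = -f y x := fun y x => by
    rw [← neg_one_smul F y, f_smul_left hf, neg_one_mul]
  have hkt : app k t = -v := by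
    simp only [hk, map_mul, LinearEquiv.mul_apply, st_apply, hf.alternating, f_add_left hf, f_smul_left hf, g2, htv, hnl, mul_zero, zero_smul, add_zero, zero_add, one_mul, mul_one, one_smul, neg_mul, mul_neg, neg_smul, neg_neg, neg_zero]
    try module
  have hconj := mul_mem (mul_mem hkM h) (inv_mem hkM)
  rw [show k * k * (sh hf e v a * st hf e s) * (k * k)⁻¹ =
    (k * k) * sh hf e v a * (k * k)⁻¹ * ((k * k) * st hf e s * (k * k)⁻¹) by group,
    sh_conj hf (hki.mul hki), st_conj hf (hki.mul hki), map_mul, LinearEquiv.mul_apply,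
    LinearEquiv.mul_apply, hke, hke, hkv, hkt] at hconj
  have hneg : sh hf e (-v) a = sh hf e v (-a) := by
    rw [show -v = (-1 : F) • v by simp, sh_smul_right hf hev, mul_neg_one]
  have hcomm : Commute (sh hf e v a) (st hf e s) := gl_ext fun z => by
    simp only [map_mul, LinearEquiv.mul_apply, sh_apply hf hev, st_apply, f_add_left hf,
      f_smul_left hf, hf.alternating, hev, hf.skew v e, mul_zero, neg_zero, add_zero]
    module
  have h2s : st hf e (s + s) ∈ M := by
    rw [hneg] at hconj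
    have := mul_mem h hconj
    rw [← sh_inv hf hev] at this
    rwa [show sh hf e v a * st hf e s * ((sh hf e v a)⁻¹ * st hf e s) = st hf e s * st hf e s by
      rw [hcomm.eq]; group, st_add] at this
  have hsF : s ∈ F₀ := by
    have := F₀.mul_mem (long_mem hf hr hcard hn hR hM hns he he0 h2s)
      (F₀.inv_mem (F₀.add_mem F₀.one_mem F₀.one_mem))
    rwa [show (s + s) * (1 + 1)⁻¹ = s by rw [← two_mul, one_add_one_eq_two]; field_simp] at this
  exact sh_scalar hf hr hcard hn hR hM hns he hv he0 hind hev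
    ((Subgroup.mul_mem_cancel_right M (rat_st_mem hf hn hR hM he hsF)).1 h)

/-- Removing a long root factor. -/
lemma purify {e v : ι → F} (he : Rat F₀ e) (he0 : e ≠ 0) (hv : Rat F₀ v) (hind : v ∉ F ∙ e)
    (hev : f e v = 0) {a s : F} (h : sh hf e v a * st hf e s ∈ M) : a ∈ F₀ := by
  rcases id hn with hn6 | ⟨hn4, hF2⟩
  swap
  · exact purify_four hf hr hcard hn hR hM hns hF2 he he0 hv hind hev h
  obtain ⟨v2, hv2, g1, g2⟩ := exists_rat_sep_pair hf hn hR he he0 hv hind
  obtain ⟨z, hz, hz0, hk, hzn⟩ := exists_rat_outside hf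
    (φ := ![flin hf.bilinear e, flin hf.bilinear v, flin hf.bilinear v2]) (by omega)
    (fun j => by fin_cases j <;> exact ratF_flin hf hn hR ‹_›) he he0 he
  have c1 : f e z = 0 := by rw [hf.skew, show f z e = 0 from hk 0, neg_zero]
  have c2 : f v z = 0 := by rw [hf.skew, show f z v = 0 from hk 1, neg_zero]
  have c3 : f z v2 = 0 := hk 2
  have hzn' : z ∉ F ∙ e := fun h => hzn (Submodule.span_mono (by simp) h)
  have hg := rat_sh_mem hf hn hR hM hz hv2 F₀.one_mem
  have hge : app (sh hf z v2 1) e = e := by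
    rw [sh_apply hf c3, c1, g1]; simp
  have hgv : app (sh hf z v2 1) v = v + z := by
    rw [sh_apply hf c3, c2, g2]; simp
  have hconj := mul_mem (mul_mem (mul_mem hg h) (inv_mem hg)) (inv_mem h)
  have e1 : sh hf z v2 1 * (sh hf e v a * st hf e s) * (sh hf z v2 1)⁻¹ =
      sh hf e (v + z) a * st hf e s := by
    rw [show sh hf z v2 1 * (sh hf e v a * st hf e s) * (sh hf z v2 1)⁻¹ =
      sh hf z v2 1 * sh hf e v a * (sh hf z v2 1)⁻¹ *
        (sh hf z v2 1 * st hf e s * (sh hf z v2 1)⁻¹) by group,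
      sh_conj hf (sh_isIsom hf _ _ _), st_conj hf (sh_isIsom hf _ _ _), hge, hgv]
  rw [e1, _root_.mul_inv_rev, ← mul_assoc, mul_inv_cancel_right, add_comm v z] at hconj
  have key : sh hf e (z + v) a = sh hf e z a * sh hf e v a := by
    rw [sh_mul_sh hf c1 hev, c2, mul_zero, st_zero hf, mul_one]
  rw [key, mul_inv_cancel_right] at hconj
  exact sh_scalar hf hr hcard hn hR hM hns he hz he0 hzn' c1 hconj

/-- A short root element at a rational vector has a rational second vector modulo the first. -/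
lemma rat_mod_of_sh {e y : ι → F} (he : Rat F₀ e) (he0 : e ≠ 0) (hey : f e y = 0)
    (h : sh hf e y 1 ∈ M) : ∃ s : F, Rat F₀ (y - s • e) := by
  have hval : ∀ v, Rat F₀ v → f e v = 0 → f y v ∈ F₀ := by
    intro v hv hev
    by_cases hind : v ∈ F ∙ e
    · obtain ⟨c, rfl⟩ := Submodule.mem_span_singleton.1 hind
      rw [f_smul_right hf, hf.skew y e, hey, neg_zero, mul_zero]
      exact F₀.zero_mem
    set a := f y v with ha
    have hg := rat_st_mem hf hn hR hM hv F₀.one_mem
    have hge : app (st hf v 1) e = e := by rw [st_apply, hev]; simp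
    have hgy : app (st hf v 1) y = y + a • v := by rw [st_apply, one_mul]
    have hconj := mul_mem (inv_mem h) (mul_mem (mul_mem hg h) (inv_mem hg))
    rw [sh_conj hf (st_isIsom hf _ _), hge, hgy] at hconj
    have key := sh_mul_sh hf hey (v' := a • v) (by rw [f_smul_right hf, hev, mul_zero]) 1
    have e2 : sh hf e (y + a • v) 1 =
        sh hf e y 1 * sh hf e (a • v) 1 * (st hf e (1 * 1 * f (a • v) y))⁻¹ := by
      rw [key, mul_inv_cancel_right]
    rw [e2, ← mul_assoc, ← mul_assoc, inv_mul_cancel, one_mul, sh_smul_right hf hev, one_mul,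
      st_inv] at hconj
    exact purify hf hr hcard hn hR hM hns he he0 hv hind hev hconj
  obtain ⟨e', he', hee'⟩ := exists_rat_partner hf hn hR he he0
  refine ⟨f y e', ?_⟩
  set y' := y - f y e' • e with hy'
  obtain ⟨v0, hv0, hv0f⟩ := exists_rat_flin hf hn hR (φ := flin hf.bilinear y') fun u hu => by
    have h1 := hval (u - f e u • e') (hu.sub (he'.smul (hR e u he hu)))
      (by rw [f_sub_right hf, f_smul_right hf, hee']; ring)
    rw [f_sub_right hf, f_smul_right hf] at h1
    have h2 := F₀.neg_mem h1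
    convert h2 using 1
    rw [flin_apply, hy', hf.skew u, f_sub_left hf, f_smul_left hf]
    ring
  have : y' = v0 := flin_injective hf.bilinear hf.nondegenerate
    (LinearMap.ext fun x => (hv0f x).symm)
  rw [this]; exact hv0

include hiso

/-- An element of `M` mapping a rational point to one respects the rational vectors orthogonal
to it. -/
lemma map_perp {g : GL ι F} (hg : g ∈ M) {e e' : ι → F} (he : Rat F₀ e) (he0 : e ≠ 0)
    (he' : Rat F₀ e') {c : F} (hge : app g e = c • e') {u : ι → F} (hu : Rat F₀ u)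
    (heu : f e u = 0) : Rat F₀ (c⁻¹ • app g u) := by
  have hgi : IsIsom f g := hiso hg
  have hne : app g e ≠ 0 := fun h => he0 ((app g).map_eq_zero_iff.1 h)
  have hc : c ≠ 0 := fun h => hne (by rw [hge, h, zero_smul])
  have he'0 : e' ≠ 0 := fun h => hne (by rw [hge, h, smul_zero])
  have hc2 : c * c ∈ F₀ := by
    have h1 := mul_mem (mul_mem hg (rat_st_mem hf hn hR hM he F₀.one_mem)) (inv_mem hg)
    rw [st_conj hf hgi, hge, st_smul, one_mul] at h1
    exact long_mem hf hr hcard hn hR hM hns he' he'0 h1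
  set y := c • app g u with hy
  have hey : f e' y = 0 := by
    have h1 : f (app g e) (app g u) = 0 := by rw [hgi, heu]
    rw [hge, f_smul_left hf, mul_eq_zero] at h1
    rw [hy, f_smul_right hf, h1.resolve_left hc, mul_zero]
  have hgu' : f e' (app g u) = 0 := by
    rw [hy, f_smul_right hf, mul_eq_zero] at hey; exact hey.resolve_left hc
  have hsh : sh hf e' y 1 ∈ M := by
    have h1 := mul_mem (mul_mem hg (rat_sh_mem hf hn hR hM he hu F₀.one_mem)) (inv_mem hg)
    rw [sh_conj hf hgi, hge, sh_smul_left hf hgu', one_mul] at h1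
    rwa [hy, sh_smul_right hf hgu', one_mul]
  obtain ⟨s, hs⟩ := rat_mod_of_sh hf hr hcard hn hR hM hns he' he'0 hey hsh
  have hyr : Rat F₀ y := by
    by_cases hy0 : y - s • e' ∈ F ∙ e'
    · -- then `u` is a rational multiple of `e`
      obtain ⟨k, hk⟩ := Submodule.mem_span_singleton.1 hy0
      have hy1 : y = (k + s) • e' := by rw [add_smul, hk, sub_add_cancel]
      have hu' : u = ((k + s) / (c * c)) • e := (app g).injective <| by
        rw [map_smul, hge, smul_smul, ← smul_right_inj hc]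
        rw [← hy, hy1, smul_smul]
        congr 1
        field_simp
      have hkF : (k + s) / (c * c) ∈ F₀ := mem_of_smul_rat he he0 (hu' ▸ hu)
      rw [hy1]
      exact he'.smul (by simpa [hc] using F₀.mul_mem hkF hc2)
    · set y0 := y - s • e' with hy0def
      have hey0 : f e' y0 = 0 := by
        rw [hy0def, f_sub_right hf, hey, f_smul_right hf, hf.alternating, mul_zero, sub_zero]
      have hst : st hf (y0 + s • e') (c * c)⁻¹ ∈ M := by
        have h1 := mul_mem (mul_mem hg (rat_st_mem hf hn hR hM hu F₀.one_mem)) (inv_mem hg)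
        rw [st_conj hf hgi] at h1
        rwa [hy0def, sub_add_cancel, hy, st_smul, inv_mul_cancel₀ (mul_ne_zero hc hc)]
      rw [st_add_smul hf hey0] at hst
      have h2 := (Subgroup.mul_mem_cancel_left M
        (rat_st_mem hf hn hR hM hs (F₀.inv_mem hc2))).1 hst
      have h3 := purify hf hr hcard hn hR hM hns he' he'0 hs hy0 hey0 h2
      have hsF : s ∈ F₀ := by
        have := F₀.mul_mem hc2 h3
        rwa [← mul_assoc, mul_inv_cancel₀ (mul_ne_zero hc hc), one_mul] at this
      have := hs.add (he'.smul hsF)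
      rwa [sub_add_cancel] at this
  have := hyr.smul (F₀.inv_mem hc2)
  rwa [hy, smul_smul, mul_inv, mul_assoc, inv_mul_cancel₀ hc, mul_one] at this

lemma mem_of_map_rat_symp {g : GL ι F} (hg : g ∈ M) {e : ι → F} (he : Rat F₀ e) (he0 : e ≠ 0)
    (h : RatLine F₀ (app g e)) : g ∈ Cfsg.Geo.subfieldSubgroup F₀ 1 := by
  obtain ⟨c, e', he', hge⟩ := h
  have hne : app g e ≠ 0 := fun h => he0 ((app g).map_eq_zero_iff.1 h)
  have hc : c ≠ 0 := fun h => hne (by rw [hge, h, zero_smul])
  refine ratLine_mem_iff.2 ⟨c, hc, fun u hu => ?_⟩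
  have hperp := fun v hv hev => map_perp hf hr hcard hn hR hiso hM hns hg he he0 he' hge
    (u := v) hv hev
  obtain ⟨e2, he2, he20, hk, he2n⟩ := exists_rat_outside hf (φ := ![flin hf.bilinear e]) (by omega)
    (fun j => by fin_cases j; exact ratF_flin hf hn hR he) he he0 he
  have h2e : f e2 e = 0 := hk 0
  have hn' : e2 ∉ F ∙ e := fun h => he2n (Submodule.span_mono (by simp) h)
  have hen : e ∉ F ∙ e2 := fun h => by
    obtain ⟨k, hk'⟩ := Submodule.mem_span_singleton.1 h
    refine hn' (Submodule.mem_span_singleton.2 ⟨k⁻¹, ?_⟩)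
    rw [← hk', inv_smul_smul₀ fun h0 => he0 (by rw [← hk', h0, zero_smul])]
  obtain ⟨v0, hv0, g1, g2⟩ := exists_rat_sep_pair hf hn hR he2 he20 he hen
  have h1 := hperp (u - f e u • v0) (hu.sub (hv0.smul (hR e u he hu)))
    (by rw [f_sub_right hf, f_smul_right hf, g2]; ring)
  have h2 := hperp e2 he2 (by rw [hf.skew, h2e, neg_zero])
  have h3 := map_perp hf hr hcard hn hR hiso hM hns hg he2 he20 h2
    (c := c) (by rw [smul_smul, mul_inv_cancel₀ hc, one_smul]) hv0 g1
  have := h1.add (h3.smul (hR e u he hu))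
  rwa [smul_comm, ← smul_add, ← map_smul (app g), ← map_add, sub_add_cancel] at this

lemma ratLine_or_generic_symp {g : GL ι F} (hg : g ∈ M) {e : ι → F} (he : Rat F₀ e) (he0 : e ≠ 0) :
    RatLine F₀ (app g e) ∨ Generic F₀ (app g e) := by
  refine or_iff_not_imp_right.2 fun hgen => ?_
  set w := app g e with hw
  obtain ⟨φ, hφ, hφw, hφ0⟩ : ∃ φ : (ι → F) →ₗ[F] F, RatF F₀ φ ∧ φ w = 0 ∧ φ ≠ 0 := by
    simpa [Generic] using hgen
  obtain ⟨v, hv, hvf⟩ := exists_rat_flin hf hn hR hφ
  have hv0 : v ≠ 0 := fun h => hφ0 (LinearMap.ext fun x => by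
    rw [← hvf, h, f_zero_right hf]; rfl)
  have hst : st hf w 1 ∈ M := by
    have h1 := mul_mem (mul_mem hg (rat_st_mem hf hn hR hM he F₀.one_mem)) (inv_mem hg)
    rwa [st_conj hf (hiso hg)] at h1
  have hfix : app (st hf w 1) v = v := by
    rw [st_apply, hf.skew v w, show f w v = 0 from (hvf w).trans hφw]; simp
  obtain ⟨l, hl, hlr⟩ := ratLine_mem_iff.1
    (mem_of_map_rat_symp hf hr hcard hn hR hiso hM hns hst hv hv0
      ⟨1, v, hv, by rw [hfix, one_smul]⟩)
  have hlF : l⁻¹ ∈ F₀ := mem_of_smul_rat hv hv0 (by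
    have := hlr v hv
    rwa [hfix] at this)
  have hw0 : w ≠ 0 := fun h => he0 ((app g).map_eq_zero_iff.1 h)
  obtain ⟨u, hu, huw⟩ := exists_rat_ne_zero (F₀ := F₀)
    (show flin hf.bilinear w ≠ 0 from fun h => hw0
      (flin_injective hf.bilinear hf.nondegenerate (h.trans (map_zero _).symm)))
  have h3 := (hlr u hu).smul (F₀.inv_mem hlF)
  rw [smul_smul, inv_mul_cancel₀ (inv_ne_zero hl), one_smul, st_apply, one_mul] at h3
  have h4 := h3.sub hu
  rw [add_sub_cancel_left] at h4
  exact RatLine.of_smul huw ⟨1, f u w • w, h4, (one_smul _ _).symm⟩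

omit hns in
/-- An overgroup of the subfield group with a further element contains all isometries. -/
theorem isoGroup_le_of_not_mem {g : GL ι F} (hg : g ∈ M)
    (hgn : g ∉ Cfsg.Geo.subfieldSubgroup F₀ 1) : isoGroup f ≤ M := by
  by_contra hns
  obtain ⟨e, he, he0, -⟩ := exists_rat_kill (F₀ := F₀) (ι := ι) (k := 0) (φ := ![]) (by omega)
    (fun j => j.elim0)
  set w := app g e with hwdef
  have hw : Generic F₀ w :=
    (ratLine_or_generic_symp hf hr hcard hn hR hiso hM hns hg he he0).resolve_left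
      fun h => hgn (mem_of_map_rat_symp hf hr hcard hn hR hiso hM hns hg he he0 h)
  have hew : f e w ≠ 0 := fun h =>
    he0 (generic_pair hf hR hw he (by rw [hf.skew, h, neg_zero]))
  obtain ⟨u0, hu0, hu00, hk, hu0n⟩ := exists_rat_outside hf (φ := ![flin hf.bilinear e]) (by omega)
    (fun j => by fin_cases j; exact ratF_flin hf hn hR he) he he0 he
  have hu0e : f u0 e = 0 := hk 0
  have heu0 : f e u0 = 0 := by rw [hf.skew, hu0e, neg_zero]
  have hn0 : u0 ∉ F ∙ e := fun h => hu0n (Submodule.span_mono (by simp) h)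
  set μ := f u0 w / f e w with hμdef
  have hμ : μ ∉ F₀ := fun h => hn0 <| by
    have := generic_pair hf hR hw (hu0.sub (he.smul h)) (by
      rw [hf.skew, f_sub_left hf, f_smul_left hf, hμdef, div_mul_cancel₀ _ hew, sub_self, neg_zero])
    exact Submodule.mem_span_singleton.2 ⟨μ, (sub_eq_zero.1 this).symm⟩
  set z := u0 - μ • e with hz
  set U := Submodule.span F ({e, u0, w} : Set (ι → F)) with hU
  have heU : e ∈ U := Submodule.subset_span (by simp)
  have hu0U : u0 ∈ U := Submodule.subset_span (by simp)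
  have hwU : w ∈ U := Submodule.subset_span (by simp)
  have hzU : z ∈ U := U.sub_mem hu0U (U.smul_mem _ heU)
  have hzrad : ∀ y ∈ U, f z y = 0 := by
    intro y hy
    obtain ⟨a, b, c, rfl⟩ := Submodule.mem_span_triple.1 hy
    simp only [hz, f_add_right hf, f_smul_right hf, f_sub_left hf, f_smul_left hf, hf.alternating,
      hu0e, heu0, hμdef, div_mul_cancel₀ _ hew, mul_zero, sub_zero, sub_self, add_zero]
  have hrad : ∀ y ∈ U, (∀ y' ∈ U, f y y' = 0) → y ∈ F ∙ z := by
    intro y hy hall
    obtain ⟨a, b, c, rfl⟩ := Submodule.mem_span_triple.1 hy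
    have h1 := hall e heU
    have h2 := hall w hwU
    simp only [f_add_left hf, f_smul_left hf, hf.alternating, hu0e, mul_zero, zero_add,
      hf.skew w e, mul_neg, neg_eq_zero, mul_eq_zero] at h1
    have hc := h1.resolve_right hew
    simp only [f_add_left hf, f_smul_left hf, hf.alternating, mul_zero, add_zero] at h2
    refine Submodule.mem_span_singleton.2 ⟨b, ?_⟩
    have ha : a = -(b * μ) := by
      rw [hμdef, mul_div_assoc', eq_neg_iff_add_eq_zero, add_comm, div_add' _ _ _ hew, div_eq_zero_iff]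
      exact Or.inl (by linear_combination h2)
    rw [hz, hc, ha]
    module
  obtain ⟨α, hα, hαu, hαe⟩ := exists_ratF_sep he hu0 hu00 (fun h => by
    obtain ⟨k, hk'⟩ := Submodule.mem_span_singleton.1 h
    refine hn0 (Submodule.mem_span_singleton.2 ⟨k⁻¹, ?_⟩)
    rw [← hk', inv_smul_smul₀ fun h0 => he0 (by rw [← hk', h0, zero_smul])])
  obtain ⟨β, hβ, hβe, hβu⟩ := exists_ratF_sep hu0 he he0 hn0
  have hratU : ∀ v ∈ U, Rat F₀ v → ∃ a ∈ F₀, ∃ b ∈ F₀, v = a • e + b • u0 := by
    intro v hv hvr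
    obtain ⟨a, b, c, rfl⟩ := Submodule.mem_span_triple.1 hv
    have hc : c = 0 := by
      by_contra hc
      obtain ⟨θ, hθ, hθ0, hkill⟩ := exists_ratF_kill (v := ![e, u0, a • e + b • u0 + c • w]) (by omega)
        (fun j => by fin_cases j <;> assumption)
      refine hθ0 (hw θ hθ ?_)
      have h3 : θ (a • e + b • u0 + c • w) = 0 := hkill 2
      simp only [map_add, map_smul, show θ e = 0 from hkill 0, show θ u0 = 0 from hkill 1,
        smul_eq_mul, mul_zero, zero_add, mul_eq_zero] at h3
      exact h3.resolve_left hc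
    subst hc
    rw [zero_smul, add_zero] at hvr ⊢
    refine ⟨a, ?_, b, ?_, rfl⟩
    · simpa [hαe, hαu] using hα _ hvr
    · simpa [hβe, hβu] using hβ _ hvr
  have hr3 := three_le_degree (r := r) hcard (by omega) hw
  let S := M ⊓ Cfsg.Geo.subspaceStabilizer U
  have hstabT : ∀ (v : ι → F) (a : F), v ∈ U → st hf v a ∈ M → st hf v a ∈ S :=
    fun v a hv h => ⟨h, mem_stab_of_le fun x hx => by
      rw [st_apply]; exact U.add_mem hx (U.smul_mem _ hv)⟩
  obtain ⟨t, ht, het⟩ := exists_rat_partner hf hn hR he he0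
  obtain ⟨p, hp⟩ := CharP.exists F
  have hpp : p.Prime := (CharP.char_is_prime_or_zero F p).resolve_right (CharP.char_ne_zero_of_finite F p)
  refine false_of_two_point S he0 ?_ ?_ hpp (x := st hf e 1) (y := sh hf e u0 1)
    (hstabT e 1 heU (rat_st_mem hf hn hR hM he F₀.one_mem))
    ⟨rat_sh_mem hf hn hR hM he hu0 F₀.one_mem, mem_stab_of_le fun x hx => by
      rw [sh_apply hf heu0]; exact U.add_mem (U.add_mem hx (U.smul_mem _ hu0U)) (U.smul_mem _ heU)⟩
    (by rw [st_apply, hf.alternating]; simp)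
    (by rw [sh_apply hf heu0, hf.alternating, heu0]; simp)
    (by rw [st_pow, CharP.cast_eq_zero, zero_mul, st_zero])
    (by rw [sh_pow hf heu0, CharP.cast_eq_zero, zero_mul, sh_zero hf heu0]) ?_ ?_ ?_
  · refine ⟨st hf w 1, hstabT w 1 hwU ?_, fun h => ?_⟩
    · have h1 := mul_mem (mul_mem hg (rat_st_mem hf hn hR hM he F₀.one_mem)) (inv_mem hg)
      rwa [st_conj hf (hiso hg)] at h1
    · rw [st_apply, one_mul] at h
      have h1 := (Submodule.add_mem_iff_right _ (Submodule.mem_span_singleton_self e)).1 h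
      obtain ⟨c, hc⟩ := Submodule.mem_span_singleton.1 (((F ∙ e).smul_mem_iff hew).1 h1)
      exact hw.not_ratLine (by omega) ⟨c, e, he, hc.symm⟩
  · intro s hs k hk2 hse a b hka hkb
    have hgen : Generic F₀ (app s e) := by
      refine (ratLine_or_generic_symp hf hr hcard hn hR hiso hM hns hs.1 he he0).resolve_left
        fun hrl => ?_
      obtain ⟨l, hl, hlr⟩ := ratLine_mem_iff.1
        (mem_of_map_rat_symp hf hr hcard hn hR hiso hM hns hs.1 he he0 hrl)
      obtain ⟨a1, ha1, b1, hb1, hv⟩ := hratU _ (U.smul_mem _ ((mem_stab_iff.1 hs.2) e heU)) (hlr e he)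
      obtain ⟨c1, hc1, d1, hd1, hv'⟩ :=
        hratU _ (U.smul_mem _ ((mem_stab_iff.1 hs.2) u0 hu0U)) (hlr u0 hu0)
      obtain ⟨k1, hk1⟩ := Submodule.mem_span_singleton.1
        (hrad (app s z) ((mem_stab_iff.1 hs.2) z hzU) fun y hy => by
          rw [← app_app_inv s y, hiso hs.1]
          exact hzrad _ ((mem_stab_iff.1 ((Cfsg.Geo.subspaceStabilizer U).inv_mem hs.2)) y hy))
      have hk1' : (l⁻¹ * k1) • z = (c1 - μ * a1) • e + (d1 - μ * b1) • u0 := by
        rw [← smul_smul, hk1, hz, map_sub, map_smul, smul_sub, smul_comm, hv, hv']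
        module
      have eα := congrArg α hk1'
      have eβ := congrArg β hk1'
      simp only [hz, map_add, map_sub, map_smul, hαe, hαu, hβe, hβu, smul_eq_mul, mul_one,
        mul_zero, sub_zero, zero_sub, add_zero, zero_add] at eα eβ
      obtain ⟨-, -, hb⟩ := quad_zero hr hr3 hcard hμ hc1 (F₀.sub_mem hd1 ha1) (F₀.neg_mem hb1)
        (by rw [eβ] at eα; linear_combination -eα)
      refine hse (Submodule.mem_span_singleton.2 ⟨l * a1, ?_⟩)
      rw [neg_eq_zero.1 hb, zero_smul, add_zero] at hv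
      rw [← smul_smul, ← hv, smul_smul, mul_inv_cancel₀ hl, one_smul]
    exact scalar_of_fix (mem_of_map_rat_symp hf hr hcard hn hR hiso hM hns hk2.1 he he0
      ⟨a, e, he, hka⟩) he he0 hgen hka hkb
  · refine gl_ext fun x => ?_
    rw [map_mul, map_mul, LinearEquiv.mul_apply, LinearEquiv.mul_apply, st_apply, st_apply,
      sh_apply hf heu0, sh_apply hf heu0]
    simp only [f_add_left hf, f_smul_left hf, hf.alternating, heu0, hu0e, mul_zero, add_zero]
    module
  · intro h
    have h1 := sh_apply hf heu0 1 t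
    rw [h, map_one] at h1
    have h2 := congrArg β h1
    simp [hβe, hβu, hf.skew t e, het] at h2
  · intro i h
    rw [sh_zpow hf heu0] at h
    have h1 := st_apply hf e 1 t
    rw [h, sh_apply hf heu0] at h1
    have h2 := congrArg β h1
    have h3 := congrArg α h1
    simp [hβe, hβu, hαe, hαu, hf.skew t e, het] at h2 h3
    simp [h2] at h3

end Cfsg.Agent.C5
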