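import Cfsg.Agent.Lib.C5.Linear
import Cfsg.Agent.Lib.Unitary.Maximal

/-!
# Rational unitary geometry for the subfield subgroups of `SU_n(q)`

The standard hermitian form restricted to the vectors over `F₀` (odd degree) is the standard
hermitian form over `F₀`: rational hyperbolic pairs, root elements, transitivity on rational
isotropic vectors and on orthogonal pairs of them.
-/

set_option autoImplicit false
set_option linter.unusedSectionVars false

namespace Cfsg.Agent.C5.Uni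

open Matrix Cfsg.Agent.Transvect Cfsg.Agent.Unitary Cfsg.Agent.C5

variable {F : Type*} [Field F] {q n : ℕ} {F₀ : Subfield F}

local notation "V" => (Fin n → F)
local notation "hh" => Cfsg.hermForm n F q

/-- The functional `x ↦ h(x, v)`. -/
def hlin (q : ℕ) (v : Fin n → F) : (Fin n → F) →ₗ[F] F := ∑ i, (v i ^ q) • LinearMap.proj i

@[simp] lemma hlin_apply (v x : V) : hlin q v x = hh x v := by
  simp [hlin, Cfsg.hermForm, mul_comm]

lemma herm_rat {u v : V} (hu : Rat F₀ u) (hv : Rat F₀ v) : hh u v ∈ F₀ :=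
  F₀.sum_mem fun i _ => F₀.mul_mem (hu i) (pow_mem (hv i) q)

lemma ratF_hlin {v : V} (hv : Rat F₀ v) : RatF F₀ (hlin q v) := fun u hu => by
  rw [hlin_apply]; exact herm_rat hu hv

/-- The transvection `x ↦ x + c h(x,v) v`. -/
noncomputable def tu (q : ℕ) (v : Fin n → F) (c : F) : GL (Fin n) F := tv v (c • hlin q v)

/-- The Eichler element `x ↦ x + a h(x,u) v − aᵠ h(x,v) u`. -/
noncomputable def sh (q : ℕ) (u v : Fin n → F) (a : F) : GL (Fin n) F :=
  tv v (a • hlin q u) * tv u (-(a ^ q) • hlin q v)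

/-- Two orthogonal isotropic vectors. -/
structure Iso2 (q : ℕ) (u v : Fin n → F) : Prop where
  uu : Cfsg.hermForm n F q u u = 0
  vv : Cfsg.hermForm n F q v v = 0
  uv : Cfsg.hermForm n F q u v = 0

/-- An independent rational orthogonal isotropic pair. -/
structure RPair (F₀ : Subfield F) (q : ℕ) (u v : Fin n → F) : Prop extends Iso2 q u v where
  ru : Rat F₀ u
  rv : Rat F₀ v
  u0 : u ≠ 0
  ind : ∀ c : F, c • u ≠ v

lemma tu_apply {v : V} (hv : hh v v = 0) (c : F) (x : V) :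
    app (tu q v c) x = x + (c * hh x v) • v := by
  rw [tu, tv_apply (by simp [hv])]; simp

lemma tu_mem_subfield {v : V} (hv0 : hh v v = 0) (hv : Rat F₀ v) {c : F} (hc : c ∈ F₀) :
    tu q v c ∈ Cfsg.Geo.subfieldSubgroup F₀ 1 :=
  tv_mem_subfield hv ((ratF_hlin hv).smul hc) (by simp [hv0])

lemma tu_mem_sl (v : V) (c : F) : tu q v c ∈ Cfsg.Geo.specialLinear (Fin n) F := tv_mem_sl _ _

lemma sh_mem_sl (u v : V) (a : F) : sh q u v a ∈ Cfsg.Geo.specialLinear (Fin n) F :=
  mul_mem (tv_mem_sl _ _) (tv_mem_sl _ _)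

lemma tu_zero {v : V} (hv : hh v v = 0) : tu q v 0 = 1 :=
  gl_ext fun x => by rw [tu_apply hv]; simp

variable [Fintype F]

section Algebra

variable (hF : Fintype.card F = q ^ 2)
include hF

lemma Iso2.vu {u v : V} (h : Iso2 q u v) : hh v u = 0 :=
  ((hermForm_isHerm hF n).eq_zero_symm hF).1 h.uv

lemma Iso2.symm {u v : V} (h : Iso2 q u v) : Iso2 q v u := ⟨h.vv, h.uu, h.vu hF⟩

lemma Iso2.smul_right {u v : V} (h : Iso2 q u v) (k : F) : Iso2 q u (k • v) := by
  have H := hermForm_isHerm hF n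
  exact ⟨h.uu, by rw [H.smul_left, H.smul_right, h.vv]; ring, by rw [H.smul_right, h.uv, mul_zero]⟩

lemma Iso2.smul_left {u v : V} (h : Iso2 q u v) (k : F) : Iso2 q (k • u) v :=
  ((h.symm hF).smul_right hF k).symm hF

lemma tu_mem_GU {v : V} (hv : hh v v = 0) {c : F} (hc : c + c ^ q = 0) :
    tu q v c ∈ Cfsg.GU n F q := by
  have H := hermForm_isHerm hF n
  refine (mem_GU_iff _).2 fun x y => ?_
  rw [← app_apply, ← app_apply, tu_apply hv, tu_apply hv]
  simp only [H.add_left, H.add_right hF, H.smul_left, H.smul_right, hv, mul_zero, add_zero, mul_pow,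
    H.conj_symm y v]
  linear_combination (hh x v * hh y v ^ q) * hc

lemma tu_mem_suGL {v : V} (hv : hh v v = 0) {c : F} (hc : c + c ^ q = 0) :
    tu q v c ∈ suGL n F q := ⟨tu_mem_GU hF hv hc, tu_mem_sl v c⟩

lemma tu_smul {v : V} (hv : hh v v = 0) (k c : F) :
    tu q (k • v) c = tu q v (c * k ^ (q + 1)) := gl_ext fun x => by
  have H := hermForm_isHerm hF n
  rw [tu_apply (by rw [H.smul_left, H.smul_right, hv]; ring), tu_apply hv, H.smul_right, smul_smul,
    pow_succ]
  congr 2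
  ring

lemma tu_add {v : V} (hv : hh v v = 0) (a b : F) :
    tu q v a * tu q v b = tu q v (a + b) := gl_ext fun x => by
  have H := hermForm_isHerm hF n
  rw [map_mul, LinearEquiv.mul_apply, tu_apply hv, tu_apply hv, tu_apply hv]
  simp only [H.add_left, H.smul_left, hv, mul_zero, add_zero]
  module

lemma tu_pow {v : V} (hv : hh v v = 0) (a : F) (k : ℕ) : tu q v a ^ k = tu q v ((k : F) * a) := by
  induction k with
  | zero => simp [tu_zero hv]
  | succ k ih => rw [pow_succ, ih, tu_add hF hv]; push_cast; ring_nf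

lemma herm_app_inv {g : GL (Fin n) F} (hg : g ∈ Cfsg.GU n F q) (x v : V) :
    hh (app g⁻¹ x) v = hh x (app g v) := by
  have := (mem_GU_iff g).1 hg (app g⁻¹ x) v
  rw [← app_apply, ← app_apply, app_app_inv] at this
  exact this.symm

lemma tu_conj {g : GL (Fin n) F} (hg : g ∈ Cfsg.GU n F q) {v : V} (hv : hh v v = 0) (c : F) :
    g * tu q v c * g⁻¹ = tu q (app g v) c := gl_ext fun x => by
  have hgv : hh (app g v) (app g v) = 0 := ((mem_GU_iff g).1 hg v v).trans hv
  rw [map_mul, map_mul, LinearEquiv.mul_apply, LinearEquiv.mul_apply, tu_apply hv, tu_apply hgv,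
    map_add, map_smul, app_app_inv, herm_app_inv hF hg]

lemma sh_apply {u v : V} (h : Iso2 q u v) (a : F) (x : V) :
    app (sh q u v a) x = x + (a * hh x u) • v - (a ^ q * hh x v) • u := by
  have H := hermForm_isHerm hF n
  rw [sh, map_mul, LinearEquiv.mul_apply, tv_apply (by simp [h.vu hF]), tv_apply (by simp [h.uv])]
  simp only [LinearMap.smul_apply, hlin_apply, smul_eq_mul, H.add_left, H.smul_left, h.uu,
    mul_zero, add_zero]
  module

lemma sh_mem_subfield {u v : V} (h : Iso2 q u v) (hu : Rat F₀ u) (hv : Rat F₀ v) {a : F}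
    (ha : a ∈ F₀) : sh q u v a ∈ Cfsg.Geo.subfieldSubgroup F₀ 1 :=
  mul_mem (tv_mem_subfield hv ((ratF_hlin hu).smul ha) (by simp [h.vu hF]))
    (tv_mem_subfield hu ((ratF_hlin hv).smul (F₀.neg_mem (pow_mem ha q))) (by simp [h.uv]))

lemma sh_mem_GU {u v : V} (h : Iso2 q u v) (a : F) : sh q u v a ∈ Cfsg.GU n F q := by
  have H := hermForm_isHerm hF n
  refine (mem_GU_iff _).2 fun x y => ?_
  rw [← app_apply, ← app_apply, sh_apply hF h, sh_apply hF h]
  simp only [H.add_left, H.add_right hF, H.sub_left, H.sub_right hF, H.smul_left, H.smul_right,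
    h.uu, h.vv, h.uv, h.vu hF, mul_zero, add_zero, sub_zero, mul_pow, pow_q_pow_q hF,
    H.conj_symm y u, H.conj_symm y v]
  ring

lemma sh_mem_suGL {u v : V} (h : Iso2 q u v) (a : F) : sh q u v a ∈ suGL n F q :=
  ⟨sh_mem_GU hF h a, sh_mem_sl u v a⟩

lemma Iso2.map {g : GL (Fin n) F} (hg : g ∈ Cfsg.GU n F q) {u v : V} (h : Iso2 q u v) :
    Iso2 q (app g u) (app g v) :=
  ⟨((mem_GU_iff g).1 hg u u).trans h.uu, ((mem_GU_iff g).1 hg v v).trans h.vv,
    ((mem_GU_iff g).1 hg u v).trans h.uv⟩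

lemma sh_conj {g : GL (Fin n) F} (hg : g ∈ Cfsg.GU n F q) {u v : V} (h : Iso2 q u v) (a : F) :
    g * sh q u v a * g⁻¹ = sh q (app g u) (app g v) a := gl_ext fun x => by
  rw [map_mul, map_mul, LinearEquiv.mul_apply, LinearEquiv.mul_apply, sh_apply hF h,
    sh_apply hF (h.map hF hg), map_sub, map_add, map_smul, map_smul, app_app_inv,
    herm_app_inv hF hg, herm_app_inv hF hg]

lemma sh_add {u v : V} (h : Iso2 q u v) (a b : F) :
    sh q u v a * sh q u v b = sh q u v (a + b) := gl_ext fun x => by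
  have H := hermForm_isHerm hF n
  rw [map_mul, LinearEquiv.mul_apply, sh_apply hF h, sh_apply hF h, sh_apply hF h, add_pow_q hF]
  simp only [H.add_left, H.sub_left, H.smul_left, h.uu, h.vv, h.uv, h.vu hF, mul_zero, add_zero,
    sub_zero]
  module

lemma sh_zero {u v : V} (h : Iso2 q u v) : sh q u v 0 = 1 := gl_ext fun x => by
  rw [sh_apply hF h, zero_pow_q hF]; simp

lemma sh_inv {u v : V} (h : Iso2 q u v) (a : F) : (sh q u v a)⁻¹ = sh q u v (-a) :=
  inv_eq_of_mul_eq_one_right (by rw [sh_add hF h, add_neg_cancel, sh_zero hF h])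

lemma sh_pow {u v : V} (h : Iso2 q u v) (a : F) (k : ℕ) :
    sh q u v a ^ k = sh q u v ((k : F) * a) := by
  induction k with
  | zero => simp [sh_zero hF h]
  | succ k ih => rw [pow_succ, ih, sh_add hF h]; push_cast; ring_nf

lemma sh_zpow {u v : V} (h : Iso2 q u v) (a : F) (k : ℤ) :
    sh q u v a ^ k = sh q u v ((k : F) * a) := by
  cases k with
  | ofNat n => simp [sh_pow hF h]
  | negSucc n =>
    rw [zpow_negSucc, sh_pow hF h, sh_inv hF h]
    push_cast
    ring_nf

lemma sh_smul_right {u v : V} (h : Iso2 q u v) (k a : F) :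
    sh q u (k • v) a = sh q u v (a * k) := gl_ext fun x => by
  rw [sh_apply hF (h.smul_right hF k), sh_apply hF h, (hermForm_isHerm hF n).smul_right, mul_pow]
  module

lemma sh_smul_left {u v : V} (h : Iso2 q u v) (k a : F) :
    sh q (k • u) v a = sh q u v (a * k ^ q) := gl_ext fun x => by
  rw [sh_apply hF (h.smul_left hF k), sh_apply hF h, (hermForm_isHerm hF n).smul_right, mul_pow,
    pow_q_pow_q hF]
  module

/-- Composition in the second slot. -/
lemma sh_mul_sh {u v v' : V} (h : Iso2 q u v) (h' : Iso2 q u v') (h'' : Iso2 q u (v + v')) (a : F) :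
    sh q u v a * sh q u v' a = sh q u (v + v') a * tu q u (-(a ^ q * a * hh v' v)) :=
  gl_ext fun x => by
    have H := hermForm_isHerm hF n
    rw [map_mul, map_mul, LinearEquiv.mul_apply, LinearEquiv.mul_apply, sh_apply hF h,
      sh_apply hF h', sh_apply hF h'', tu_apply h.uu]
    simp only [H.add_left, H.sub_left, H.add_right hF, H.smul_left, h.uu, h.uv, h'.uv, h'.vu hF,
      mul_zero, add_zero, sub_zero]
    module

/-- The commutator of two short root elements is a long one. -/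
lemma sh_comm_eq {u v v' : V} (h : Iso2 q u v) (h' : Iso2 q u v') (a b : F) :
    sh q u v a * sh q u v' b = sh q u v' b * sh q u v a *
      tu q u (b ^ q * a * hh v v' - a ^ q * b * hh v' v) :=
  gl_ext fun x => by
    have H := hermForm_isHerm hF n
    simp only [map_mul, LinearEquiv.mul_apply, sh_apply hF h, sh_apply hF h', tu_apply h.uu,
      H.add_left, H.sub_left, H.smul_left, h.uu, h.uv, h'.uv, h.vu hF, h'.vu hF,
      mul_zero, add_zero, sub_zero]
    module

/-- A transvection at a sum of orthogonal isotropic vectors. -/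
lemma tu_add_smul {u v : V} (h : Iso2 q u v) (b : F) {c : F} (hc : c + c ^ q = 0) :
    tu q (v + b • u) c = tu q v c * (sh q u v (c * b ^ q) * tu q u (c * b ^ (q + 1))) :=
  gl_ext fun x => by
    have H := hermForm_isHerm hF n
    have hvb : hh (v + b • u) (v + b • u) = 0 := by
      simp only [H.add_left, H.add_right hF, H.smul_left, H.smul_right, h.uu, h.vv, h.uv, h.vu hF,
        mul_zero, add_zero]
    have hcq : c ^ q = -c := eq_neg_of_add_eq_zero_right hc
    simp only [map_mul, LinearEquiv.mul_apply, tu_apply hvb, tu_apply h.uu, tu_apply h.vv,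
      sh_apply hF h, H.add_left, H.sub_left, H.add_right hF, H.smul_left, H.smul_right, h.uu,
      h.uv, h.vu hF, h.vv, mul_zero, add_zero, sub_zero, mul_pow, pow_q_pow_q hF, hcq]
    module

lemma eq_tu_of_val {g : GL (Fin n) F} {v : V} (hv : hh v v = 0) {c : F}
    (hg : (g : Matrix (Fin n) (Fin n) F) = Cfsg.unitaryTransvection n q v c) : g = tu q v c :=
  gl_ext fun x => by rw [tu_apply hv, app_apply, hg, transvection_mulVec]

end Algebra

/-- The standing hypotheses. -/
structure Ctx (F₀ : Subfield F) (q n r : ℕ) : Prop where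
  hF : Fintype.card F = q ^ 2
  hr : r.Prime
  hro : Odd r
  hcard : Fintype.card F = Nat.card F₀ ^ r
  hn : 6 ≤ n

/-- A rational hyperbolic pair supported on two coordinates. -/
structure HP (F₀ : Subfield F) (q : ℕ) (i j : Fin n) (e f : Fin n → F) : Prop where
  re : Rat F₀ e
  rf : Rat F₀ f
  ee : Cfsg.hermForm n F q e e = 0
  ff : Cfsg.hermForm n F q f f = 0
  ef : Cfsg.hermForm n F q e f = 1
  fe : Cfsg.hermForm n F q f e = 1
  suppe : ∀ k, k ≠ i → k ≠ j → e k = 0
  suppf : ∀ k, k ≠ i → k ≠ j → f k = 0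
  spani : ∃ a ∈ F₀, ∃ b ∈ F₀, (Pi.single i 1 : Fin n → F) = a • e + b • f
  spanj : ∃ a ∈ F₀, ∃ b ∈ F₀, (Pi.single j 1 : Fin n → F) = a • e + b • f

lemma HP.swap {i j : Fin n} {e f : V} (h : HP F₀ q i j e f) : HP F₀ q i j f e where
  re := h.rf
  rf := h.re
  ee := h.ff
  ff := h.ee
  ef := h.fe
  fe := h.ef
  suppe := h.suppf
  suppf := h.suppe
  spani := by obtain ⟨a, ha, b, hb, h'⟩ := h.spani; exact ⟨b, hb, a, ha, h'.trans (add_comm _ _)⟩
  spanj := by obtain ⟨a, ha, b, hb, h'⟩ := h.spanj; exact ⟨b, hb, a, ha, h'.trans (add_comm _ _)⟩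

section HPLemmas

variable (hF : Fintype.card F = q ^ 2) {i j : Fin n} {e f : Fin n → F}
include hF

lemma HP.e_ne (h : HP F₀ q i j e f) : e ≠ 0 := fun h0 => by
  have := h.ef
  rw [h0, (hermForm_isHerm hF n).zero_left] at this
  exact zero_ne_one this

/-- A vector vanishing on the support is orthogonal to the pair. -/
lemma HP.orth (h : HP F₀ q i j e f) {x : V} (hi : x i = 0) (hj : x j = 0) :
    hh x e = 0 ∧ hh x f = 0 := by
  constructor <;>
  · refine Finset.sum_eq_zero fun k _ => ?_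
    by_cases hki : k = i
    · rw [hki, hi, zero_mul]
    by_cases hkj : k = j
    · rw [hkj, hj, zero_mul]
    simp [h.suppe k hki hkj, h.suppf k hki hkj, zero_pow_q hF]

lemma HP.decomp (h : HP F₀ q i j e f) (x : V) :
    (x - hh x f • e - hh x e • f) i = 0 ∧ (x - hh x f • e - hh x e • f) j = 0 := by
  have H := hermForm_isHerm hF n
  set y := x - hh x f • e - hh x e • f with hy
  have h1 : hh y e = 0 := by simp [hy, H.sub_left, H.smul_left, h.ee, h.fe]
  have h2 : hh y f = 0 := by simp [hy, H.sub_left, H.smul_left, h.ff, h.ef]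
  constructor
  · obtain ⟨a, -, b, -, hab⟩ := h.spani
    rw [← hermForm_single_right hF y i, hab, H.add_right hF, H.smul_right, H.smul_right, h1, h2]
    simp
  · obtain ⟨a, -, b, -, hab⟩ := h.spanj
    rw [← hermForm_single_right hF y j, hab, H.add_right hF, H.smul_right, H.smul_right, h1, h2]
    simp

end HPLemmas

namespace Ctx

variable {r : ℕ} (C : Ctx F₀ q n r)
include C

/-- The conjugation restricted to `F₀` is the one of `F₀` as a quadratic extension. -/
lemma exists_q0 : ∃ q₀, Nat.card F₀ = q₀ ^ 2 ∧ ∀ x ∈ F₀, x ^ q = x ^ q₀ := by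
  obtain ⟨s, hs⟩ := C.hro
  obtain ⟨c, hc⟩ : ∃ c, Nat.card F₀ = c := ⟨_, rfl⟩
  have hqc : q ^ 2 = (c ^ s) ^ 2 * c := by
    rw [← C.hF, C.hcard, hc, hs]
    ring
  obtain ⟨q₀, hq₀⟩ := (Nat.pow_dvd_pow_iff two_ne_zero).1 ⟨c, hqc⟩
  refine ⟨q₀, ?_, fun x hx => ?_⟩
  · rw [hc]
    refine Nat.eq_of_mul_eq_mul_left (show 0 < (c ^ s) ^ 2 from ?_) (?_ : _ = (c ^ s) ^ 2 * q₀ ^ 2)
    · exact pow_pos (pow_pos (hc ▸ Nat.card_pos) _) _
    · rw [← hqc, hq₀, mul_pow]
  · rw [hq₀, pow_mul]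
    congr 1
    let _ : Fintype F₀ := Fintype.ofFinite F₀
    have := congrArg Subtype.val (FiniteField.pow_card_pow (K := F₀) s ⟨x, hx⟩)
    rw [← Nat.card_eq_fintype_card, hc] at this
    simpa using this

lemma exists_nonfixed : ∃ x ∈ F₀, x ^ q ≠ x := by
  obtain ⟨q₀, hq₀, hσ⟩ := C.exists_q0
  let _ : Fintype F₀ := Fintype.ofFinite F₀
  rw [Nat.card_eq_fintype_card] at hq₀
  by_contra! h
  exact conjHom_ne_id hq₀ (RingHom.ext fun x => Subtype.ext (by
    show ((x ^ q₀ : F₀) : F) = x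
    push_cast
    rw [← hσ _ x.2, h _ x.2]))

lemma exists_delta : ∃ d ∈ F₀, d ≠ 0 ∧ d + d ^ q = 0 := by
  obtain ⟨x, hx, hxq⟩ := C.exists_nonfixed
  refine ⟨x - x ^ q, F₀.sub_mem hx (pow_mem hx q), sub_ne_zero.2 (Ne.symm hxq), ?_⟩
  rw [sub_pow_q C.hF, pow_q_pow_q C.hF]
  ring

lemma exists_trace {c : F} (hc : c ∈ F₀) (hcq : c ^ q = c) : ∃ t ∈ F₀, t + t ^ q = c := by
  obtain ⟨q₀, hq₀, hσ⟩ := C.exists_q0
  let _ : Fintype F₀ := Fintype.ofFinite F₀
  rw [Nat.card_eq_fintype_card] at hq₀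
  obtain ⟨t, ht⟩ := Unitary.exists_trace_eq hq₀ (c := (⟨c, hc⟩ : F₀))
    (Subtype.ext (by push_cast; rw [← hσ c hc, hcq]))
  refine ⟨t, t.2, ?_⟩
  rw [hσ _ t.2]
  simpa using congrArg Subtype.val ht

lemma exists_norm {c : F} (hc : c ∈ F₀) (hcq : c ^ q = c) : ∃ t ∈ F₀, t ^ (q + 1) = c := by
  obtain ⟨q₀, hq₀, hσ⟩ := C.exists_q0
  let _ : Fintype F₀ := Fintype.ofFinite F₀
  rw [Nat.card_eq_fintype_card] at hq₀
  obtain ⟨t, ht⟩ := Unitary.exists_norm_eq hq₀ (c := (⟨c, hc⟩ : F₀))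
    (Subtype.ext (by push_cast; rw [← hσ c hc, hcq]))
  refine ⟨t, t.2, ?_⟩
  rw [pow_succ, hσ _ t.2, ← pow_succ]
  simpa using congrArg Subtype.val ht

/-- A rational isotropic combination of two orthogonal anisotropic rational vectors. -/
lemma iso_of_orth_pair {x y : V} (hx : Rat F₀ x) (hy : Rat F₀ y) (hyx : hh y x = 0)
    (hxx : hh x x ≠ 0) :
    ∃ a ∈ F₀, hh (a • x + y) (a • x + y) = 0 ∧ hh (a • x + y) y = hh y y := by
  have H := hermForm_isHerm C.hF n
  obtain ⟨a, ha, haN⟩ := C.exists_norm (c := -(hh y y / hh x x))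
    (F₀.neg_mem (F₀.div_mem (herm_rat hy hy) (herm_rat hx hx)))
    (by rw [neg_pow_q C.hF, div_pow, H.self_fixed, H.self_fixed])
  have hxy : hh x y = 0 := (H.eq_zero_symm C.hF).1 hyx
  refine ⟨a, ha, ?_, by simp [H.add_left, H.smul_left, hxy]⟩
  simp only [H.add_left, H.add_right C.hF, H.smul_left, H.smul_right, hxy, hyx, mul_zero, add_zero,
    zero_add]
  rw [← mul_assoc, ← pow_succ', haN, neg_mul, div_mul_cancel₀ _ hxx, neg_add_cancel]

/-- A rational isotropic vector killed by `k ≤ n − 2` rational functionals. -/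
lemma exists_rat_iso {k : ℕ} (hk : k + 1 < n) {φ : Fin k → (V →ₗ[F] F)}
    (hφ : ∀ a, RatF F₀ (φ a)) : ∃ v, Rat F₀ v ∧ v ≠ 0 ∧ hh v v = 0 ∧ ∀ a, φ a v = 0 := by
  have H := hermForm_isHerm C.hF n
  obtain ⟨x, hx, hx0, hkx⟩ := exists_rat_kill (by rw [Fintype.card_fin]; omega) hφ
  by_cases hxx : hh x x = 0
  · exact ⟨x, hx, hx0, hxx, hkx⟩
  obtain ⟨y, hy, hy0, hky⟩ := exists_rat_kill (φ := Fin.cons (hlin q x) φ)
    (by rw [Fintype.card_fin]; omega) (fun a => Fin.cases (ratF_hlin hx) hφ a)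
  have hyx : hh y x = 0 := by simpa using hky 0
  have hkφ : ∀ a, φ a y = 0 := fun a => by simpa using hky a.succ
  by_cases hyy : hh y y = 0
  · exact ⟨y, hy, hy0, hyy, hkφ⟩
  obtain ⟨a, ha, hiso, hpair⟩ := C.iso_of_orth_pair hx hy hyx hxx
  refine ⟨a • x + y, (hx.smul ha).add hy, fun h0 => hyy ?_, hiso, fun b => by simp [hkx b, hkφ b]⟩
  rw [← hpair, h0, H.zero_left]

lemma exists_hp {i j : Fin n} (hij : i ≠ j) : ∃ e f, HP F₀ q i j e f := by
  have hF := C.hF
  have H := hermForm_isHerm hF n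
  have hm : (-1 : F) ∈ F₀ := F₀.neg_mem F₀.one_mem
  have hmq : (-1 : F) ^ q = -1 := by rw [neg_pow_q hF, one_pow]
  obtain ⟨ε, hεF, hε⟩ := C.exists_norm hm hmq
  obtain ⟨l, hlF, hl⟩ := C.exists_trace hm hmq
  have hε0 : ε ≠ 0 := fun h => by simp [h] at hε
  have hεe : ε * ε ^ q = -1 := by rw [← pow_succ']; exact hε
  set si : V := Pi.single i 1
  set sj : V := Pi.single j 1
  have B := (single_orthonormal hF n).apply
  have hii : hh si si = 1 := by simp [si, B]
  have hjj : hh sj sj = 1 := by simp [sj, B]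
  have hij' : hh si sj = 0 := by simp [si, sj, B, hij]
  have hji' : hh sj si = 0 := by simp [si, sj, B, hij.symm]
  have hei : hh (si + ε • sj) si = 1 := by simp [H.add_left, H.smul_left, hii, hji']
  have hie : hh si (si + ε • sj) = 1 := by rw [H.conj_symm _ si, hei, one_pow]
  have hee : hh (si + ε • sj) (si + ε • sj) = 0 := by
    simp only [H.add_left, H.add_right hF, H.smul_left, H.smul_right, hii, hjj, hij', hji']
    linear_combination hεe
  generalize he : si + ε • sj = e at hei hie hee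
  refine ⟨e, si + l • e,
    { re := he ▸ ((rat_single i).add ((rat_single j).smul hεF))
      rf := (rat_single i).add ((he ▸ ((rat_single i).add ((rat_single j).smul hεF)) : Rat F₀ e).smul hlF)
      ee := hee
      ff := ?_
      ef := ?_
      fe := ?_
      suppe := fun k h1 h2 => by simp [← he, si, sj, h1, h2]
      suppf := fun k h1 h2 => by simp [← he, si, sj, h1, h2]
      spani := ⟨-l, F₀.neg_mem hlF, 1, F₀.one_mem, ?_⟩
      spanj := ⟨ε⁻¹ * (1 + l), F₀.mul_mem (F₀.inv_mem hεF) (F₀.add_mem F₀.one_mem hlF), -ε⁻¹,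
        F₀.neg_mem (F₀.inv_mem hεF), ?_⟩ }⟩
  · simp only [H.add_left, H.add_right hF, H.smul_left, H.smul_right, hii, hei, hie, hee]
    linear_combination hl
  · simp [H.add_right hF, H.smul_right, hee, hei]
  · simp [H.add_left, H.smul_left, hee, hie]
  · show si = _
    module
  · show sj = _
    rw [← he]
    match_scalars <;> field_simp <;> ring

lemma exists_ne₃ (i j k : Fin n) : ∃ m, m ≠ i ∧ m ≠ j ∧ m ≠ k := by
  by_contra! h
  have h1 : (Finset.univ : Finset (Fin n)) ⊆ {i, j, k} := fun m _ => by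
    by_cases a : m = i
    · simp [a]
    by_cases b : m = j
    · simp [b]
    simp [h m a b]
  have h2 := (Finset.card_le_card h1).trans Finset.card_le_three
  rw [Finset.card_univ, Fintype.card_fin] at h2
  have := C.hn
  omega

/-- Every unit vector off the support is a rational combination of rational isotropic vectors
orthogonal to the pair. -/
lemma exists_span_iso {i j : Fin n} {e f : V} (h : HP F₀ q i j e f) {k : Fin n} (hki : k ≠ i)
    (hkj : k ≠ j) : ∃ y z, ∃ a ∈ F₀, ∃ b ∈ F₀, (Rat F₀ y ∧ hh y y = 0 ∧ hh y e = 0 ∧ hh y f = 0) ∧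
      (Rat F₀ z ∧ hh z z = 0 ∧ hh z e = 0 ∧ hh z f = 0) ∧
      (Pi.single k 1 : V) = a • y + b • z := by
  obtain ⟨m, hmi, hmj, hmk⟩ := C.exists_ne₃ i j k
  obtain ⟨y, z, hyz⟩ := C.exists_hp (Ne.symm hmk)
  obtain ⟨a, ha, b, hb, hab⟩ := hyz.spani
  obtain ⟨h1, h2⟩ := h.orth C.hF (hyz.suppe i hki.symm hmi.symm) (hyz.suppe j hkj.symm hmj.symm)
  obtain ⟨h3, h4⟩ := h.orth C.hF (hyz.suppf i hki.symm hmi.symm) (hyz.suppf j hkj.symm hmj.symm)
  exact ⟨y, z, a, ha, b, hb, ⟨hyz.re, hyz.ee, h1, h2⟩, ⟨hyz.rf, hyz.ff, h3, h4⟩, hab⟩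

end Ctx

/-- Three orthogonal rational hyperbolic pairs and a rational vector of norm one orthogonal to the
first two. -/
structure Frame (F₀ : Subfield F) (q : ℕ) (i j : Fin n) (e f : Fin 3 → Fin n → F)
    (d : Fin n → F) : Prop where
  hp : HP F₀ q i j (e 0) (f 0)
  re : ∀ a, Rat F₀ (e a)
  rf : ∀ a, Rat F₀ (f a)
  ee : ∀ a b, Cfsg.hermForm n F q (e a) (e b) = 0
  ff : ∀ a b, Cfsg.hermForm n F q (f a) (f b) = 0
  ef : ∀ a b, Cfsg.hermForm n F q (e a) (f b) = if a = b then 1 else 0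
  fe : ∀ a b, Cfsg.hermForm n F q (f a) (e b) = if a = b then 1 else 0
  rd : Rat F₀ d
  dd : Cfsg.hermForm n F q d d = 1
  ed : ∀ a, a ≠ 2 → Cfsg.hermForm n F q (e a) d = 0

section FrameLemmas

variable (hF : Fintype.card F = q ^ 2) {i j : Fin n} {e f : Fin 3 → Fin n → F} {d : Fin n → F}
include hF

lemma Frame.e_ne (h : Frame F₀ q i j e f d) (a : Fin 3) : e a ≠ 0 := fun h0 => by
  have := h.ef a a
  rw [if_pos rfl, h0, (hermForm_isHerm hF n).zero_left] at this
  exact zero_ne_one this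

lemma Frame.f_ne (h : Frame F₀ q i j e f d) (a : Fin 3) : f a ≠ 0 := fun h0 => by
  have := h.fe a a
  rw [if_pos rfl, h0, (hermForm_isHerm hF n).zero_left] at this
  exact zero_ne_one this

lemma Frame.pair_ee (h : Frame F₀ q i j e f d) {a b : Fin 3} (hab : a ≠ b) :
    RPair F₀ q (e a) (e b) where
  uu := h.ee a a
  vv := h.ee b b
  uv := h.ee a b
  ru := h.re a
  rv := h.re b
  u0 := h.e_ne hF a
  ind c hc := by
    have := congrArg (fun x => hh x (f b)) hc
    simp [(hermForm_isHerm hF n).smul_left, h.ef, hab] at this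

lemma Frame.pair_ef (h : Frame F₀ q i j e f d) {a b : Fin 3} (hab : a ≠ b) :
    RPair F₀ q (e a) (f b) where
  uu := h.ee a a
  vv := h.ff b b
  uv := by rw [h.ef, if_neg hab]
  ru := h.re a
  rv := h.rf b
  u0 := h.e_ne hF a
  ind c hc := by
    have := congrArg (fun x => hh x (e b)) hc
    simp [(hermForm_isHerm hF n).smul_left, h.ee, h.fe] at this

lemma Frame.pair_fe (h : Frame F₀ q i j e f d) {a b : Fin 3} (hab : a ≠ b) :
    RPair F₀ q (f a) (e b) where
  uu := h.ff a a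
  vv := h.ee b b
  uv := by rw [h.fe, if_neg hab]
  ru := h.rf a
  rv := h.re b
  u0 := h.f_ne hF a
  ind c hc := by
    have := congrArg (fun x => hh x (f b)) hc
    simp [(hermForm_isHerm hF n).smul_left, h.ff, h.ef] at this

end FrameLemmas

namespace Ctx

variable {r : ℕ} (C : Ctx F₀ q n r)
include C

lemma exists_frame : ∃ i j e f d, Frame (n := n) F₀ q i j e f d := by
  have hn := C.hn
  have hF := C.hF
  let A : Fin 3 → Fin n := fun a => ⟨2 * (a : ℕ), by omega⟩
  let B : Fin 3 → Fin n := fun a => ⟨2 * (a : ℕ) + 1, by omega⟩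
  let m : Fin n := A 2
  have hAB : ∀ a, A a ≠ B a := fun a h => by simp [A, B, Fin.ext_iff] at h
  choose e f hp using fun a => C.exists_hp (hAB a)
  have hne : ∀ a b, a ≠ b → (A a ≠ A b ∧ A a ≠ B b) ∧ (B a ≠ A b ∧ B a ≠ B b) := fun a b hab => by
    simp only [A, B, ne_eq, Fin.ext_iff] at *
    omega
  have hm : ∀ a, a ≠ 2 → m ≠ A a ∧ m ≠ B a := fun a ha => (hne 2 a ha.symm).1
  have cross : ∀ a b, a ≠ b → (hh (e a) (e b) = 0 ∧ hh (e a) (f b) = 0) ∧
      (hh (f a) (e b) = 0 ∧ hh (f a) (f b) = 0) := fun a b hab => by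
    have := hne b a hab.symm
    exact ⟨(hp b).orth hF ((hp a).suppe _ this.1.1 this.1.2) ((hp a).suppe _ this.2.1 this.2.2),
      (hp b).orth hF ((hp a).suppf _ this.1.1 this.1.2) ((hp a).suppf _ this.2.1 this.2.2)⟩
  refine ⟨A 0, B 0, e, f, Pi.single m 1,
    { hp := hp 0
      re := fun a => (hp a).re
      rf := fun a => (hp a).rf
      ee := fun a b => ?_
      ff := fun a b => ?_
      ef := fun a b => ?_
      fe := fun a b => ?_
      rd := rat_single m
      dd := by simp [(single_orthonormal hF n).apply]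
      ed := fun a ha => by
        rw [hermForm_single_right hF]; exact (hp a).suppe m (hm a ha).1 (hm a ha).2 }⟩
  all_goals by_cases hab : a = b
  · rw [hab]; exact (hp b).ee
  · exact (cross a b hab).1.1
  · rw [hab]; exact (hp b).ff
  · exact (cross a b hab).2.2
  · rw [if_pos hab, hab]; exact (hp b).ef
  · rw [if_neg hab]; exact (cross a b hab).1.2
  · rw [if_pos hab, hab]; exact (hp b).fe
  · rw [if_neg hab]; exact (cross a b hab).2.1

/-! ### Transitivity of the rational special unitary group -/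

lemma lift {q₀ : ℕ} (hσ : ∀ x ∈ F₀, x ^ q = x ^ q₀) (s : Cfsg.SU n F₀ q₀) :
    ∃ g ∈ Cfsg.Geo.subfieldSubgroup F₀ 1 ⊓ suGL n F q, ∀ y : Fin n → F₀,
      app g (fun k => (y k : F)) = fun k => ((suAct s y k : F₀) : F) := by
  set A : Matrix (Fin n) (Fin n) F₀ := (s : Matrix.SpecialLinearGroup (Fin n) F₀).1
    with hA
  have hcoe : ∀ x y : Fin n → F₀, hh (fun k => (x k : F)) (fun k => (y k : F)) =
      ((Cfsg.hermForm n F₀ q₀ x y : F₀) : F) := fun x y => by
    simp only [Cfsg.hermForm]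
    push_cast
    exact Finset.sum_congr rfl fun k _ => by rw [hσ _ (y k).2]
  have hmv : ∀ y : Fin n → F₀, A.map F₀.subtype *ᵥ (fun k => (y k : F)) =
      fun k => ((A *ᵥ y) k : F) := fun y => funext fun k =>
    (RingHom.map_mulVec F₀.subtype A y k).symm
  have horth : Orthonormal hh (fun a => (A.map F₀.subtype)ᵀ a) := by
    have key : ∀ a, (A.map F₀.subtype)ᵀ a = fun k => ((A *ᵥ Pi.single a 1) k : F) := fun a => by
      funext k; simp
    refine ⟨fun a => ?_, fun a b hab => ?_⟩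
    · simp only [key, hcoe]
      rw [show Cfsg.hermForm n F₀ q₀ (A *ᵥ Pi.single a 1) (A *ᵥ Pi.single a 1) = _ from
        s.2 (Pi.single a 1) (Pi.single a 1), ← hcoe]
      rw [show (fun k => ((Pi.single a (1 : F₀) : Fin n → F₀) k : F)) = Pi.single a 1 from
        funext fun k => by by_cases h : k = a <;> simp [h]]
      simp [(single_orthonormal C.hF n).apply]
    · simp only [key, hcoe]
      rw [show Cfsg.hermForm n F₀ q₀ (A *ᵥ Pi.single a 1) (A *ᵥ Pi.single b 1) = _ from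
        s.2 (Pi.single a 1) (Pi.single b 1), ← hcoe]
      rw [show (fun k => ((Pi.single a (1 : F₀) : Fin n → F₀) k : F)) = Pi.single a 1 from
        funext fun k => by by_cases h : k = a <;> simp [h],
        show (fun k => ((Pi.single b (1 : F₀) : Fin n → F₀) k : F)) = Pi.single b 1 from
        funext fun k => by by_cases h : k = b <;> simp [h]]
      simp [(single_orthonormal C.hF n).apply, hab]
  have hU := (isUnitary_iff_orthonormal C.hF (A.map F₀.subtype)).2 horth
  have hd : (A.map F₀.subtype).det = 1 := by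
    rw [← RingHom.mapMatrix_apply, ← RingHom.map_det,
      show A.det = 1 from (s : Matrix.SpecialLinearGroup (Fin n) F₀).2, map_one]
  let g : GL (Fin n) F := (guOfUnitary C.hF _ hU : Cfsg.GU n F q)
  refine ⟨g, ⟨ratLine_mem_iff.2 ⟨1, one_ne_zero, fun u hu k => ?_⟩,
    (guOfUnitary C.hF _ hU).2, mem_sl_iff.2 hd⟩, fun y => hmv y⟩
  rw [inv_one, one_smul]
  show (A.map F₀.subtype *ᵥ u) k ∈ F₀
  exact F₀.sum_mem (t := Finset.univ) fun m _ => F₀.mul_mem (A k m).2 (hu m)

lemma exists_su_map {u w : V} (hu : Rat F₀ u) (hu0 : u ≠ 0) (huu : hh u u = 0) (hw : Rat F₀ w)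
    (hw0 : w ≠ 0) (hww : hh w w = 0) :
    ∃ g ∈ Cfsg.Geo.subfieldSubgroup F₀ 1 ⊓ suGL n F q, app g u = w := by
  obtain ⟨q₀, hq₀, hσ⟩ := C.exists_q0
  let _ : Fintype F₀ := Fintype.ofFinite F₀
  rw [Nat.card_eq_fintype_card] at hq₀
  let lo : ∀ x : V, Rat F₀ x → (Fin n → F₀) := fun x hx k => ⟨x k, hx k⟩
  have hlo : ∀ (x : V) (hx : Rat F₀ x), hh x x = 0 → Cfsg.hermForm n F₀ q₀ (lo x hx) (lo x hx) = 0 :=
    fun x hx h => Subtype.ext (by
      rw [ZeroMemClass.coe_zero, ← h]
      simp only [Cfsg.hermForm, lo]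
      push_cast
      exact Finset.sum_congr rfl fun k _ => by rw [hσ _ (hx k)])
  obtain ⟨s, hs⟩ := su_transitive_iso (v := lo u hu) (v' := lo w hw) hq₀
    (by have := C.hn; omega)
    (fun h => hu0 (funext fun k => congrArg Subtype.val (congrFun h k))) (hlo u hu huu)
    (fun h => hw0 (funext fun k => congrArg Subtype.val (congrFun h k))) (hlo w hw hww)
  obtain ⟨g, hg, hgy⟩ := C.lift hσ s
  refine ⟨g, hg, ?_⟩
  have := hgy (lo u hu)
  rw [hs] at this
  exact this

lemma exists_su_map_pair {i j : Fin n} {e f : Fin 3 → Fin n → F} {d : V}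
    (hfr : Frame F₀ q i j e f d) {u v : V} (h : RPair F₀ q u v) :
    ∃ g ∈ Cfsg.Geo.subfieldSubgroup F₀ 1 ⊓ suGL n F q, app g u = e 0 ∧ app g v = e 1 := by
  obtain ⟨q₀, hq₀, hσ⟩ := C.exists_q0
  let _ : Fintype F₀ := Fintype.ofFinite F₀
  rw [Nat.card_eq_fintype_card] at hq₀
  let lo : ∀ x : V, Rat F₀ x → (Fin n → F₀) := fun x hx k => ⟨x k, hx k⟩
  have hlo : ∀ (x y : V) (hx : Rat F₀ x) (hy : Rat F₀ y) (c : F₀), hh x y = c →
      Cfsg.hermForm n F₀ q₀ (lo x hx) (lo y hy) = c :=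
    fun x y hx hy c h => Subtype.ext (by
      rw [← h]
      simp only [Cfsg.hermForm, lo]
      push_cast
      exact Finset.sum_congr rfl fun k _ => by rw [hσ _ (hy k)])
  have hind : ∀ (x y : V) (hx : Rat F₀ x) (hy : Rat F₀ y), x ≠ 0 → (∀ c : F, c • x ≠ y) →
      LinearIndependent F₀ ![lo x hx, lo y hy] := fun x y hx hy hx0 hxy =>
    (LinearIndependent.pair_iff' fun h => hx0 (funext fun k =>
      congrArg Subtype.val (congrFun h k))).2 fun c hc => hxy c (funext fun k =>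
      congrArg Subtype.val (congrFun hc k))
  have h01 := hfr.pair_ee C.hF (a := 0) (b := 1) (by decide)
  have hfz : ∀ x y : V, ∀ (hx : Rat F₀ x) (hy : Rat F₀ y), hh x y = 0 →
      Cfsg.hermForm n F₀ q₀ (lo x hx) (lo y hy) = 0 := fun x y hx hy hxy => hlo x y hx hy 0 hxy
  obtain ⟨s, hs⟩ := exists_su_witt hq₀ (hind u v h.ru h.rv h.u0 h.ind)
    (hind _ _ h01.ru h01.rv h01.u0 h01.ind) (fun a b => by
      fin_cases a <;> fin_cases b <;>
        simp [hfz, h.uu, h.vv, h.uv, h.vu C.hF, h01.uu, h01.vv, h01.uv, h01.vu C.hF])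
    (e := lo d hfr.rd) (hlo d d _ _ 1 hfr.dd) (fun a => by
      fin_cases a
      · simpa [hfz] using hfz _ _ (hfr.re 0) hfr.rd (hfr.ed 0 (by decide))
      · simpa [hfz] using hfz _ _ (hfr.re 1) hfr.rd (hfr.ed 1 (by decide)))
  obtain ⟨g, hg, hgy⟩ := C.lift hσ s
  refine ⟨g, hg, ?_, ?_⟩
  · have := hgy (lo u h.ru)
    rw [show suAct s (lo u h.ru) = lo (e 0) (hfr.re 0) from hs 0] at this
    exact this
  · have := hgy (lo v h.rv)
    rw [show suAct s (lo v h.rv) = lo (e 1) (hfr.re 1) from hs 1] at this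
    exact this

end Ctx

end Cfsg.Agent.C5.Uni
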