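import Cfsg.Agent.Lib.C5.UnitaryFourBase
import Cfsg.Agent.Lib.C5.Unitary

/-!
# Subfield subgroups of `SU_4(q)` of odd prime degree are maximal

As `Unitary`, with rational tori in place of a third hyperbolic pair.
-/

set_option autoImplicit false
set_option linter.unusedSectionVars false

namespace Cfsg.Agent.C5.Uni4

open Matrix Cfsg.Agent.Transvect Cfsg.Agent.Unitary Cfsg.Agent.C5
open Cfsg.Agent.C5.Uni (hlin hlin_apply herm_rat ratF_hlin tu sh Iso2 RPair HP tu_apply
  tu_mem_subfield tu_mem_sl sh_mem_sl tu_zero tu_mem_GU tu_mem_suGL tu_smul tu_add tu_pow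
  herm_app_inv tu_conj sh_apply sh_mem_subfield sh_mem_GU sh_mem_suGL sh_conj sh_add sh_zero
  sh_inv sh_pow sh_zpow sh_smul_right sh_smul_left sh_mul_sh sh_comm_eq tu_add_smul eq_tu_of_val
  tu_inv rat_app_of_mem Short WGen)

variable {F : Type*} [Field F] [Fintype F] {q n r : ℕ} {F₀ : Subfield F}

local notation "V" => (Fin n → F)
local notation "hh" => Cfsg.hermForm n F q

variable {M : Subgroup (GL (Fin n) F)}

namespace Ctx

/-- A rational element of norm one that is no sign. -/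
lemma exists_twist (C : Ctx F₀ q n r) : ∃ w ∈ F₀, w ≠ 0 ∧ w ^ q * w = 1 ∧ w ^ q ≠ w := by
  have hF := C.hF
  obtain ⟨x, hx, h1, h2⟩ : ∃ x ∈ F₀, x ^ q ≠ x ∧ x ^ q ≠ -x := by
    obtain ⟨x, hx, hxq⟩ := C.exists_nonfixed
    by_cases hs : x ^ q = -x
    swap
    · exact ⟨x, hx, hxq, hs⟩
    have h2 : (2 : F) ≠ 0 := fun h => hxq (by linear_combination hs - x * h)
    have hx0 : x ≠ 0 := fun h => hxq (by rw [h, zero_pow_q hF])
    refine ⟨x + 1, F₀.add_mem hx F₀.one_mem, fun h => ?_, fun h => ?_⟩ <;>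
      rw [add_pow_q hF, one_pow, hs] at h
    · exact mul_ne_zero h2 hx0 (by linear_combination -h)
    · exact h2 (by linear_combination h)
  have hx0 : x ≠ 0 := fun h => h1 (by rw [h, zero_pow_q hF])
  refine ⟨x ^ q / x, F₀.div_mem (pow_mem hx q) hx, div_ne_zero (pow_ne_zero _ hx0) hx0, ?_, fun h => ?_⟩
  · rw [div_pow, pow_q_pow_q hF]
    field_simp
  · rw [div_pow, pow_q_pow_q hF] at h
    field_simp at h
    have : (x ^ q - x) * (x ^ q + x) = 0 := by linear_combination -h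
    rcases mul_eq_zero.1 this with h' | h'
    · exact h1 (sub_eq_zero.1 h')
    · exact h2 (eq_neg_of_add_eq_zero_left h')

variable (C : Ctx F₀ q n r) (hM : Cfsg.Geo.subfieldSubgroup F₀ 1 ⊓ suGL n F q ≤ M)
include C hM

lemma rat_tu_mem {v : V} (hv : Rat F₀ v) (hvv : hh v v = 0) {c : F} (hc : c ∈ F₀)
    (hcs : c + c ^ q = 0) : tu q v c ∈ M :=
  hM ⟨tu_mem_subfield hvv hv hc, tu_mem_suGL C.hF hvv hcs⟩

lemma rat_sh_mem {u v : V} (h : Iso2 q u v) (hu : Rat F₀ u) (hv : Rat F₀ v) {a : F} (ha : a ∈ F₀) :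
    sh q u v a ∈ M :=
  hM ⟨sh_mem_subfield C.hF h hu hv ha, sh_mem_suGL C.hF h a⟩

/-- Diagonal elements of the frame in `M`. -/
lemma torus_mem {i j : Fin n} {e f : Fin 2 → Fin n → F} (hfr : Frame F₀ q i j e f) {α β : F}
    (hα : α ∈ F₀) (hβ : β ∈ F₀) (hα0 : α ≠ 0) (hβ0 : β ≠ 0) (hfix : (α * β) ^ q = α * β) :
    ∃ g ∈ M, g ∈ Cfsg.GU n F q ∧ app g (e 0) = α • e 0 ∧ app g (e 1) = β • e 1 ∧
      app g (f 0) = (α ^ q)⁻¹ • f 0 := by
  obtain ⟨g, hg, hgd, h0, h1, h2, -⟩ := C.exists_torus hfr hα hβ hα0 hβ0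
  refine ⟨g, hM ⟨hg.1, hg.2, mem_sl_iff.2 ?_⟩, hg.2, h0, h1, h2⟩
  rw [hgd, hfix, mul_inv_cancel₀ (mul_ne_zero hα0 hβ0)]

/-- A short root element gives all rational multiples on every pair. -/
lemma short_transfer {a : F} {u v u' v' : V} (h : RPair F₀ q u v) (h' : RPair F₀ q u' v')
    (hm : sh q u v a ∈ M) : sh q u' v' a ∈ M := by
  obtain ⟨i, j, e, f, hfr⟩ := C.exists_frame
  have p := (hfr.pair_ee C.hF (a := 0) (b := 1) (by decide)).toIso2
  obtain ⟨g, hg, c, hc, hc0, hgu, hgv⟩ := C.exists_su_map_pair hfr h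
  obtain ⟨g', hg', c', hc', -, hgu', hgv'⟩ := C.exists_su_map_pair hfr h'
  have h1 := mul_mem (mul_mem (hM hg) hm) (inv_mem (hM hg))
  rw [sh_conj C.hF hg.2.1 h.toIso2, hgu, hgv, sh_smul_right C.hF p] at h1
  -- all rational multiples
  have all : ∀ k ∈ F₀, sh q (e 0) (e 1) (a * c * k) ∈ M := by
    intro k hk
    obtain ⟨w, hw, hw0, hwn, hwq⟩ := C.exists_twist
    have hwq' : (w ^ q) ^ q = w := pow_q_pow_q C.hF w
    set t := (k - k ^ q) / (w - w ^ q) with ht
    have htq : t ^ q = t := by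
      rw [ht, div_pow, sub_pow_q C.hF, sub_pow_q C.hF, pow_q_pow_q C.hF, hwq', ← neg_div_neg_eq,
        neg_sub, neg_sub]
    have htF : t ∈ F₀ := F₀.div_mem (F₀.sub_mem hk (pow_mem hk q)) (F₀.sub_mem hw (pow_mem hw q))
    have hd : w - w ^ q ≠ 0 := sub_ne_zero.2 (Ne.symm hwq)
    set s := k - t * w with hs
    have hsF : s ∈ F₀ := F₀.sub_mem hk (F₀.mul_mem htF hw)
    have hsq : s ^ q = s := by
      rw [hs, sub_pow_q C.hF, mul_pow, htq]
      have : t * (w - w ^ q) = k - k ^ q := div_mul_cancel₀ _ hd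
      linear_combination this
    have scal : ∀ α ∈ F₀, α ≠ 0 → ∀ u ∈ F₀, u ^ q = u →
        sh q (e 0) (e 1) (a * c * (u * (α ^ q / α))) ∈ M := by
      intro α hα hα0 u hu huq
      rcases eq_or_ne u 0 with rfl | hu0
      · rw [zero_mul, mul_zero, sh_zero C.hF p]; exact one_mem _
      obtain ⟨T, hT, hTU, hT0, hT1, -⟩ := C.torus_mem hM hfr hα (F₀.div_mem hu hα) hα0
        (div_ne_zero hu0 hα0) (by rw [mul_div_cancel₀ _ hα0, huq])
      have h2 := mul_mem (mul_mem hT h1) (inv_mem hT)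
      rw [sh_conj C.hF hTU p, hT0, hT1, sh_smul_left C.hF (p.smul_right C.hF _),
        sh_smul_right C.hF p] at h2
      convert h2 using 2
      ring
    obtain ⟨x, hx, hx0, hxw⟩ : ∃ x ∈ F₀, x ≠ 0 ∧ x ^ q / x = w := by
      by_cases hw1 : (1 : F) + w ^ q = 0
      · obtain ⟨δ, hδ, hδ0, hδs⟩ := C.exists_delta
        refine ⟨δ, hδ, hδ0, ?_⟩
        have hwm : w ^ q = -1 := by linear_combination hw1
        rw [hwm] at hwq'
        rw [neg_pow_q C.hF, one_pow] at hwq'
        rw [← hwq', eq_neg_of_add_eq_zero_right hδs, neg_div, div_self hδ0]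
      · refine ⟨1 + w ^ q, F₀.add_mem F₀.one_mem (pow_mem hw q), hw1, ?_⟩
        rw [div_eq_iff hw1, add_pow_q C.hF, one_pow, hwq']
        linear_combination -hwn
    have h3 := scal 1 F₀.one_mem one_ne_zero s hsF hsq
    have h4 := scal x hx hx0 t htF htq
    rw [one_pow, div_one, mul_one] at h3
    rw [hxw] at h4
    have h5 := mul_mem h3 h4
    rw [sh_add C.hF p] at h5
    convert h5 using 2
    rw [hs]; ring
  have h2 := all (c' / c) (F₀.div_mem hc' hc)
  rw [mul_assoc, mul_div_cancel₀ _ hc0] at h2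
  rw [← sh_smul_right C.hF p, ← hgu', ← hgv', ← sh_conj C.hF hg'.2.1 h'.toIso2] at h2
  have h3 := mul_mem (mul_mem (inv_mem (hM hg')) h2) (hM hg')
  simpa [mul_assoc] using h3

lemma long_transfer {c : F} {u w : V} (hu : Rat F₀ u) (hu0 : u ≠ 0) (huu : hh u u = 0)
    (hw : Rat F₀ w) (hw0 : w ≠ 0) (hww : hh w w = 0) (hm : tu q u c ∈ M) : tu q w c ∈ M := by
  obtain ⟨g, hg, hgu⟩ := C.exists_su_map hu hu0 huu hw hw0 hww
  have hmem := mul_mem (mul_mem (hM hg) hm) (inv_mem (hM hg))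
  rwa [tu_conj C.hF hg.2.1 huu, hgu] at hmem

/-- All short root elements give all long ones at rational isotropic vectors. -/
lemma centre_of_short (hB : ∀ a, Short q F₀ M a) {x : V} (hx : Rat F₀ x) (hxx : hh x x = 0) :
    x ∈ centres q M := by
  refine ⟨hxx, fun g c hc hg => ?_⟩
  rw [eq_tu_of_val C.hF hxx hg]
  by_cases hx0 : x = 0
  · rw [hx0, show tu q (0 : V) c = 1 from gl_ext fun y => by
      rw [tu_apply ((hermForm_isHerm C.hF n).zero_left 0)]; simp]
    exact one_mem _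
  obtain ⟨i, j, e, f, hfr⟩ := C.exists_frame
  refine C.long_transfer hM (hfr.re 0) (hfr.e_ne C.hF 0) (hfr.ee 0 0) hx hx0 hxx ?_
  obtain ⟨t, ht⟩ := Unitary.exists_trace_eq C.hF (one_pow q : (1 : F) ^ q = 1)
  have p1 := hfr.pair_ee C.hF (a := 0) (b := 1) (by decide)
  have p2 := hfr.pair_ef C.hF (a := 0) (b := 1) (by decide)
  have h1 := hB (c * t) _ _ p1
  have h2 := hB 1 _ _ p2
  have h3 := mul_mem h1 h2
  rw [sh_comm_eq C.hF p1.toIso2 p2.toIso2, hfr.ef, hfr.fe, if_pos rfl, one_pow, one_mul, mul_one,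
    mul_one, mul_one] at h3
  have h4 := (Subgroup.mul_mem_cancel_left M (mul_mem h2 h1)).1 h3
  convert h4 using 2
  rw [mul_pow, eq_neg_of_add_eq_zero_right hc]
  linear_combination -c * ht

/-- Eichler elements for all vectors off a rational hyperbolic pair. -/
lemma eichler_all (hB : ∀ a, Short q F₀ M a) {i j : Fin n} {e f : V} (h : HP F₀ q i j e f) {w : V}
    (hwi : w i = 0) (hwj : w j = 0) :
    ∃ g ∈ M, ∃ c : F, ∀ x, app g x = x + hh x e • w - hh x w • e + (c * hh x e) • e := by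
  have H := hermForm_isHerm C.hF n
  let P : V → Prop := fun w => hh w e = 0 ∧
    ∃ g ∈ M, ∃ c : F, ∀ x, app g x = x + hh x e • w - hh x w • e + (c * hh x e) • e
  have hzero : P 0 := ⟨H.zero_left e, 1, one_mem _, 0, fun x => by simp [H.zero_right C.hF]⟩
  have hadd : ∀ a b, P a → P b → P (a + b) := by
    rintro a b ⟨ha, g, hg, c, hgx⟩ ⟨hb, g', hg', c', hgx'⟩
    refine ⟨by rw [H.add_left, ha, hb, add_zero], g * g', mul_mem hg hg', c + c' - hh b a,
      fun x => ?_⟩
    rw [map_mul, LinearEquiv.mul_apply, hgx', hgx]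
    simp only [H.add_left, H.sub_left, H.smul_left, H.add_right C.hF, h.ee, hb,
      (H.eq_zero_symm C.hF).1 ha, mul_zero, add_zero, sub_zero]
    module
  have hgen : ∀ (a : F) (y : V), Rat F₀ y → hh y y = 0 → hh y e = 0 → hh y f = 0 → P (a • y) := by
    intro a y hy hyy hye hyf
    by_cases hy0 : y = 0
    · rw [hy0, smul_zero]; exact hzero
    have hp : RPair F₀ q e y := ⟨⟨h.ee, hyy, (H.eq_zero_symm C.hF).1 hye⟩, h.re, hy, h.e_ne C.hF,
      fun c hc => hy0 (by
        rw [← hc, H.smul_left, h.ef, mul_one] at hyf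
        rw [← hc, hyf, zero_smul])⟩
    refine ⟨by rw [H.smul_left, hye, mul_zero], _, hB a e y hp, 0, fun x => ?_⟩
    rw [sh_apply C.hF hp.toIso2, H.smul_right]
    module
  have hP : P (∑ k, w k • (Pi.single k 1 : V)) := by
    refine Finset.sum_induction _ P hadd hzero fun k _ => ?_
    by_cases hki : k = i
    · rw [hki, hwi, zero_smul]; exact hzero
    by_cases hkj : k = j
    · rw [hkj, hwj, zero_smul]; exact hzero
    obtain ⟨y, z, a, -, b, -, ⟨hy, hy1, hy2, hy3⟩, ⟨hz, hz1, hz2, hz3⟩, hk⟩ :=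
      C.exists_span_iso h hki hkj
    rw [hk, smul_add, smul_smul, smul_smul]
    exact hadd _ _ (hgen _ y hy hy1 hy2 hy3) (hgen _ z hz hz1 hz2 hz3)
  rw [← pi_eq_sum_univ' w] at hP
  exact hP.2

variable (hMK : M ≤ suGL n F q)
include hMK

lemma centre_of_ne (hB : ∀ a, Short q F₀ M a) {i j : Fin n} {e f : V} (h : HP F₀ q i j e f) {x : V}
    (hxx : hh x x = 0) (hne : hh x e ≠ 0) : x ∈ centres q M := by
  have H := hermForm_isHerm C.hF n
  set α := hh x f
  set β := hh x e with hβ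
  obtain ⟨hri, hrj⟩ := h.decomp C.hF x
  set w := -β⁻¹ • (x - α • e - β • f) with hw
  obtain ⟨g, hg, c, hgx⟩ := C.eichler_all hM hB h (w := w)
    (by rw [hw, Pi.smul_apply, hri, smul_zero]) (by rw [hw, Pi.smul_apply, hrj, smul_zero])
  set γ := (α - hh x w + c * β) / β with hγ
  have hgx' : app g x = β • (f + γ • e) := by
    rw [hgx, ← hβ, hγ, hw]
    match_scalars <;> field_simp <;> ring
  have hskew : γ + γ ^ q = 0 := by
    have h1 : hh (app g x) (app g x) = 0 := ((mem_GU_iff g).1 (hMK hg).1 x x).trans hxx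
    simp only [hgx', H.smul_left, H.smul_right, H.add_left, H.add_right C.hF, h.ee, h.ff, h.ef,
      h.fe] at h1
    refine mul_left_cancel₀ (mul_ne_zero hne fun h0 => hne ((pow_q_eq_zero C.hF).1 h0) :
      β * β ^ q ≠ 0) ?_
    linear_combination h1
  have hcf := centres_step C.hF (C.centre_of_short hM hB h.re h.ee) (C.centre_of_short hM hB h.rf h.ff)
    hskew
  rw [h.fe, mul_one] at hcf
  have := centres_conj (inv_mem hg) (hMK (inv_mem hg)) (centres_smul C.hF hcf β)
  rwa [← hgx', ← app_apply, app_inv_app] at this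

lemma suGL_le_of_short (hB : ∀ a, Short q F₀ M a) : suGL n F q ≤ M := by
  have hn := C.hn
  refine le_of_centres C.hF (Or.inl (by omega)) fun x hxx => ?_
  by_cases hx0 : x = 0
  · exact C.centre_of_short hM hB (hx0 ▸ Rat.zero) hxx
  obtain ⟨i, hi⟩ := Function.ne_iff.1 hx0
  obtain ⟨j, hj, -, -⟩ := C.exists_ne₃ i i i
  obtain ⟨e, f, hp⟩ := C.exists_hp hj.symm
  rcases hp.not_zero_both C.hF (x := x) hi with h | h
  · exact C.centre_of_ne hM hMK hB hp hxx h
  · exact C.centre_of_ne hM hMK hB hp.swap hxx h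

variable (hns : ¬ suGL n F q ≤ M)
include hns

lemma short_mem {a : F} (h : Short q F₀ M a) : a ∈ F₀ := by
  by_contra ha
  have H := hermForm_isHerm C.hF n
  have hF := C.hF
  obtain ⟨i, j, e, f, hfr⟩ := C.exists_frame
  have p1 := hfr.pair_ee hF (a := 0) (b := 1) (by decide)
  have p2 := hfr.pair_fe hF (a := 0) (b := 1) (by decide)
  have p3 := hfr.pair_ef hF (a := 0) (b := 1) (by decide)
  have hadd : ∀ x y, Short q F₀ M x → Short q F₀ M y → Short q F₀ M (x + y) :=
    fun x y hx hy u v p => by rw [← sh_add hF p.toIso2]; exact mul_mem (hx u v p) (hy u v p)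
  have hsmul : ∀ x ∈ F₀, ∀ b, Short q F₀ M b → Short q F₀ M (x * b) := by
    intro x hx b hb u v p
    rcases eq_or_ne x 0 with rfl | hx0
    · rw [zero_mul, sh_zero hF p.toIso2]; exact one_mem _
    have p' : RPair F₀ q u (x • v) := ⟨p.toIso2.smul_right hF x, p.ru, p.rv.smul hx, p.u0,
      fun k hk => p.ind (x⁻¹ * k) (by rw [← smul_smul, hk, inv_smul_smul₀ hx0])⟩
    have := hb u _ p'
    rwa [sh_smul_right hF p.toIso2, mul_comm] at this
  have hone : Short q F₀ M 1 := fun u v p => C.rat_sh_mem hM p.toIso2 p.ru p.rv F₀.one_mem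
  -- skew parts multiply short ones
  have hskew : ∀ b, Short q F₀ M b → ∀ c, Short q F₀ M c → Short q F₀ M ((b - b ^ q) * c) := by
    intro b hb c hc
    set k := b - b ^ q with hk
    have hks : k + k ^ q = 0 := by rw [hk, sub_pow_q hF, pow_q_pow_q hF]; ring
    have hl : tu q (e 0) k ∈ M := by
      have h1 := hb _ _ p1
      have h2 := hone _ _ p3
      have h3 := mul_mem h1 h2
      rw [sh_comm_eq hF p1.toIso2 p3.toIso2, hfr.ef, hfr.fe, if_pos rfl, one_pow, one_mul, mul_one,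
        mul_one, mul_one] at h3
      exact (Subgroup.mul_mem_cancel_left M (mul_mem h2 h1)).1 h3
    have hlf := C.long_transfer hM (hfr.re 0) (hfr.e_ne hF 0) (hfr.ee 0 0) (hfr.rf 0)
      (hfr.f_ne hF 0) (hfr.ff 0 0) hl
    set g := tu q (f 0) k with hg
    have hgU : g ∈ Cfsg.GU n F q := tu_mem_GU hF (hfr.ff 0 0) hks
    have h1 := mul_mem (mul_mem hlf (hc _ _ p1)) (inv_mem hlf)
    have hkq : k ^ q = -k := eq_neg_of_add_eq_zero_right hks
    have key : g * sh q (e 0) (e 1) c * g⁻¹ = sh q (e 0) (e 1) c *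
        (sh q (f 0) (e 1) (-(c * k)) * tu q (e 1) (c * c ^ q * k)) := by
      rw [sh_conj hF hgU p1.toIso2]
      refine gl_ext fun x => ?_
      have hi := p1.toIso2.map hF hgU
      rw [sh_apply hF hi]
      simp only [map_mul, LinearEquiv.mul_apply, sh_apply hF p1.toIso2,
        sh_apply hF p2.toIso2, tu_apply (hfr.ee 1 1), hg, tu_apply (hfr.ff 0 0), neg_pow_q hF,
        mul_pow, H.add_left, H.sub_left, H.add_right hF, H.smul_left, H.smul_right, hfr.ee, hfr.ff,
        hfr.ef, hfr.fe, if_pos rfl, if_neg (show (1 : Fin 2) ≠ 0 by decide),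
        if_neg (show (0 : Fin 2) ≠ 1 by decide), one_pow, mul_one, mul_zero, zero_smul, add_zero,
        zero_add, sub_zero, hkq]
      match_scalars <;> simp <;> ring
    rw [key] at h1
    have h2 := (Subgroup.mul_mem_cancel_left M (hc _ _ p1)).1 h1
    obtain ⟨w, hw, hw0, hwn, hwq⟩ := C.exists_twist
    obtain ⟨T, hT, hTU, -, hT1, hTf⟩ := C.torus_mem hM hfr hw (F₀.inv_mem hw) hw0
      (inv_ne_zero hw0) (by rw [mul_inv_cancel₀ hw0, one_pow])
    have h3 := mul_mem (mul_mem (mul_mem hT h2) (inv_mem hT)) (inv_mem h2)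
    rw [show T * (sh q (f 0) (e 1) (-(c * k)) * tu q (e 1) (c * c ^ q * k)) * T⁻¹ =
        T * sh q (f 0) (e 1) (-(c * k)) * T⁻¹ * (T * tu q (e 1) (c * c ^ q * k) * T⁻¹) by group,
      sh_conj hF hTU p2.toIso2, tu_conj hF hTU (hfr.ee 1 1), hTf, hT1,
      sh_smul_left hF (p2.toIso2.smul_right hF _), sh_smul_right hF p2.toIso2,
      tu_smul hF (hfr.ee 1 1),
      show (w⁻¹) ^ (q + 1) = 1 by rw [inv_pow, pow_succ, hwn, inv_one], mul_one, _root_.mul_inv_rev,
      ← mul_assoc, mul_inv_cancel_right, sh_inv hF p2.toIso2, sh_add hF p2.toIso2] at h3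
    set z := 1 - ((w ^ q)⁻¹) ^ q * w⁻¹ with hz
    have hzF : z ∈ F₀ :=
      F₀.sub_mem F₀.one_mem (F₀.mul_mem (pow_mem (F₀.inv_mem (pow_mem hw q)) q) (F₀.inv_mem hw))
    have hz0 : z ≠ 0 := by
      rw [hz, inv_pow, pow_q_pow_q hF]
      intro h
      apply hwq
      field_simp at h
      refine mul_right_cancel₀ hw0 ?_
      rw [hwn]
      linear_combination -h
    have h4 : Short q F₀ M (z * (k * c)) := fun u v p => C.short_transfer hM p2 p (by
      convert h3 using 2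
      rw [hz]; ring)
    have h5 := hsmul z⁻¹ (F₀.inv_mem hzF) _ h4
    rwa [inv_mul_cancel_left₀ hz0] at h5
  let S : Set F := {k | ∀ c, Short q F₀ M c → Short q F₀ M (k * c)}
  by_cases hS : ∀ k ∈ S, k ∈ F₀
  · have hb : ∀ b, Short q F₀ M b → b - b ^ q ∈ F₀ := fun b hb => hS _ (hskew b hb)
    obtain ⟨x, hx, hxq⟩ := C.exists_nonfixed
    have h1 := hb _ (hsmul x hx a h)
    have h2 := F₀.mul_mem (pow_mem hx q) (hb a h)
    have h3 := F₀.sub_mem h1 h2
    rw [mul_pow, show x * a - x ^ q * a ^ q - x ^ q * (a - a ^ q) = (x - x ^ q) * a by ring] at h3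
    have h4 := F₀.mul_mem (F₀.inv_mem (F₀.sub_mem hx (pow_mem hx q))) h3
    rw [inv_mul_cancel_left₀ (sub_ne_zero.2 (Ne.symm hxq))] at h4
    exact ha h4
  · push Not at hS
    obtain ⟨k, hk, hkn⟩ := hS
    have hall := mem_of_closed (S := S) C.hr C.hcard (fun x hx c hc => hsmul x hx c hc)
      (fun x hx y hy c hc => by rw [add_mul]; exact hadd _ _ (hx c hc) (hy c hc))
      (fun x hx y hy c hc => by rw [mul_assoc]; exact hx _ (hy c hc)) hk hkn
    exact hns (C.suGL_le_of_short hM hMK fun b => by simpa using hall b 1 hone)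

lemma long_mem {c : F} (hc : c + c ^ q = 0) {v : V} (hv : Rat F₀ v) (hv0 : v ≠ 0)
    (hvv : hh v v = 0) (h : tu q v c ∈ M) : c ∈ F₀ := by
  have H := hermForm_isHerm C.hF n
  obtain ⟨i, j, e, f, hfr⟩ := C.exists_frame
  have p := hfr.pair_ee C.hF (a := 0) (b := 1) (by decide)
  have hsum := tu_add_smul C.hF p.toIso2 1 hc
  simp only [one_smul, one_pow, mul_one] at hsum
  have h0 : e 1 + e 0 ≠ 0 := fun h0 => p.ind (-1) (by
    rw [neg_one_smul]; exact (eq_neg_of_add_eq_zero_left h0).symm)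
  have h1 := C.long_transfer hM hv hv0 hvv ((hfr.re 1).add (hfr.re 0)) h0
    (by simp [H.add_left, H.add_right C.hF, hfr.ee]) h
  rw [hsum] at h1
  have h2 := (Subgroup.mul_mem_cancel_left M
    (C.long_transfer hM hv hv0 hvv (hfr.re 1) (hfr.e_ne C.hF 1) (hfr.ee 1 1) h)).1 h1
  have h3 := (Subgroup.mul_mem_cancel_right M
    (C.long_transfer hM hv hv0 hvv (hfr.re 0) (hfr.e_ne C.hF 0) (hfr.ee 0 0) h)).1 h2
  exact C.short_mem hM hMK hns fun u w p' => C.short_transfer hM p p' h3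

/-- Removing a long root factor. -/
lemma purify {e v : V} (p : RPair F₀ q e v) {a s : F} (h : sh q e v a * tu q e s ∈ M) : a ∈ F₀ := by
  have hF := C.hF
  obtain ⟨i, j, E, G, hfr⟩ := C.exists_frame
  have p1 := hfr.pair_ee hF (a := 0) (b := 1) (by decide)
  obtain ⟨g0, hg0, c, hc, hc0, hge0, hgv0⟩ := C.exists_su_map_pair hfr p
  have h0 := mul_mem (mul_mem (hM hg0) h) (inv_mem (hM hg0))
  rw [show g0 * (sh q e v a * tu q e s) * g0⁻¹ = g0 * sh q e v a * g0⁻¹ * (g0 * tu q e s * g0⁻¹) by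
    group, sh_conj hF hg0.2.1 p.toIso2, tu_conj hF hg0.2.1 p.uu, hge0, hgv0,
    sh_smul_right hF p1.toIso2] at h0
  obtain ⟨w, hw, hw0, hwn, hwq⟩ := C.exists_twist
  obtain ⟨T, hT, hTU, hT0, hT1, -⟩ := C.torus_mem hM hfr hw (F₀.inv_mem hw) hw0
    (inv_ne_zero hw0) (by rw [mul_inv_cancel₀ hw0, one_pow])
  have h3 := mul_mem (mul_mem (mul_mem hT h0) (inv_mem hT)) (inv_mem h0)
  rw [show T * (sh q (E 0) (E 1) (a * c) * tu q (E 0) s) * T⁻¹ =
      T * sh q (E 0) (E 1) (a * c) * T⁻¹ * (T * tu q (E 0) s * T⁻¹) by group,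
    sh_conj hF hTU p1.toIso2, tu_conj hF hTU (hfr.ee 0 0), hT0, hT1,
    sh_smul_left hF (p1.toIso2.smul_right hF _), sh_smul_right hF p1.toIso2,
    tu_smul hF (hfr.ee 0 0),
    show w ^ (q + 1) = 1 by rw [pow_succ, hwn], mul_one, _root_.mul_inv_rev,
    ← mul_assoc, mul_inv_cancel_right, sh_inv hF p1.toIso2, sh_add hF p1.toIso2] at h3
  set z := c * (w ^ q * w⁻¹ - 1) with hz
  have hzF : z ∈ F₀ :=
    F₀.mul_mem hc (F₀.sub_mem (F₀.mul_mem (pow_mem hw q) (F₀.inv_mem hw)) F₀.one_mem)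
  have hz0 : z ≠ 0 := mul_ne_zero hc0 (sub_ne_zero.2 fun h => hwq (by
    field_simp at h; exact h))
  have h4 := C.short_mem hM hMK hns (a := a * z) fun u w' p' => C.short_transfer hM p1 p' (by
    convert h3 using 2
    rw [hz]; ring)
  have h5 := F₀.mul_mem h4 (F₀.inv_mem hzF)
  rwa [mul_inv_cancel_right₀ hz0] at h5

/-- A short root element at a rational vector has a rational second vector modulo the first. -/
lemma rat_mod_of_sh {e y : V} (he : Rat F₀ e) (he0 : e ≠ 0) (h : Iso2 q e y)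
    (hm : sh q e y 1 ∈ M) : ∃ s : F, Rat F₀ (y - s • e) := by
  have H := hermForm_isHerm C.hF n
  obtain ⟨i, j, E, G, hfr⟩ := C.exists_frame
  obtain ⟨g0, hg0, hge0⟩ := C.exists_su_map he he0 h.uu (hfr.re 0) (hfr.e_ne C.hF 0) (hfr.ee 0 0)
  set z := app g0 y with hz
  have hiso : Iso2 q (E 0) z := hge0 ▸ h.map C.hF hg0.2.1
  have hmem := mul_mem (mul_mem (hM hg0) hm) (inv_mem (hM hg0))
  rw [sh_conj C.hF hg0.2.1 h, hge0, ← hz] at hmem
  suffices key : Rat F₀ (z - hh z (G 0) • E 0) by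
    refine ⟨hh z (G 0), ?_⟩
    have := rat_app_of_mem (inv_mem hg0.1) (hfr.re 0) (hfr.e_ne C.hF 0)
      (by rw [← hge0, app_inv_app]; exact he) key
    rwa [map_sub, map_smul, hz, ← hge0, app_inv_app, app_inv_app] at this
  obtain ⟨δ, hδ, hδ0, hδs⟩ := C.exists_delta
  have hval : ∀ v, Rat F₀ v → hh v v = 0 → hh (E 0) v = 0 → hh z v ∈ F₀ := by
    intro v hv hvv hev
    by_cases hind : ∃ c : F, c • E 0 = v
    · obtain ⟨c, rfl⟩ := hind
      rw [H.smul_right, hiso.vu C.hF, mul_zero]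
      exact F₀.zero_mem
    push Not at hind
    have p : RPair F₀ q (E 0) v := ⟨⟨hfr.ee 0 0, hvv, hev⟩, hfr.re 0, hv, hfr.e_ne C.hF 0, hind⟩
    set a := δ * hh z v with ha
    have hgU := tu_mem_GU C.hF hvv hδs
    have hg := C.rat_tu_mem hM hv hvv hδ hδs
    have hge : app (tu q v δ) (E 0) = E 0 := by rw [tu_apply hvv, hev]; simp
    have hgz : app (tu q v δ) z = z + a • v := by rw [tu_apply hvv]
    have hsum : Iso2 q (E 0) (z + a • v) := by
      have := hiso.map C.hF hgU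
      rwa [hge, hgz] at this
    have hconj := mul_mem (inv_mem hmem) (mul_mem (mul_mem hg hmem) (inv_mem hg))
    rw [sh_conj C.hF hgU hiso, hge, hgz] at hconj
    have key := sh_mul_sh C.hF hiso (p.toIso2.smul_right C.hF a) hsum 1
    rw [eq_mul_inv_of_mul_eq key.symm, ← mul_assoc, ← mul_assoc, inv_mul_cancel, one_mul,
      sh_smul_right C.hF p.toIso2, one_mul, tu_inv C.hF (hfr.ee 0 0)] at hconj
    have := F₀.mul_mem (F₀.inv_mem hδ) (C.purify hM hMK hns p hconj)
    rwa [ha, inv_mul_cancel_left₀ hδ0] at this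
  set w := z - hh z (G 0) • E 0 with hw
  have hwz : z - hh z (G 0) • E 0 - hh z (E 0) • G 0 = w := by
    rw [hiso.vu C.hF, zero_smul, sub_zero]
  obtain ⟨hwi, hwj⟩ := hfr.hp.decomp C.hF z
  rw [hwz] at hwi hwj
  intro k
  by_cases hki : k = i
  · rw [hki, hwi]; exact F₀.zero_mem
  by_cases hkj : k = j
  · rw [hkj, hwj]; exact F₀.zero_mem
  obtain ⟨u, u', a, ha, b, hb, ⟨hu, hu1, hu2, -⟩, ⟨hu', hu1', hu2', -⟩, hk⟩ :=
    C.exists_span_iso hfr.hp hki hkj
  rw [← hermForm_single_right C.hF w k, hk, hw, H.add_right C.hF, H.smul_right, H.smul_right,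
    H.sub_left, H.sub_left, H.smul_left, H.smul_left, (H.eq_zero_symm C.hF).1 hu2,
    (H.eq_zero_symm C.hF).1 hu2', mul_zero, sub_zero, sub_zero]
  exact F₀.add_mem (F₀.mul_mem (pow_mem ha q) (hval u hu hu1 ((H.eq_zero_symm C.hF).1 hu2)))
    (F₀.mul_mem (pow_mem hb q) (hval u' hu' hu1' ((H.eq_zero_symm C.hF).1 hu2')))

/-- An element of `M` mapping a rational isotropic point to one respects the rational isotropic
vectors orthogonal to it. -/
lemma map_perp {g : GL (Fin n) F} (hg : g ∈ M) {e e' : V} (he : Rat F₀ e) (he0 : e ≠ 0)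
    (hee : hh e e = 0) (he' : Rat F₀ e') {c : F} (hge : app g e = c • e') {u : V} (hu : Rat F₀ u)
    (huu : hh u u = 0) (heu : hh e u = 0) : Rat F₀ (c⁻¹ • app g u) := by
  have H := hermForm_isHerm C.hF n
  have hgU := (hMK hg).1
  have hne : app g e ≠ 0 := fun h => he0 ((app g).map_eq_zero_iff.1 h)
  have hc : c ≠ 0 := fun h => hne (by rw [hge, h, zero_smul])
  have he'0 : e' ≠ 0 := fun h => hne (by rw [hge, h, smul_zero])
  by_cases hind : ∃ k : F, k • e = u
  · obtain ⟨k, rfl⟩ := hind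
    rw [map_smul, hge, smul_comm, inv_smul_smul₀ hc]
    exact he'.smul (mem_of_smul_rat he he0 hu)
  push Not at hind
  have p : RPair F₀ q e u := ⟨⟨hee, huu, heu⟩, he, hu, he0, hind⟩
  have him : Iso2 q e' (app g u) := by
    have := (p.toIso2.map C.hF hgU).smul_left C.hF c⁻¹
    rwa [hge, inv_smul_smul₀ hc] at this
  obtain ⟨δ, hδ, hδ0, hδs⟩ := C.exists_delta
  have hNq : (c ^ (q + 1)) ^ q = c ^ (q + 1) := pow_q_succ_fixed C.hF c
  have hN : c ^ (q + 1) ∈ F₀ := by
    have h1 := mul_mem (mul_mem hg (C.rat_tu_mem hM he hee hδ hδs)) (inv_mem hg)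
    rw [tu_conj C.hF hgU hee, hge, tu_smul C.hF him.uu] at h1
    have h2 := C.long_mem hM hMK hns (by rw [mul_pow, hNq]; linear_combination c ^ (q + 1) * hδs)
      he' he'0 him.uu h1
    have := F₀.mul_mem (F₀.inv_mem hδ) h2
    rwa [inv_mul_cancel_left₀ hδ0] at this
  set y := c ^ q • app g u with hy
  have hey : Iso2 q e' y := him.smul_right C.hF _
  have hsh : sh q e' y 1 ∈ M := by
    have h1 := mul_mem (mul_mem hg (C.rat_sh_mem hM p.toIso2 he hu F₀.one_mem)) (inv_mem hg)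
    rw [sh_conj C.hF hgU p.toIso2, hge, sh_smul_left C.hF him, one_mul] at h1
    rwa [hy, sh_smul_right C.hF him, one_mul]
  obtain ⟨s, hs⟩ := C.rat_mod_of_sh hM hMK hns he' he'0 hey hsh
  set y0 := y - s • e' with hy0
  have hy0e : Iso2 q e' y0 := ⟨hey.uu, by
      simp [hy0, H.sub_left, H.sub_right C.hF, H.smul_left, H.smul_right, hey.uu, hey.vv, hey.uv,
        hey.vu C.hF],
    by simp [hy0, H.sub_right C.hF, H.smul_right, hey.uu, hey.uv]⟩
  have hcq : c ^ q ≠ 0 := pow_ne_zero _ hc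
  have p' : RPair F₀ q e' y0 := ⟨hy0e, he', hs, he'0, fun k hk => by
    have h1 : y = (k + s) • e' := by rw [add_smul, hk, hy0, sub_add_cancel]
    refine hind ((k + s) / (c * c ^ q)) ((app g).injective ?_)
    rw [map_smul, hge, ← smul_right_inj hcq, ← hy, h1, smul_smul, smul_smul]
    congr 1
    field_simp⟩
  set c₀ := δ * (c ^ (q + 1))⁻¹ with hc₀
  have hc₀s : c₀ + c₀ ^ q = 0 := by
    rw [hc₀, mul_pow, inv_pow, hNq]
    linear_combination (c ^ (q + 1))⁻¹ * hδs
  have hc₀0 : c₀ ≠ 0 := mul_ne_zero hδ0 (inv_ne_zero (pow_ne_zero _ hc))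
  have hst : tu q (y0 + s • e') c₀ ∈ M := by
    have h1 := mul_mem (mul_mem hg (C.rat_tu_mem hM hu huu hδ hδs)) (inv_mem hg)
    rw [tu_conj C.hF hgU huu] at h1
    rw [hy0, sub_add_cancel, hy, tu_smul C.hF him.vv]
    convert h1 using 2
    rw [hc₀, ← pow_mul, mul_comm q, pow_mul, hNq, inv_mul_cancel_right₀ (pow_ne_zero _ hc)]
  rw [tu_add_smul C.hF hy0e _ hc₀s] at hst
  have h2 := (Subgroup.mul_mem_cancel_left M
    (C.rat_tu_mem hM hs hy0e.vv (F₀.mul_mem hδ (F₀.inv_mem hN)) hc₀s)).1 hst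
  have h3 := F₀.mul_mem (F₀.inv_mem (F₀.mul_mem hδ (F₀.inv_mem hN)))
    (C.purify hM hMK hns p' h2)
  rw [← hc₀, inv_mul_cancel_left₀ hc₀0] at h3
  have hsF : s ∈ F₀ := by simpa [pow_q_pow_q C.hF] using pow_mem h3 q
  have hyr : Rat F₀ y := by simpa [hy0] using hs.add (he'.smul hsF)
  have := hyr.smul (F₀.inv_mem hN)
  rwa [hy, smul_smul, pow_succ, mul_inv, mul_right_comm, inv_mul_cancel₀ hcq, one_mul] at this

lemma mem_of_map_rat {g : GL (Fin n) F} (hg : g ∈ M) {e : V} (he : Rat F₀ e) (he0 : e ≠ 0)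
    (hee : hh e e = 0) (h : RatLine F₀ (app g e)) : g ∈ Cfsg.Geo.subfieldSubgroup F₀ 1 := by
  have H := hermForm_isHerm C.hF n
  obtain ⟨i, j, E, G, hfr⟩ := C.exists_frame
  obtain ⟨g0, hg0, hge0⟩ := C.exists_su_map he he0 hee (hfr.re 0) (hfr.e_ne C.hF 0) (hfr.ee 0 0)
  obtain ⟨c, e', he', hge⟩ := h
  set g' := g * g0⁻¹ with hg'
  have hg'M : g' ∈ M := mul_mem hg (inv_mem (hM hg0))
  have hge' : app g' (E 0) = c • e' := by
    rw [hg', map_mul, LinearEquiv.mul_apply, ← hge0, app_inv_app, hge]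
  suffices g' ∈ Cfsg.Geo.subfieldSubgroup F₀ 1 by
    have := mul_mem this hg0.1
    rwa [hg', inv_mul_cancel_right] at this
  have hc : c ≠ 0 := fun h0 => he0 ((app g).map_eq_zero_iff.1 (by rw [hge, h0, zero_smul]))
  have hperp := fun v hv hvv hev => C.map_perp hM hMK hns hg'M (hfr.re 0) (hfr.e_ne C.hF 0)
    (hfr.ee 0 0) he' hge' (u := v) hv hvv hev
  have hE1 := hperp (E 1) (hfr.re 1) (hfr.ee 1 1) (hfr.ee 0 1)
  have hG0 : Rat F₀ (c⁻¹ • app g' (G 0)) := C.map_perp hM hMK hns hg'M (hfr.re 1)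
    (hfr.e_ne C.hF 1) (hfr.ee 1 1) hE1 (c := c) (by rw [smul_inv_smul₀ hc]) (hfr.rf 0)
    (hfr.ff 0 0) (by rw [hfr.ef]; simp)
  have hE0 : Rat F₀ (c⁻¹ • app g' (E 0)) := by rwa [hge', inv_smul_smul₀ hc]
  have comb : ∀ {a b : F} {y z : V}, a ∈ F₀ → b ∈ F₀ → Rat F₀ (c⁻¹ • app g' y) →
      Rat F₀ (c⁻¹ • app g' z) → Rat F₀ (c⁻¹ • app g' (a • y + b • z)) := by
    intro a b y z ha hb hy hz
    rw [map_add, map_smul, map_smul, smul_add, smul_comm c⁻¹ a, smul_comm c⁻¹ b]
    exact (hy.smul ha).add (hz.smul hb)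
  have hs : ∀ k, Rat F₀ (c⁻¹ • app g' (Pi.single k 1)) := by
    intro k
    by_cases hki : k = i
    · obtain ⟨a, ha, b, hb, hk⟩ := hfr.hp.spani
      rw [hki, hk]; exact comb ha hb hE0 hG0
    by_cases hkj : k = j
    · obtain ⟨a, ha, b, hb, hk⟩ := hfr.hp.spanj
      rw [hkj, hk]; exact comb ha hb hE0 hG0
    obtain ⟨y, z, a, ha, b, hb, ⟨hy, hy1, hy2, -⟩, ⟨hz, hz1, hz2, -⟩, hk⟩ :=
      C.exists_span_iso hfr.hp hki hkj
    rw [hk]
    exact comb ha hb (hperp y hy hy1 ((H.eq_zero_symm C.hF).1 hy2))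
      (hperp z hz hz1 ((H.eq_zero_symm C.hF).1 hz2))
  refine ratLine_mem_iff.2 ⟨c, hc, fun u hu => ?_⟩
  rw [pi_eq_sum_univ' u, map_sum, Finset.smul_sum]
  refine Finset.sum_induction _ (Rat F₀) (fun a b => Rat.add) Rat.zero fun k _ => ?_
  rw [map_smul, smul_comm]
  exact (hs k).smul (hu k)

lemma ratLine_or_wgen {g : GL (Fin n) F} (hg : g ∈ M) {e : V} (he : Rat F₀ e) (he0 : e ≠ 0)
    (hee : hh e e = 0) : RatLine F₀ (app g e) ∨ WGen q F₀ (app g e) := by
  refine or_iff_not_imp_right.2 fun hgen => ?_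
  have H := hermForm_isHerm C.hF n
  set w := app g e with hw
  obtain ⟨v, hv, hvv, hwv, hv0⟩ : ∃ v, Rat F₀ v ∧ hh v v = 0 ∧ hh w v = 0 ∧ v ≠ 0 := by
    simpa [WGen] using hgen
  have hgU := (hMK hg).1
  have hww : hh w w = 0 := ((mem_GU_iff g).1 hgU e e).trans hee
  obtain ⟨δ, hδ, hδ0, hδs⟩ := C.exists_delta
  have hst : tu q w δ ∈ M := by
    have h1 := mul_mem (mul_mem hg (C.rat_tu_mem hM he hee hδ hδs)) (inv_mem hg)
    rwa [tu_conj C.hF hgU hee] at h1
  have hfix : app (tu q w δ) v = v := by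
    rw [tu_apply hww, (H.eq_zero_symm C.hF).1 hwv]; simp
  have hsub := C.mem_of_map_rat hM hMK hns hst hv hv0 hvv ⟨1, v, hv, by rw [hfix, one_smul]⟩
  have hw0 : w ≠ 0 := fun h => he0 ((app g).map_eq_zero_iff.1 h)
  obtain ⟨i, hi⟩ := Function.ne_iff.1 hw0
  have h2 := (rat_app_of_mem hsub hv hv0 (by rw [hfix]; exact hv) (rat_single i)).sub
    (rat_single (F₀ := F₀) i)
  rw [tu_apply hww, add_sub_cancel_left] at h2
  refine RatLine.of_smul (mul_ne_zero hδ0 ?_) ⟨1, _, h2, (one_smul _ _).symm⟩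
  rw [hermForm_single_left]
  exact fun h => hi ((pow_q_eq_zero C.hF).1 h)

omit hns in
/-- An overgroup of the subfield group with a further element is the special unitary group. -/
theorem suGL_le_of_not_mem {g : GL (Fin n) F} (hg : g ∈ M)
    (hgn : g ∉ Cfsg.Geo.subfieldSubgroup F₀ 1) : suGL n F q ≤ M := by
  by_contra hns
  have H := hermForm_isHerm C.hF n
  have hn := C.hn
  have hF := C.hF
  obtain ⟨i, j, E, G, hfr⟩ := C.exists_frame
  have p01 := hfr.pair_ee hF (a := 0) (b := 1) (by decide)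
  set e := E 0 with hedef
  set u0 := E 1 with hu0def
  set w := app g e with hwdef
  have he0 : e ≠ 0 := p01.u0
  have hw : WGen q F₀ w := (C.ratLine_or_wgen hM hMK hns hg p01.ru he0 p01.uu).resolve_left
    fun h => hgn (C.mem_of_map_rat hM hMK hns hg p01.ru he0 p01.uu h)
  have hww : hh w w = 0 := ((mem_GU_iff g).1 (hMK hg).1 e e).trans p01.uu
  have hw0 : w ≠ 0 := fun h => he0 ((app g).map_eq_zero_iff.1 h)
  have hew : hh e w ≠ 0 := fun h => he0 (hw e p01.ru p01.uu ((H.eq_zero_symm hF).1 h))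
  set μ := hh u0 w / hh e w with hμdef
  set z := u0 - μ • e with hz
  have hzw : hh z w = 0 := by
    rw [hz, H.sub_left, H.smul_left, hμdef, div_mul_cancel₀ _ hew, sub_self]
  have hze : hh z e = 0 := by simp [hz, H.sub_left, H.smul_left, p01.uu, p01.vu hF]
  have hzu : hh z u0 = 0 := by simp [hz, H.sub_left, H.smul_left, p01.vv, p01.uv]
  have hzz : hh z z = 0 := by
    conv_lhs => arg 5; rw [hz]
    rw [H.sub_right hF, H.smul_right, hze, hzu]; ring
  have hμ : μ ∉ F₀ := fun h => p01.ind μ (by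
    have := hw z (p01.rv.sub (p01.ru.smul h)) hzz ((H.eq_zero_symm hF).1 hzw)
    exact (sub_eq_zero.1 this).symm)
  set U := Submodule.span F ({e, u0, w} : Set V) with hU
  have heU : e ∈ U := Submodule.subset_span (by simp)
  have hu0U : u0 ∈ U := Submodule.subset_span (by simp)
  have hwU : w ∈ U := Submodule.subset_span (by simp)
  have hzU : ∀ y ∈ U, hh z y = 0 := fun y hy => by
    obtain ⟨a, b, c, rfl⟩ := Submodule.mem_span_triple.1 hy
    simp [H.add_right hF, H.smul_right, hze, hzu, hzw]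
  have hratU : ∀ v ∈ U, Rat F₀ v → ∃ a ∈ F₀, ∃ b ∈ F₀, v = a • e + b • u0 := by
    intro v hv hvr
    obtain ⟨a, b, c, rfl⟩ := Submodule.mem_span_triple.1 hv
    have hc : c = 0 := by
      by_contra hc
      set X := a • e + b • u0 + c • w with hX
      have hiso : ∀ (s t : F), hh (s • e + t • u0) (s • e + t • u0) = 0 ∧
          hh (s • e + t • u0) e = 0 ∧ hh (s • e + t • u0) u0 = 0 := fun s t => by
        simp [H.add_left, H.add_right hF, H.smul_left, H.smul_right, p01.uu, p01.vv, p01.uv, p01.vu hF]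
      obtain ⟨s, t, hs, ht, hst, hk⟩ : ∃ s t : F, s ∈ F₀ ∧ t ∈ F₀ ∧ s • e + t • u0 ≠ 0 ∧
          hh (s • e + t • u0) X = 0 := by
        by_cases hX1 : hh u0 X = 0
        · exact ⟨0, 1, F₀.zero_mem, F₀.one_mem, by simpa using fun h => p01.ind 0 (by simp [h]),
            by simp [H.add_left, H.smul_left, hX1]⟩
        refine ⟨hh u0 X, -hh e X, herm_rat p01.rv hvr, F₀.neg_mem (herm_rat p01.ru hvr), fun h => ?_,
          by simp only [H.add_left, H.smul_left]; ring⟩
        by_cases hX0 : hh e X = 0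
        · rw [hX0, neg_zero, zero_smul, add_zero, smul_eq_zero] at h
          exact h.elim hX1 he0
        · refine p01.ind (hh u0 X / hh e X) ?_
          rw [div_eq_inv_mul, ← smul_smul, inv_smul_eq_iff₀ hX0]
          rw [neg_smul, add_neg_eq_zero] at h
          exact h
      obtain ⟨hyy, hye, hyu⟩ := hiso s t
      refine hst (hw _ ((p01.ru.smul hs).add (p01.rv.smul ht)) hyy ((H.eq_zero_symm hF).1 ?_))
      rw [hX, H.add_right hF, H.add_right hF, H.smul_right, H.smul_right, H.smul_right, hye, hyu,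
        mul_zero, mul_zero, zero_add, zero_add, mul_eq_zero] at hk
      exact hk.resolve_left fun h0 => hc ((pow_q_eq_zero hF).1 h0)
    subst hc
    rw [zero_smul, add_zero] at hvr ⊢
    refine ⟨a, ?_, b, ?_, rfl⟩
    · simpa [H.add_left, H.smul_left, hedef, hu0def, hfr.ef] using herm_rat (q := q) hvr (hfr.rf 0)
    · simpa [H.add_left, H.smul_left, hedef, hu0def, hfr.ef] using herm_rat (q := q) hvr (hfr.rf 1)
  let T : Subgroup (GL (Fin n) F) :=
    { carrier := {k | app k z = z}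
      one_mem' := by simp
      mul_mem' := fun {a b} ha hb => by
        show app (a * b) z = z
        rw [map_mul, LinearEquiv.mul_apply, hb, ha]
      inv_mem' := fun {a} ha => by
        show app a⁻¹ z = z
        conv_lhs => rw [← (show app a z = z from ha)]
        rw [app_inv_app] }
  let S := (M ⊓ Cfsg.Geo.subspaceStabilizer U) ⊓ T
  obtain ⟨δ, hδ, hδ0, hδs⟩ := C.exists_delta
  have hstabT : ∀ v ∈ U, hh v v = 0 → tu q v δ ∈ M → tu q v δ ∈ S := fun v hv hvv h =>
    ⟨⟨h, mem_stab_of_le fun x hx => by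
      rw [tu_apply hvv]; exact U.add_mem hx (U.smul_mem _ hv)⟩,
      show app (tu q v δ) z = z by rw [tu_apply hvv, hzU v hv]; simp⟩
  obtain ⟨p, hp⟩ := CharP.exists F
  have hpp : p.Prime :=
    (CharP.char_is_prime_or_zero F p).resolve_right (CharP.char_ne_zero_of_finite F p)
  have hr3 : 3 ≤ r := by
    have := C.hr.two_le
    obtain ⟨k, hk⟩ := C.hro
    omega
  refine false_of_two_point S he0 ?_ ?_ hpp (x := tu q e δ) (y := sh q e u0 1)
    (hstabT e heU p01.uu (C.rat_tu_mem hM p01.ru p01.uu hδ hδs))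
    ⟨⟨C.rat_sh_mem hM p01.toIso2 p01.ru p01.rv F₀.one_mem, mem_stab_of_le fun x hx => by
      rw [sh_apply hF p01.toIso2]
      exact U.sub_mem (U.add_mem hx (U.smul_mem _ hu0U)) (U.smul_mem _ heU)⟩,
      show app (sh q e u0 1) z = z by rw [sh_apply hF p01.toIso2, hze, hzu]; simp⟩
    (by rw [tu_apply p01.uu, p01.uu]; simp)
    (by rw [sh_apply hF p01.toIso2, p01.uu, p01.uv]; simp)
    (by rw [tu_pow hF p01.uu, CharP.cast_eq_zero, zero_mul, tu_zero p01.uu])
    (by rw [sh_pow hF p01.toIso2, CharP.cast_eq_zero, zero_mul, sh_zero hF p01.toIso2]) ?_ ?_ ?_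
  · refine ⟨tu q w δ, hstabT w hwU hww ?_, fun h => ?_⟩
    · have h1 := mul_mem (mul_mem hg (C.rat_tu_mem hM p01.ru p01.uu hδ hδs)) (inv_mem hg)
      rwa [tu_conj hF (hMK hg).1 p01.uu] at h1
    · rw [tu_apply hww] at h
      have h1 := (Submodule.add_mem_iff_right _ (Submodule.mem_span_singleton_self e)).1 h
      obtain ⟨c, hc⟩ := Submodule.mem_span_singleton.1
        (((F ∙ e).smul_mem_iff (mul_ne_zero hδ0 hew)).1 h1)
      exact hew (by rw [← hc, H.smul_right, p01.uu, mul_zero])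
  · intro s hs k hk2 hse a b hka hkb
    have hsi : app s z = z := hs.2
    have hgen : WGen q F₀ (app s e) := by
      refine (C.ratLine_or_wgen hM hMK hns hs.1.1 p01.ru he0 p01.uu).resolve_left fun hrl => ?_
      obtain ⟨l, hl, hlr⟩ := ratLine_mem_iff.1
        (C.mem_of_map_rat hM hMK hns hs.1.1 p01.ru he0 p01.uu hrl)
      obtain ⟨a1, ha1, b1, hb1, hv⟩ :=
        hratU _ (U.smul_mem _ ((mem_stab_iff.1 hs.1.2) e heU)) (hlr e p01.ru)
      obtain ⟨c1, hc1, d1, hd1, hv'⟩ :=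
        hratU _ (U.smul_mem _ ((mem_stab_iff.1 hs.1.2) u0 hu0U)) (hlr u0 p01.rv)
      have hz' : l⁻¹ • z = (c1 - μ * a1) • e + (d1 - μ * b1) • u0 := by
        conv_lhs => rw [← hsi, hz, map_sub, map_smul, smul_sub, smul_comm, hv, hv']
        module
      have eα := congrArg (fun x => hh x (G 0)) hz'
      have eβ := congrArg (fun x => hh x (G 1)) hz'
      simp [hz, H.add_left, H.sub_left, H.smul_left, hedef, hu0def, hfr.ef] at eα eβ
      obtain ⟨-, -, hb⟩ := quad_zero C.hr hr3 C.hcard hμ hc1 (F₀.sub_mem hd1 ha1)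
        (F₀.neg_mem hb1) (by linear_combination (-1 : F) * eα - μ * eβ)
      refine hse (Submodule.mem_span_singleton.2 ⟨l * a1, ?_⟩)
      rw [neg_eq_zero.1 hb, zero_smul, add_zero] at hv
      rw [← smul_smul, ← hv, smul_smul, mul_inv_cancel₀ hl, one_smul]
    have hksub := C.mem_of_map_rat hM hMK hns hk2.1.1 p01.ru he0 p01.uu ⟨a, e, p01.ru, hka⟩
    obtain ⟨l, hl, hlr⟩ := ratLine_mem_iff.1 hksub
    have hku : app k u0 = u0 + (μ * (a - 1)) • e := by
      have h1 : app k z = z := hk2.2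
      rw [hz, map_sub, map_smul, hka, sub_eq_iff_eq_add] at h1
      rw [h1]; module
    have hl1 : l⁻¹ ∈ F₀ := by
      have h1 := herm_rat (q := q) (hlr u0 p01.rv) (hfr.rf 1)
      rw [H.smul_left, hku, H.add_left, H.smul_left, hedef, hu0def, hfr.ef, hfr.ef] at h1
      simpa using h1
    have hrat : ∀ u, Rat F₀ u → Rat F₀ (app k u) := fun u hu => by
      have := (hlr u hu).smul (F₀.inv_mem hl1)
      rwa [smul_smul, inv_mul_cancel₀ (inv_ne_zero hl), one_smul] at this
    have haF : a ∈ F₀ := mem_of_smul_rat p01.ru he0 (hka ▸ hrat e p01.ru)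
    have ha1 : a = 1 := by
      have h1 : μ * (a - 1) ∈ F₀ := by
        have h1 := herm_rat (q := q) (hrat u0 p01.rv) (hfr.rf 0)
        rw [hku, H.add_left, H.smul_left, hedef, hu0def, hfr.ef, hfr.ef] at h1
        simpa using h1
      by_contra h0
      refine hμ ?_
      have := F₀.mul_mem h1 (F₀.inv_mem (F₀.sub_mem haF F₀.one_mem))
      rwa [mul_inv_cancel_right₀ (sub_ne_zero.2 h0)] at this
    subst ha1
    rw [one_smul] at hka
    have hkU := (hMK hk2.1.1).1
    set x' := app s e with hx'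
    have hb1 : b = 1 := by
      have h1 := (mem_GU_iff k).1 hkU e x'
      rw [← app_apply, ← app_apply, hka, hkb, H.smul_right] at h1
      have h2 : hh e x' ≠ 0 := fun h => he0 (hgen e p01.ru p01.uu ((H.eq_zero_symm hF).1 h))
      have h3 : b ^ q = 1 := mul_right_cancel₀ h2 (by rw [h1, one_mul])
      rw [← pow_q_pow_q hF b, h3, one_pow]
    subst hb1
    rw [one_smul] at hkb
    -- the inverse moves every rational vector along one rational anisotropic line
    set K : Matrix (Fin n) (Fin n) F := ((k⁻¹ : GL (Fin n) F) : Matrix (Fin n) (Fin n) F)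
    let D : Fin n → V := fun m => app k⁻¹ (Pi.single m 1) - Pi.single m 1
    have hksub' : ∀ u, Rat F₀ u → Rat F₀ (app k⁻¹ u) := fun u hu =>
      rat_app_of_mem (inv_mem hksub) p01.ru he0
        (by conv_rhs => rw [← hka]
            rw [app_inv_app]; exact p01.ru) hu
    have hD : ∀ m, Rat F₀ (D m) ∧ hh (D m) x' = 0 := fun m =>
      ⟨(hksub' _ (rat_single m)).sub (rat_single m), by
        rw [H.sub_left, herm_app_inv hF hkU, hkb, sub_self]⟩
    have hk1 : k⁻¹ = 1 := by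
      by_cases hall : ∀ m, D m = 0
      · refine gl_ext fun x => ?_
        rw [pi_eq_sum_univ' x, map_sum, map_sum]
        exact Finset.sum_congr rfl fun m _ => by
          rw [map_smul, map_smul, sub_eq_zero.1 (hall m), map_one]; rfl
      push Not at hall
      obtain ⟨m₀, hm₀⟩ := hall
      set v := D m₀
      have hvv : hh v v ≠ 0 := fun h =>
        hm₀ (hgen v (hD m₀).1 h ((H.eq_zero_symm hF).1 (hD m₀).2))
      have hcol : ∀ m, ∃ c : F, D m = c • v := by
        intro m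
        set c := hh (D m) v / hh v v with hc
        refine ⟨c, sub_eq_zero.1 ?_⟩
        set y := D m - c • v with hy
        have hcF : c ∈ F₀ := F₀.div_mem (herm_rat (hD m).1 (hD m₀).1)
          (herm_rat (hD m₀).1 (hD m₀).1)
        have hyr : Rat F₀ y := (hD m).1.sub ((hD m₀).1.smul hcF)
        have hyx : hh y x' = 0 := by rw [hy, H.sub_left, H.smul_left, (hD m).2, (hD m₀).2]; ring
        by_contra hy0
        have hyv : hh y v = 0 := by
          rw [hy, H.sub_left, H.smul_left, hc, div_mul_cancel₀ _ hvv, sub_self]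
        have hyy : hh y y ≠ 0 := fun h => hy0 (hgen y hyr h ((H.eq_zero_symm hF).1 hyx))
        obtain ⟨t, ht, hiso, hpair⟩ := C.iso_of_orth_pair (hD m₀).1 hyr hyv hvv
        have h0 := hgen _ (((hD m₀).1.smul ht).add hyr) hiso ((H.eq_zero_symm hF).1 (by
          rw [H.add_left, H.smul_left, (hD m₀).2, hyx]; ring))
        exact hyy (by rw [← hpair, h0, H.zero_left])
      choose c hc using hcol
      have hK : K = 1 + Matrix.vecMulVec v c := Matrix.ext_of_mulVec_single fun m => by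
        show app k⁻¹ (Pi.single m 1) = _
        rw [← sub_add_cancel (app k⁻¹ (Pi.single m 1)) (Pi.single m 1),
          show app k⁻¹ (Pi.single m 1) - Pi.single m 1 = c m • v from hc m, Matrix.add_mulVec,
          Matrix.one_mulVec, Matrix.vecMulVec_mulVec, op_smul_eq_smul]
        simp [add_comm]
      have hKx : ∀ x, app k⁻¹ x = x + (c ⬝ᵥ x) • v := fun x => by
        rw [app_apply]
        show K *ᵥ x = _
        rw [hK, Matrix.add_mulVec, Matrix.one_mulVec, Matrix.vecMulVec_mulVec, op_smul_eq_smul]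
      have hdet : K.det = 1 := mem_sl_iff.1 (inv_mem (hMK hk2.1.1).2)
      rw [hK, Matrix.vecMulVec_eq Unit, Matrix.det_one_add_replicateCol_mul_replicateRow,
        add_eq_left] at hdet
      have hcz : ∀ x, c ⬝ᵥ x = 0 := fun x => by
        have h1 : hh (app k⁻¹ x) (app k⁻¹ v) = hh x v :=
          (mem_GU_iff k⁻¹).1 (inv_mem hkU) x v
        rw [hKx, hKx, hdet, zero_smul, add_zero, H.add_left, H.smul_left, add_eq_left] at h1
        exact (mul_eq_zero.1 h1).resolve_right hvv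
      exact gl_ext fun x => by rw [hKx, hcz, zero_smul, add_zero, map_one]; rfl
    intro x
    rw [inv_eq_one.1 hk1, map_one]; simp
  · refine gl_ext fun x => ?_
    rw [map_mul, map_mul, LinearEquiv.mul_apply, LinearEquiv.mul_apply, tu_apply p01.uu,
      tu_apply p01.uu, sh_apply hF p01.toIso2, sh_apply hF p01.toIso2]
    simp only [H.add_left, H.sub_left, H.smul_left, p01.uu, p01.uv, p01.vu hF, mul_zero, add_zero,
      sub_zero]
    module
  · intro h
    have h1 := sh_apply hF p01.toIso2 1 (G 0)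
    rw [h, map_one] at h1
    have h2 := congrArg (fun x => hh x (G 1)) h1
    simp [H.add_left, H.sub_left, H.smul_left, hedef, hu0def, hfr.ef, hfr.ff, hfr.fe] at h2
  · intro k h
    rw [sh_zpow hF p01.toIso2] at h
    have h1 := tu_apply p01.uu δ (G 0)
    rw [h, sh_apply hF p01.toIso2] at h1
    have h2 := congrArg (fun x => hh x (G 1)) h1
    have h3 := congrArg (fun x => hh x (G 0)) h1
    simp [H.add_left, H.sub_left, H.smul_left, hedef, hu0def, hfr.ef, hfr.ff, hfr.fe] at h2 h3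
    first | exact hδ0 h3 | exact hδ0 h3.symm

end Ctx

end Cfsg.Agent.C5.Uni4
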