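import Cfsg.Agent.Lib.C5.UnitaryBase

/-!
# Rational unitary geometry for the subfield subgroups of `SU_4(q)`

As `UnitaryBase`, with two hyperbolic pairs: rational orthogonal isotropic pairs are conjugate up to
a scalar on the second vector.
-/

set_option autoImplicit false
set_option linter.unusedSectionVars false

namespace Cfsg.Agent.C5.Uni4

open Matrix Cfsg.Agent.Transvect Cfsg.Agent.Unitary Cfsg.Agent.C5
open Cfsg.Agent.C5.Uni (hlin hlin_apply herm_rat ratF_hlin tu sh Iso2 RPair HP tu_apply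
  tu_mem_subfield tu_mem_sl sh_mem_sl tu_zero tu_mem_GU tu_mem_suGL tu_smul tu_add tu_pow
  herm_app_inv tu_conj sh_apply sh_mem_subfield sh_mem_GU sh_mem_suGL sh_conj sh_add sh_zero
  sh_inv sh_pow sh_zpow sh_smul_right sh_smul_left sh_mul_sh sh_comm_eq tu_add_smul eq_tu_of_val)

variable {F : Type*} [Field F] [Fintype F] {q n : ℕ} {F₀ : Subfield F}

local notation "V" => (Fin n → F)
local notation "hh" => Cfsg.hermForm n F q

/-- The standing hypotheses. -/
structure Ctx (F₀ : Subfield F) (q n r : ℕ) : Prop where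
  hF : Fintype.card F = q ^ 2
  hr : r.Prime
  hro : Odd r
  hcard : Fintype.card F = Nat.card F₀ ^ r
  hn : n = 4

namespace Ctx

variable {r : ℕ} (C : Ctx F₀ q n r)
include C

/-- The conjugation restricted to `F₀` is the one of `F₀` as a quadratic extension. -/
lemma exists_q0 : ∃ q₀, Nat.card F₀ = q₀ ^ 2 ∧ ∀ x ∈ F₀, x ^ q = x ^ q₀ := by
  obtain ⟨s, hs⟩ := C.hro
  obtain ⟨c, hc⟩ : ∃ c, Nat.card F₀ = c := ⟨_, rfl⟩
  have hqc : q ^ 2 = (c ^ s) ^ 2 * c := by
    rw [← C.hF, C.hcard, hc, hs]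
    ring
  obtain ⟨q₀, hq₀⟩ := (Nat.pow_dvd_pow_iff two_ne_zero).1 ⟨c, hqc⟩
  refine ⟨q₀, ?_, fun x hx => ?_⟩
  · rw [hc]
    refine Nat.eq_of_mul_eq_mul_left (show 0 < (c ^ s) ^ 2 from ?_) (?_ : _ = (c ^ s) ^ 2 * q₀ ^ 2)
    · exact pow_pos (pow_pos (hc ▸ Nat.card_pos) _) _
    · rw [← hqc, hq₀, mul_pow]
  · rw [hq₀, pow_mul]
    congr 1
    let _ : Fintype F₀ := Fintype.ofFinite F₀
    have := congrArg Subtype.val (FiniteField.pow_card_pow (K := F₀) s ⟨x, hx⟩)
    rw [← Nat.card_eq_fintype_card, hc] at this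
    simpa using this

lemma exists_nonfixed : ∃ x ∈ F₀, x ^ q ≠ x := by
  obtain ⟨q₀, hq₀, hσ⟩ := C.exists_q0
  let _ : Fintype F₀ := Fintype.ofFinite F₀
  rw [Nat.card_eq_fintype_card] at hq₀
  by_contra! h
  exact conjHom_ne_id hq₀ (RingHom.ext fun x => Subtype.ext (by
    show ((x ^ q₀ : F₀) : F) = x
    push_cast
    rw [← hσ _ x.2, h _ x.2]))

lemma exists_delta : ∃ d ∈ F₀, d ≠ 0 ∧ d + d ^ q = 0 := by
  obtain ⟨x, hx, hxq⟩ := C.exists_nonfixed
  refine ⟨x - x ^ q, F₀.sub_mem hx (pow_mem hx q), sub_ne_zero.2 (Ne.symm hxq), ?_⟩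
  rw [sub_pow_q C.hF, pow_q_pow_q C.hF]
  ring

lemma exists_trace {c : F} (hc : c ∈ F₀) (hcq : c ^ q = c) : ∃ t ∈ F₀, t + t ^ q = c := by
  obtain ⟨q₀, hq₀, hσ⟩ := C.exists_q0
  let _ : Fintype F₀ := Fintype.ofFinite F₀
  rw [Nat.card_eq_fintype_card] at hq₀
  obtain ⟨t, ht⟩ := Unitary.exists_trace_eq hq₀ (c := (⟨c, hc⟩ : F₀))
    (Subtype.ext (by push_cast; rw [← hσ c hc, hcq]))
  refine ⟨t, t.2, ?_⟩
  rw [hσ _ t.2]
  simpa using congrArg Subtype.val ht

lemma exists_norm {c : F} (hc : c ∈ F₀) (hcq : c ^ q = c) : ∃ t ∈ F₀, t ^ (q + 1) = c := by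
  obtain ⟨q₀, hq₀, hσ⟩ := C.exists_q0
  let _ : Fintype F₀ := Fintype.ofFinite F₀
  rw [Nat.card_eq_fintype_card] at hq₀
  obtain ⟨t, ht⟩ := Unitary.exists_norm_eq hq₀ (c := (⟨c, hc⟩ : F₀))
    (Subtype.ext (by push_cast; rw [← hσ c hc, hcq]))
  refine ⟨t, t.2, ?_⟩
  rw [pow_succ, hσ _ t.2, ← pow_succ]
  simpa using congrArg Subtype.val ht

/-- A rational isotropic combination of two orthogonal anisotropic rational vectors. -/
lemma iso_of_orth_pair {x y : V} (hx : Rat F₀ x) (hy : Rat F₀ y) (hyx : hh y x = 0)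
    (hxx : hh x x ≠ 0) :
    ∃ a ∈ F₀, hh (a • x + y) (a • x + y) = 0 ∧ hh (a • x + y) y = hh y y := by
  have H := hermForm_isHerm C.hF n
  obtain ⟨a, ha, haN⟩ := C.exists_norm (c := -(hh y y / hh x x))
    (F₀.neg_mem (F₀.div_mem (herm_rat hy hy) (herm_rat hx hx)))
    (by rw [neg_pow_q C.hF, div_pow, H.self_fixed, H.self_fixed])
  have hxy : hh x y = 0 := (H.eq_zero_symm C.hF).1 hyx
  refine ⟨a, ha, ?_, by simp [H.add_left, H.smul_left, hxy]⟩
  simp only [H.add_left, H.add_right C.hF, H.smul_left, H.smul_right, hxy, hyx, mul_zero, add_zero,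
    zero_add]
  rw [← mul_assoc, ← pow_succ', haN, neg_mul, div_mul_cancel₀ _ hxx, neg_add_cancel]

lemma exists_hp {i j : Fin n} (hij : i ≠ j) : ∃ e f, HP F₀ q i j e f := by
  have hF := C.hF
  have H := hermForm_isHerm hF n
  have hm : (-1 : F) ∈ F₀ := F₀.neg_mem F₀.one_mem
  have hmq : (-1 : F) ^ q = -1 := by rw [neg_pow_q hF, one_pow]
  obtain ⟨ε, hεF, hε⟩ := C.exists_norm hm hmq
  obtain ⟨l, hlF, hl⟩ := C.exists_trace hm hmq
  have hε0 : ε ≠ 0 := fun h => by simp [h] at hε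
  have hεe : ε * ε ^ q = -1 := by rw [← pow_succ']; exact hε
  set si : V := Pi.single i 1
  set sj : V := Pi.single j 1
  have B := (single_orthonormal hF n).apply
  have hii : hh si si = 1 := by simp [si, B]
  have hjj : hh sj sj = 1 := by simp [sj, B]
  have hij' : hh si sj = 0 := by simp [si, sj, B, hij]
  have hji' : hh sj si = 0 := by simp [si, sj, B, hij.symm]
  have hei : hh (si + ε • sj) si = 1 := by simp [H.add_left, H.smul_left, hii, hji']
  have hie : hh si (si + ε • sj) = 1 := by rw [H.conj_symm _ si, hei, one_pow]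
  have hee : hh (si + ε • sj) (si + ε • sj) = 0 := by
    simp only [H.add_left, H.add_right hF, H.smul_left, H.smul_right, hii, hjj, hij', hji']
    linear_combination hεe
  generalize he : si + ε • sj = e at hei hie hee
  refine ⟨e, si + l • e,
    { re := he ▸ ((rat_single i).add ((rat_single j).smul hεF))
      rf := (rat_single i).add ((he ▸ ((rat_single i).add ((rat_single j).smul hεF)) : Rat F₀ e).smul hlF)
      ee := hee
      ff := ?_
      ef := ?_
      fe := ?_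
      suppe := fun k h1 h2 => by simp [← he, si, sj, h1, h2]
      suppf := fun k h1 h2 => by simp [← he, si, sj, h1, h2]
      spani := ⟨-l, F₀.neg_mem hlF, 1, F₀.one_mem, ?_⟩
      spanj := ⟨ε⁻¹ * (1 + l), F₀.mul_mem (F₀.inv_mem hεF) (F₀.add_mem F₀.one_mem hlF), -ε⁻¹,
        F₀.neg_mem (F₀.inv_mem hεF), ?_⟩ }⟩
  · simp only [H.add_left, H.add_right hF, H.smul_left, H.smul_right, hii, hei, hie, hee]
    linear_combination hl
  · simp [H.add_right hF, H.smul_right, hee, hei]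
  · simp [H.add_left, H.smul_left, hee, hie]
  · show si = _
    module
  · show sj = _
    rw [← he]
    match_scalars <;> field_simp <;> ring

lemma exists_ne₃ (i j k : Fin n) : ∃ m, m ≠ i ∧ m ≠ j ∧ m ≠ k := by
  by_contra! h
  have h1 : (Finset.univ : Finset (Fin n)) ⊆ {i, j, k} := fun m _ => by
    by_cases a : m = i
    · simp [a]
    by_cases b : m = j
    · simp [b]
    simp [h m a b]
  have h2 := (Finset.card_le_card h1).trans Finset.card_le_three
  rw [Finset.card_univ, Fintype.card_fin] at h2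
  have := C.hn
  omega

/-- Every unit vector off the support is a rational combination of rational isotropic vectors
orthogonal to the pair. -/
lemma exists_span_iso {i j : Fin n} {e f : V} (h : HP F₀ q i j e f) {k : Fin n} (hki : k ≠ i)
    (hkj : k ≠ j) : ∃ y z, ∃ a ∈ F₀, ∃ b ∈ F₀, (Rat F₀ y ∧ hh y y = 0 ∧ hh y e = 0 ∧ hh y f = 0) ∧
      (Rat F₀ z ∧ hh z z = 0 ∧ hh z e = 0 ∧ hh z f = 0) ∧
      (Pi.single k 1 : V) = a • y + b • z := by
  obtain ⟨m, hmi, hmj, hmk⟩ := C.exists_ne₃ i j k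
  obtain ⟨y, z, hyz⟩ := C.exists_hp (Ne.symm hmk)
  obtain ⟨a, ha, b, hb, hab⟩ := hyz.spani
  obtain ⟨h1, h2⟩ := h.orth C.hF (hyz.suppe i hki.symm hmi.symm) (hyz.suppe j hkj.symm hmj.symm)
  obtain ⟨h3, h4⟩ := h.orth C.hF (hyz.suppf i hki.symm hmi.symm) (hyz.suppf j hkj.symm hmj.symm)
  exact ⟨y, z, a, ha, b, hb, ⟨hyz.re, hyz.ee, h1, h2⟩, ⟨hyz.rf, hyz.ff, h3, h4⟩, hab⟩

end Ctx

/-- Two orthogonal rational hyperbolic pairs. -/
structure Frame (F₀ : Subfield F) (q : ℕ) (i j : Fin n) (e f : Fin 2 → Fin n → F) :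
    Prop where
  hp : HP F₀ q i j (e 0) (f 0)
  re : ∀ a, Rat F₀ (e a)
  rf : ∀ a, Rat F₀ (f a)
  ee : ∀ a b, Cfsg.hermForm n F q (e a) (e b) = 0
  ff : ∀ a b, Cfsg.hermForm n F q (f a) (f b) = 0
  ef : ∀ a b, Cfsg.hermForm n F q (e a) (f b) = if a = b then 1 else 0
  fe : ∀ a b, Cfsg.hermForm n F q (f a) (e b) = if a = b then 1 else 0

section FrameLemmas

variable (hF : Fintype.card F = q ^ 2) {i j : Fin n} {e f : Fin 2 → Fin n → F}
include hF

lemma Frame.e_ne (h : Frame F₀ q i j e f) (a : Fin 2) : e a ≠ 0 := fun h0 => by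
  have := h.ef a a
  rw [if_pos rfl, h0, (hermForm_isHerm hF n).zero_left] at this
  exact zero_ne_one this

lemma Frame.f_ne (h : Frame F₀ q i j e f) (a : Fin 2) : f a ≠ 0 := fun h0 => by
  have := h.fe a a
  rw [if_pos rfl, h0, (hermForm_isHerm hF n).zero_left] at this
  exact zero_ne_one this

lemma Frame.pair_ee (h : Frame F₀ q i j e f) {a b : Fin 2} (hab : a ≠ b) :
    RPair F₀ q (e a) (e b) where
  uu := h.ee a a
  vv := h.ee b b
  uv := h.ee a b
  ru := h.re a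
  rv := h.re b
  u0 := h.e_ne hF a
  ind c hc := by
    have := congrArg (fun x => hh x (f b)) hc
    simp [(hermForm_isHerm hF n).smul_left, h.ef, hab] at this

lemma Frame.pair_ef (h : Frame F₀ q i j e f) {a b : Fin 2} (hab : a ≠ b) :
    RPair F₀ q (e a) (f b) where
  uu := h.ee a a
  vv := h.ff b b
  uv := by rw [h.ef, if_neg hab]
  ru := h.re a
  rv := h.rf b
  u0 := h.e_ne hF a
  ind c hc := by
    have := congrArg (fun x => hh x (e b)) hc
    simp [(hermForm_isHerm hF n).smul_left, h.ee, h.fe] at this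

lemma Frame.pair_fe (h : Frame F₀ q i j e f) {a b : Fin 2} (hab : a ≠ b) :
    RPair F₀ q (f a) (e b) where
  uu := h.ff a a
  vv := h.ee b b
  uv := by rw [h.fe, if_neg hab]
  ru := h.rf a
  rv := h.re b
  u0 := h.f_ne hF a
  ind c hc := by
    have := congrArg (fun x => hh x (f b)) hc
    simp [(hermForm_isHerm hF n).smul_left, h.ff, h.ef] at this

end FrameLemmas

namespace Ctx

variable {r : ℕ} (C : Ctx F₀ q n r)
include C

lemma exists_frame : ∃ i j e f, Frame (n := n) F₀ q i j e f := by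
  have hn := C.hn
  have hF := C.hF
  let A : Fin 2 → Fin n := fun a => ⟨2 * (a : ℕ), by omega⟩
  let B : Fin 2 → Fin n := fun a => ⟨2 * (a : ℕ) + 1, by omega⟩
  have hAB : ∀ a, A a ≠ B a := fun a h => by simp [A, B, Fin.ext_iff] at h
  choose e f hp using fun a => C.exists_hp (hAB a)
  have hne : ∀ a b, a ≠ b → (A a ≠ A b ∧ A a ≠ B b) ∧ (B a ≠ A b ∧ B a ≠ B b) := fun a b hab => by
    simp only [A, B, ne_eq, Fin.ext_iff] at *
    omega
  have cross : ∀ a b, a ≠ b → (hh (e a) (e b) = 0 ∧ hh (e a) (f b) = 0) ∧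
      (hh (f a) (e b) = 0 ∧ hh (f a) (f b) = 0) := fun a b hab => by
    have := hne b a hab.symm
    exact ⟨(hp b).orth hF ((hp a).suppe _ this.1.1 this.1.2) ((hp a).suppe _ this.2.1 this.2.2),
      (hp b).orth hF ((hp a).suppf _ this.1.1 this.1.2) ((hp a).suppf _ this.2.1 this.2.2)⟩
  refine ⟨A 0, B 0, e, f,
    { hp := hp 0
      re := fun a => (hp a).re
      rf := fun a => (hp a).rf
      ee := fun a b => ?_
      ff := fun a b => ?_
      ef := fun a b => ?_
      fe := fun a b => ?_ }⟩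
  all_goals by_cases hab : a = b
  · rw [hab]; exact (hp b).ee
  · exact (cross a b hab).1.1
  · rw [hab]; exact (hp b).ff
  · exact (cross a b hab).2.2
  · rw [if_pos hab, hab]; exact (hp b).ef
  · rw [if_neg hab]; exact (cross a b hab).1.2
  · rw [if_pos hab, hab]; exact (hp b).fe
  · rw [if_neg hab]; exact (cross a b hab).2.1

/-! ### Transitivity of the rational unitary group -/

lemma lift {q₀ : ℕ} (hσ : ∀ x ∈ F₀, x ^ q = x ^ q₀) (s : Cfsg.GU n F₀ q₀) :
    ∃ g ∈ Cfsg.Geo.subfieldSubgroup F₀ 1 ⊓ Cfsg.GU n F q,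
      (g : Matrix (Fin n) (Fin n) F).det =
        (((s : Matrix.GeneralLinearGroup (Fin n) F₀) : Matrix (Fin n) (Fin n) F₀).det : F) ∧
      ∀ y : Fin n → F₀, app g (fun k => (y k : F)) =
        fun k => (((((s : Matrix.GeneralLinearGroup (Fin n) F₀) : Matrix (Fin n) (Fin n) F₀) *ᵥ y) k : F₀) : F) := by
  set A : Matrix (Fin n) (Fin n) F₀ :=
    ((s : Matrix.GeneralLinearGroup (Fin n) F₀) : Matrix (Fin n) (Fin n) F₀) with hA
  have hcoe : ∀ x y : Fin n → F₀, hh (fun k => (x k : F)) (fun k => (y k : F)) =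
      ((Cfsg.hermForm n F₀ q₀ x y : F₀) : F) := fun x y => by
    simp only [Cfsg.hermForm]
    push_cast
    exact Finset.sum_congr rfl fun k _ => by rw [hσ _ (y k).2]
  have hmv : ∀ y : Fin n → F₀, A.map F₀.subtype *ᵥ (fun k => (y k : F)) =
      fun k => ((A *ᵥ y) k : F) := fun y => funext fun k =>
    (RingHom.map_mulVec F₀.subtype A y k).symm
  have horth : Orthonormal hh (fun a => (A.map F₀.subtype)ᵀ a) := by
    have key : ∀ a, (A.map F₀.subtype)ᵀ a = fun k => ((A *ᵥ Pi.single a 1) k : F) := fun a => by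
      funext k; simp
    refine ⟨fun a => ?_, fun a b hab => ?_⟩
    · simp only [key, hcoe]
      rw [show Cfsg.hermForm n F₀ q₀ (A *ᵥ Pi.single a 1) (A *ᵥ Pi.single a 1) = _ from
        s.2 (Pi.single a 1) (Pi.single a 1), ← hcoe]
      rw [show (fun k => ((Pi.single a (1 : F₀) : Fin n → F₀) k : F)) = Pi.single a 1 from
        funext fun k => by by_cases h : k = a <;> simp [h]]
      simp [(single_orthonormal C.hF n).apply]
    · simp only [key, hcoe]
      rw [show Cfsg.hermForm n F₀ q₀ (A *ᵥ Pi.single a 1) (A *ᵥ Pi.single b 1) = _ from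
        s.2 (Pi.single a 1) (Pi.single b 1), ← hcoe]
      rw [show (fun k => ((Pi.single a (1 : F₀) : Fin n → F₀) k : F)) = Pi.single a 1 from
        funext fun k => by by_cases h : k = a <;> simp [h],
        show (fun k => ((Pi.single b (1 : F₀) : Fin n → F₀) k : F)) = Pi.single b 1 from
        funext fun k => by by_cases h : k = b <;> simp [h]]
      simp [(single_orthonormal C.hF n).apply, hab]
  have hU := (isUnitary_iff_orthonormal C.hF (A.map F₀.subtype)).2 horth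
  let g : GL (Fin n) F := (guOfUnitary C.hF _ hU : Cfsg.GU n F q)
  refine ⟨g, ⟨ratLine_mem_iff.2 ⟨1, one_ne_zero, fun u hu k => ?_⟩,
    (guOfUnitary C.hF _ hU).2⟩, ?_, fun y => hmv y⟩
  · rw [inv_one, one_smul]
    show (A.map F₀.subtype *ᵥ u) k ∈ F₀
    exact F₀.sum_mem (t := Finset.univ) fun m _ => F₀.mul_mem (A k m).2 (hu m)
  · show (A.map F₀.subtype).det = _
    rw [← RingHom.mapMatrix_apply, ← RingHom.map_det]; rfl

lemma exists_su_map {u w : V} (hu : Rat F₀ u) (hu0 : u ≠ 0) (huu : hh u u = 0) (hw : Rat F₀ w)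
    (hw0 : w ≠ 0) (hww : hh w w = 0) :
    ∃ g ∈ Cfsg.Geo.subfieldSubgroup F₀ 1 ⊓ suGL n F q, app g u = w := by
  obtain ⟨q₀, hq₀, hσ⟩ := C.exists_q0
  let _ : Fintype F₀ := Fintype.ofFinite F₀
  rw [Nat.card_eq_fintype_card] at hq₀
  let lo : ∀ x : V, Rat F₀ x → (Fin n → F₀) := fun x hx k => ⟨x k, hx k⟩
  have hlo : ∀ (x : V) (hx : Rat F₀ x), hh x x = 0 → Cfsg.hermForm n F₀ q₀ (lo x hx) (lo x hx) = 0 :=
    fun x hx h => Subtype.ext (by
      rw [ZeroMemClass.coe_zero, ← h]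
      simp only [Cfsg.hermForm, lo]
      push_cast
      exact Finset.sum_congr rfl fun k _ => by rw [hσ _ (hx k)])
  obtain ⟨s, hs⟩ := su_transitive_iso (v := lo u hu) (v' := lo w hw) hq₀
    (by have := C.hn; omega)
    (fun h => hu0 (funext fun k => congrArg Subtype.val (congrFun h k))) (hlo u hu huu)
    (fun h => hw0 (funext fun k => congrArg Subtype.val (congrFun h k))) (hlo w hw hww)
  obtain ⟨g, hg, hgd, hgy⟩ := C.lift hσ (suToGU n F₀ q₀ s)
  refine ⟨g, ⟨hg.1, hg.2, mem_sl_iff.2 (hgd.trans ?_)⟩, ?_⟩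
  · rw [show (((suToGU n F₀ q₀ s : Cfsg.GU n F₀ q₀) : Matrix.GeneralLinearGroup (Fin n) F₀) :
      Matrix (Fin n) (Fin n) F₀).det = 1 from (s : Matrix.SpecialLinearGroup (Fin n) F₀).2]
    rfl
  have := hgy (lo u hu)
  rw [show (((suToGU n F₀ q₀ s : Cfsg.GU n F₀ q₀) : Matrix.GeneralLinearGroup (Fin n) F₀) :
      Matrix (Fin n) (Fin n) F₀) *ᵥ lo u hu = lo w hw from hs] at this
  exact this

/-- A scalar with prescribed ratio to its conjugate. -/
lemma exists_ratio {D : F} (hD : D ∈ F₀) (hD1 : D ^ (q + 1) = 1) :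
    ∃ β ∈ F₀, β ≠ 0 ∧ D * β = β ^ q := by
  have hD0 : D ≠ 0 := fun h => by simp [h] at hD1
  rw [pow_succ] at hD1
  have gen : ∀ y ∈ F₀, y + D⁻¹ * y ^ q ≠ 0 → ∃ β ∈ F₀, β ≠ 0 ∧ D * β = β ^ q := fun y hy h0 =>
    ⟨_, F₀.add_mem hy (F₀.mul_mem (F₀.inv_mem hD) (pow_mem hy q)), h0, by
      rw [add_pow_q C.hF, mul_pow, pow_q_pow_q C.hF, inv_pow]
      have : (D ^ q)⁻¹ = D := inv_eq_of_mul_eq_one_right hD1
      rw [this, mul_add, mul_inv_cancel_left₀ hD0, add_comm]⟩
  by_cases h : (1 : F) + D⁻¹ * 1 ^ q = 0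
  swap
  · exact gen 1 F₀.one_mem h
  obtain ⟨x, hx, hxq⟩ := C.exists_nonfixed
  refine gen x hx fun h0 => hxq ?_
  rw [one_pow, mul_one] at h
  linear_combination -h0 + x ^ q * h

/-- Rational diagonal elements of the frame. -/
lemma exists_torus {i j : Fin n} {e f : Fin 2 → Fin n → F} (hfr : Frame F₀ q i j e f) {α β : F}
    (hα : α ∈ F₀) (hβ : β ∈ F₀) (hα0 : α ≠ 0) (hβ0 : β ≠ 0) :
    ∃ g ∈ Cfsg.Geo.subfieldSubgroup F₀ 1 ⊓ Cfsg.GU n F q,
      (g : Matrix (Fin n) (Fin n) F).det = α * β * ((α * β) ^ q)⁻¹ ∧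
      app g (e 0) = α • e 0 ∧ app g (e 1) = β • e 1 ∧ app g (f 0) = (α ^ q)⁻¹ • f 0 ∧
      app g (f 1) = (β ^ q)⁻¹ • f 1 := by
  have hF := C.hF
  obtain ⟨rfl⟩ : Nonempty (n = 4) := ⟨C.hn⟩
  have H := hermForm_isHerm hF 4
  let B : Fin 4 → Fin 4 → F := ![e 0, e 1, f 0, f 1]
  let l : Fin 4 → F := ![α, β, (α ^ q)⁻¹, (β ^ q)⁻¹]
  have hl0 : ∀ k, l k ≠ 0 := by intro k; fin_cases k <;> simp [l, hα0, hβ0]
  have hlF : ∀ k, l k ∈ F₀ := by
    intro k
    fin_cases k <;> simp [l, hα, hβ, F₀.inv_mem, pow_mem]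
  have hli : LinearIndependent F B := by
    rw [Fintype.linearIndependent_iff]
    intro c hc
    simp only [B, Fin.sum_univ_four, Matrix.cons_val] at hc
    have e1 := congrArg (fun v => Cfsg.hermForm 4 F q v (f 0)) hc
    have e2 := congrArg (fun v => Cfsg.hermForm 4 F q v (f 1)) hc
    have e3 := congrArg (fun v => Cfsg.hermForm 4 F q v (e 0)) hc
    have e4 := congrArg (fun v => Cfsg.hermForm 4 F q v (e 1)) hc
    simp [H.add_left, H.smul_left, H.zero_left, hfr.ee, hfr.ff, hfr.ef, hfr.fe] at e1 e2 e3 e4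
    intro k
    fin_cases k <;> assumption
  obtain ⟨g, hg⟩ := exists_gu_witt hF hli (w := fun k => l k • B k)
    (hli.units_smul (fun k => Units.mk0 (l k) (hl0 k))) (fun a b => by
      rw [H.smul_left, H.smul_right]
      fin_cases a <;> fin_cases b <;>
        simp [l, B, hfr.ee, hfr.ff, hfr.ef, hfr.fe, pow_q_pow_q hF, hα0, hβ0])
  have hg' : ∀ k, app (g : GL (Fin 4) F) (B k) = l k • B k := hg
  have hBr : ∀ k, Rat F₀ (B k) := by
    intro k; fin_cases k <;> simp [B, hfr.re, hfr.rf]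
  have hcard : Fintype.card (Fin 4) = Module.finrank F (Fin 4 → F) := by simp
  let bs := basisOfLinearIndependentOfCardEqFinrank hli hcard
  have hbs : ⇑bs = B := coe_basisOfLinearIndependentOfCardEqFinrank hli hcard
  refine ⟨g, ⟨ratLine_mem_iff.2 ⟨1, one_ne_zero, fun u hu => ?_⟩, g.2⟩, ?_,
    hg' 0, hg' 1, hg' 2, hg' 3⟩
  · rw [inv_one, one_smul]
    obtain ⟨c, hc⟩ := (Submodule.mem_span_range_iff_exists_fun F).1
      (show u ∈ Submodule.span F (Set.range B) by
        rw [← hbs, bs.span_eq]; exact Submodule.mem_top)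
    have hcF : ∀ k, c k ∈ F₀ := by
      intro k
      have h0 := herm_rat (q := q) hu (hfr.rf 0)
      have h1 := herm_rat (q := q) hu (hfr.rf 1)
      have h2 := herm_rat (q := q) hu (hfr.re 0)
      have h3 := herm_rat (q := q) hu (hfr.re 1)
      rw [← hc] at h0 h1 h2 h3
      simp [B, Fin.sum_univ_four, H.add_left, H.smul_left, hfr.ee, hfr.ff, hfr.ef, hfr.fe]
        at h0 h1 h2 h3
      fin_cases k <;> assumption
    rw [← hc, map_sum]
    refine Finset.sum_induction _ (Rat F₀) (fun a b => Rat.add) Rat.zero fun k _ => ?_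
    rw [map_smul, hg', smul_smul]
    exact (hBr k).smul (F₀.mul_mem (hcF k) (hlF k))
  · classical
    rw [← LinearMap.det_toLin', ← LinearMap.det_toMatrix bs]
    have e0 : LinearMap.toMatrix bs bs (Matrix.toLin' ((g : GL (Fin 4) F) : Matrix (Fin 4) (Fin 4) F)) =
        Matrix.diagonal l := by
      ext a b
      rw [LinearMap.toMatrix_apply, Matrix.toLin'_apply, ← app_apply,
        show app (g : GL (Fin 4) F) (bs b) = l b • bs b by rw [hbs]; exact hg' b, map_smul,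
        Module.Basis.repr_self, Finsupp.smul_single, smul_eq_mul, mul_one, Finsupp.single_apply,
        Matrix.diagonal_apply]
      rcases eq_or_ne a b with rfl | hab
      · simp
      · simp [hab, Ne.symm hab]
    rw [e0, Matrix.det_diagonal, Fin.prod_univ_four]
    simp only [l, Matrix.cons_val, mul_pow, mul_inv]
    ring

/-- Rational pairs are conjugate to a rational multiple of the first frame pair. -/
lemma exists_su_map_pair {i j : Fin n} {e f : Fin 2 → Fin n → F}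
    (hfr : Frame F₀ q i j e f) {u v : V} (h : RPair F₀ q u v) :
    ∃ g ∈ Cfsg.Geo.subfieldSubgroup F₀ 1 ⊓ suGL n F q, ∃ c ∈ F₀, c ≠ 0 ∧
      app g u = e 0 ∧ app g v = c • e 1 := by
  obtain ⟨q₀, hq₀, hσ⟩ := C.exists_q0
  let _ : Fintype F₀ := Fintype.ofFinite F₀
  rw [Nat.card_eq_fintype_card] at hq₀
  let lo : ∀ x : V, Rat F₀ x → (Fin n → F₀) := fun x hx k => ⟨x k, hx k⟩
  have hfz : ∀ x y : V, ∀ (hx : Rat F₀ x) (hy : Rat F₀ y), hh x y = 0 →
      Cfsg.hermForm n F₀ q₀ (lo x hx) (lo y hy) = 0 :=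
    fun x y hx hy h => Subtype.ext (by
      rw [ZeroMemClass.coe_zero, ← h]
      simp only [Cfsg.hermForm, lo]
      push_cast
      exact Finset.sum_congr rfl fun k _ => by rw [hσ _ (hy k)])
  have hind : ∀ (x y : V) (hx : Rat F₀ x) (hy : Rat F₀ y), x ≠ 0 → (∀ c : F, c • x ≠ y) →
      LinearIndependent F₀ ![lo x hx, lo y hy] := fun x y hx hy hx0 hxy =>
    (LinearIndependent.pair_iff' fun h => hx0 (funext fun k =>
      congrArg Subtype.val (congrFun h k))).2 fun c hc => hxy c (funext fun k =>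
      congrArg Subtype.val (congrFun hc k))
  have h01 := hfr.pair_ee C.hF (a := 0) (b := 1) (by decide)
  obtain ⟨s, hs⟩ := exists_gu_witt hq₀ (hind u v h.ru h.rv h.u0 h.ind)
    (hind _ _ h01.ru h01.rv h01.u0 h01.ind) (fun a b => by
      fin_cases a <;> fin_cases b <;>
        simp [hfz, h.uu, h.vv, h.uv, h.vu C.hF, h01.uu, h01.vv, h01.uv, h01.vu C.hF])
  obtain ⟨g, hg, hgd, hgy⟩ := C.lift hσ s
  have hgu : app g u = e 0 := by
    have := hgy (lo u h.ru)
    rw [show _ *ᵥ lo u h.ru = lo (e 0) (hfr.re 0) from hs 0] at this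
    exact this
  have hgv : app g v = e 1 := by
    have := hgy (lo v h.rv)
    rw [show _ *ᵥ lo v h.rv = lo (e 1) (hfr.re 1) from hs 1] at this
    exact this
  set D := (g : Matrix (Fin n) (Fin n) F).det with hD
  have hD1 : D ^ (q + 1) = 1 := IsUnitary.det_norm C.hF (hg.2 : IsUnitary q _)
  obtain ⟨β, hβ, hβ0, hβD⟩ := C.exists_ratio (hgd ▸ Subtype.mem _) hD1
  obtain ⟨t, ht, htd, te0, te1, -, -⟩ := C.exists_torus hfr F₀.one_mem hβ one_ne_zero hβ0
  refine ⟨t * g, ⟨mul_mem ht.1 hg.1, mul_mem ht.2 hg.2, mem_sl_iff.2 ?_⟩, β, hβ, hβ0, ?_, ?_⟩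
  · rw [Units.val_mul, Matrix.det_mul, htd, ← hD, one_mul, ← hβD]
    field_simp [show D ≠ 0 from fun h0 => by simp [h0] at hD1]
  · rw [map_mul, LinearEquiv.mul_apply, hgu, te0, one_smul]
  · rw [map_mul, LinearEquiv.mul_apply, hgv, te1]

end Ctx

end Cfsg.Agent.C5.Uni4
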