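import Cfsg.Agent.Lib.C5.UnitaryFour
import Cfsg.Agent.Lib.C5.Transfer
/-
Subfield groups of odd prime index in SU_n.
* C5.isMaximalIn_unitary_subfield_four (n = 4)
-/
set_option autoImplicit false
open Cfsg Matrix

namespace Cfsg.Agent.C5

/-- The subfield group of odd prime index is maximal in SU_n, n = 4. -/
theorem isMaximalIn_unitary_subfield_four {F : Type*} [Field F] [Fintype F] (n q : ℕ) (hF : Fintype.card F = q ^ 2) (hn : n = 4) (F₀ : Subfield F) (r : ℕ) (hr : r.Prime) (hro : Odd r) (hcard : Fintype.card F = Nat.card F₀ ^ r) (P : Matrix.GeneralLinearGroup (Fin n) F) (hP : Cfsg.Geo.IsFormRationalStructure (Cfsg.hermForm n F q) F₀ 1 P) : Cfsg.Geo.IsMaximalIn (Cfsg.GU n F q ⊓ Cfsg.Geo.specialLinear (Fin n) F) (Cfsg.Geo.subfieldSubgroup F₀ P ⊓ (Cfsg.GU n F q ⊓ Cfsg.Geo.specialLinear (Fin n) F)) := by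
  classical
  have C : C5.Uni4.Ctx F₀ q n r := ⟨hF, hr, hro, hcard, hn⟩
  obtain ⟨q₀, hq₀, hσ⟩ := C.exists_q0
  let _ : Fintype F₀ := Fintype.ofFinite F₀
  rw [Nat.card_eq_fintype_card] at hq₀
  have H := Unitary.hermForm_isHerm hF n
  -- the form on rational vectors
  let up : (Fin n → F₀) → (Fin n → F) := fun x => Transvect.app P fun i => (x i : F)
  have up_add : ∀ x y, up (x + y) = up x + up y := fun x y => by
    show Transvect.app P ((fun i => (x i : F)) + fun i => (y i : F)) = _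
    rw [map_add]
  have up_smul : ∀ (c : F₀) x, up (c • x) = (c : F) • up x := fun c x => by
    show Transvect.app P ((c : F) • fun i => (x i : F)) = _
    rw [map_smul]
  let g : (Fin n → F₀) → (Fin n → F₀) → F₀ := fun x y =>
    ⟨Cfsg.hermForm n F q (up x) (up y), by
      have h1 := hP (fun i => (x i : F)) (fun i => (y i : F)) (fun i => (x i).2) (fun i => (y i).2)
      rw [one_mul] at h1
      exact h1⟩
  have Hg : Unitary.IsHerm q₀ g := by
    refine ⟨fun x y z => Subtype.ext ?_, fun c x z => Subtype.ext ?_, fun x y => Subtype.ext ?_⟩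
    · simp only [g]; push_cast; rw [up_add, H.add_left]
    · simp only [g]; push_cast; rw [up_smul, H.smul_left]
    · simp only [g]; push_cast
      rw [H.conj_symm (up x) (up y), hσ _ (g x y).2]
  have hnd : Unitary.Nondeg g := fun x hx => by
    have h0 : up x = 0 := Unitary.hermForm_nondeg hF n _ fun y => by
      rw [← Transvect.app_app_inv P y, pi_eq_sum_univ' (Transvect.app P⁻¹ y), map_sum, H.sum_right hF]
      refine Finset.sum_eq_zero fun i _ => ?_
      rw [map_smul, H.smul_right]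
      have h1 : Cfsg.hermForm n F q (up x) (up (Pi.single i 1)) = 0 :=
        congrArg Subtype.val (hx (Pi.single i 1))
      rw [show Transvect.app P (Pi.single i 1) = up (Pi.single i 1) from congrArg (Transvect.app P)
        (funext fun k => by by_cases h : k = i <;> simp [h]), h1, mul_zero]
    exact funext fun i => Subtype.ext (congrFun ((Transvect.app P).map_eq_zero_iff.1 h0) i)
  have hb := Unitary.exists_orthonormalBasis hq₀ Hg hnd
  rw [Module.finrank_fin_fun] at hb
  obtain ⟨b, hb⟩ := hb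
  let B : Matrix (Fin n) (Fin n) F₀ := Matrix.of fun i m => b m i
  set N : Matrix (Fin n) (Fin n) F := (P : Matrix (Fin n) (Fin n) F) * B.map F₀.subtype
  have hN : Unitary.IsUnitary q N := (Unitary.isUnitary_iff_orthonormal hF N).2
    ⟨fun m => congrArg Subtype.val (hb.1 m), fun m m' hm => congrArg Subtype.val (hb.2 hm)⟩
  let Q : Matrix.GeneralLinearGroup (Fin n) F := (Unitary.guOfUnitary hF N hN : Cfsg.GU n F q)
  have hQ : Q ∈ Cfsg.GU n F q := (Unitary.guOfUnitary hF N hN).2
  set R := P⁻¹ * Q with hR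
  have hRmem : R ∈ Cfsg.Geo.subfieldSubgroup F₀ 1 := C5.ratLine_mem_iff.2
    ⟨1, one_ne_zero, fun u hu i => by
      rw [inv_one, one_smul, hR, map_mul, LinearEquiv.mul_apply,
        show Transvect.app Q u = Transvect.app P (B.map F₀.subtype *ᵥ u) from
          (Matrix.mulVec_mulVec u _ _).symm, Transvect.app_inv_app]
      exact F₀.sum_mem (t := Finset.univ) fun m _ => F₀.mul_mem (B i m).2 (hu m)⟩
  -- the standard position
  have key : Cfsg.Geo.IsMaximalIn (Unitary.suGL n F q)
      (Cfsg.Geo.subfieldSubgroup F₀ 1 ⊓ Unitary.suGL n F q) := by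
    refine Transvect.isMaximalIn_of_forall inf_le_right ?_ fun M hHM hMK g hg hgH =>
      C.suGL_le_of_not_mem hHM hMK hg fun h => hgH ⟨h, hMK hg⟩
    obtain ⟨c, hcs, hc⟩ : ∃ c : F, c + c ^ q = 0 ∧ c ∉ F₀ := by
      by_contra! hall
      obtain ⟨x, hx, hxq⟩ := C.exists_nonfixed
      obtain ⟨δ, hδ, hδ0, hδs⟩ := C.exists_delta
      have hfix : ∀ y : F, y ^ q = y → y ∈ F₀ := fun y hy => by
        have h1 := hall (δ * y) (by rw [mul_pow, hy]; linear_combination y * hδs)
        have := F₀.mul_mem (F₀.inv_mem hδ) h1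
        rwa [inv_mul_cancel_left₀ hδ0] at this
      have hmem : ∀ y : F, y ∈ F₀ := fun y => by
        have h1 := hfix _ (Unitary.trace_fixed hF y)
        have h2 := hfix _ (Unitary.trace_fixed hF (x * y))
        have h3 := F₀.sub_mem h2 (F₀.mul_mem (pow_mem hx q) h1)
        rw [mul_pow, show x * y + x ^ q * y ^ q - x ^ q * (y + y ^ q) = (x - x ^ q) * y by ring] at h3
        have := F₀.mul_mem (F₀.inv_mem (F₀.sub_mem hx (pow_mem hx q))) h3
        rwa [inv_mul_cancel_left₀ (sub_ne_zero.2 (Ne.symm hxq))] at this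
      have h1 : Nat.card F₀ = Fintype.card F := by
        rw [← Nat.card_eq_fintype_card]
        exact Nat.card_congr (Equiv.subtypeUnivEquiv hmem)
      have h2 := Nat.pow_lt_pow_right (Fintype.one_lt_card (α := F)) hr.one_lt
      rw [pow_one] at h2
      rw [h1] at hcard
      omega
    obtain ⟨i, j, e, f, hfr⟩ := C.exists_frame
    have hee := hfr.ee 0 0
    refine ⟨C5.Uni.tu q (e 0) c, C5.Uni.tu_mem_suGL hF hee hcs, fun h => hc ?_⟩
    have h2 := C5.Uni.rat_app_of_mem h.1 (hfr.re 0) (hfr.e_ne hF 0)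
      (by rw [C5.Uni.tu_apply hee, hee]; simpa using hfr.re 0) (hfr.rf 0)
    have h3 := h2.sub (hfr.rf 0)
    rw [C5.Uni.tu_apply hee, add_sub_cancel_left, hfr.fe, if_pos rfl, mul_one] at h3
    exact C5.mem_of_smul_rat (hfr.re 0) (hfr.e_ne hF 0) h3
  have h1 := C5.isMaximalIn_map (MulAut.conj Q) key
  have hK : (Unitary.suGL n F q).map (MulAut.conj Q).toMonoidHom = Unitary.suGL n F q := by
    rw [Subgroup.map_inf _ _ (MulAut.conj Q).toMonoidHom (MulEquiv.injective _),
      C5.specialLinear_map_conj]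
    congr 1
    ext x
    rw [Subgroup.mem_map]
    exact ⟨fun ⟨y, hy, hyx⟩ => hyx ▸ mul_mem (mul_mem hQ hy) (inv_mem hQ), fun hx =>
      ⟨Q⁻¹ * x * Q, mul_mem (mul_mem (inv_mem hQ) hx) hQ, by simp [mul_assoc]⟩⟩
  have hS : (Cfsg.Geo.subfieldSubgroup F₀ 1).map (MulAut.conj Q).toMonoidHom =
      Cfsg.Geo.subfieldSubgroup F₀ P := by
    rw [C5.subfieldSubgroup_eq_map F₀ P]
    ext x
    rw [Subgroup.mem_map, Subgroup.mem_map]
    constructor
    · rintro ⟨y, hy, rfl⟩
      exact ⟨R * y * R⁻¹, mul_mem (mul_mem hRmem hy) (inv_mem hRmem), by simp [hR, mul_assoc]⟩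
    · rintro ⟨y, hy, rfl⟩
      exact ⟨R⁻¹ * y * R, mul_mem (mul_mem (inv_mem hRmem) hy) hRmem, by simp [hR, mul_assoc]⟩
  rw [Subgroup.map_inf (Cfsg.Geo.subfieldSubgroup F₀ 1) (Unitary.suGL n F q)
    (MulAut.conj Q).toMonoidHom (MulEquiv.injective _), hK, hS] at h1
  exact h1

end Cfsg.Agent.C5
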